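import Cfsg.Agent.Lib.Solv.SylowIn
import Cfsg.Agent.Lib.Fit.Core

/-!
# Groups without real elements of order three: closure properties
-/

set_option autoImplicit false

namespace Cfsg.Agent.NR

open Subgroup Solv
open scoped Pointwise

/-- No element of order three is conjugate to its inverse. -/
def NoReal (G : Type*) [Group G] : Prop := ∀ x : G, orderOf x = 3 → ¬ IsConj x x⁻¹

/-- The group is generated by its 2-elements. -/
def Gen2 (G : Type*) [Group G] : Prop :=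
  Subgroup.closure {g : G | ∃ k : ℕ, orderOf g = 2 ^ k} = ⊤

variable {G : Type*} [Group G] {H : Type*} [Group H]

instance fact3 : Fact (Nat.Prime 3) := ⟨Nat.prime_three⟩

theorem NoReal.eq_one (h : NoReal G) {n : G} : ∀ (k : ℕ) {y : G}, y ^ 3 ^ k = 1 →
    n * y * n⁻¹ = y⁻¹ → y = 1 := by
  intro k
  induction k with
  | zero => intro y hy _; simpa using hy
  | succ k ih =>
    intro y hy hn
    have h3 : y ^ 3 = 1 := ih (by rw [← pow_mul, ← pow_succ']; exact hy)
      (by rw [← conj_pow, hn, inv_pow])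
    by_contra h1
    exact h y (orderOf_eq_prime h3 h1) (isConj_iff.2 ⟨n, hn⟩)

theorem NoReal.cent_of_sq (h : NoReal G) {P : Subgroup G} (hP : IsPGroup 3 P) {n : G}
    (hn : n ∈ normalizer (P : Set G)) (h2 : n ^ 2 ∈ centralizer (P : Set G)) :
    n ∈ centralizer (P : Set G) := by
  rw [mem_centralizer_iff] at h2 ⊢
  intro r hr
  have hy : r⁻¹ * (n * r * n⁻¹) ∈ P := mul_mem (inv_mem hr) ((mem_normalizer_iff.1 hn r).1 hr)
  obtain ⟨k, hk⟩ := hP ⟨_, hy⟩
  have hk' : (r⁻¹ * (n * r * n⁻¹)) ^ 3 ^ k = 1 := congrArg Subtype.val hk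
  have h3 := h2 r hr
  have h4 : n * (r⁻¹ * (n * r * n⁻¹)) * n⁻¹ = (r⁻¹ * (n * r * n⁻¹))⁻¹ := by
    have : n * (r⁻¹ * (n * r * n⁻¹)) * n⁻¹ = n * r⁻¹ * n⁻¹ * (n ^ 2 * r) * (n ^ 2)⁻¹ := by
      rw [sq]; group
    rw [this, ← h3]; group
  have h5 := h.eq_one k hk' h4
  calc r * n = r * (r⁻¹ * (n * r * n⁻¹)) * n := by rw [h5, mul_one]
    _ = n * r := by group

theorem NoReal.cent_of_two_pow (h : NoReal G) {P : Subgroup G} (hP : IsPGroup 3 P) :
    ∀ (a : ℕ) {n : G}, n ∈ normalizer (P : Set G) → n ^ 2 ^ a ∈ centralizer (P : Set G) →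
      n ∈ centralizer (P : Set G) := by
  intro a
  induction a with
  | zero => intro n _ h2; simpa using h2
  | succ a ih =>
    intro n hn h2
    exact h.cent_of_sq hP hn (ih (pow_mem hn 2) (by rw [← pow_mul, ← pow_succ']; exact h2))

/-- A 2-element centralizes every 3-subgroup it normalizes. -/
theorem NoReal.cent_of_two_elt (h : NoReal G) {P : Subgroup G} (hP : IsPGroup 3 P) {n : G} {a : ℕ}
    (hn : n ∈ normalizer (P : Set G)) (h2 : n ^ 2 ^ a = 1) : n ∈ centralizer (P : Set G) :=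
  h.cent_of_two_pow hP a hn (by rw [h2]; exact one_mem _)

theorem NoReal.odd_pow [Finite G] (h : NoReal G) {P : Subgroup G} (hP : IsPGroup 3 P) {n : G}
    (hn : n ∈ normalizer (P : Set G)) : ∃ m, Odd m ∧ n ^ m ∈ centralizer (P : Set G) := by
  obtain ⟨a, m, hm, he⟩ := Nat.exists_eq_two_pow_mul_odd (orderOf_pos n).ne'
  refine ⟨m, hm, h.cent_of_two_elt hP (a := a) (pow_mem hn m) ?_⟩
  rw [← pow_mul, mul_comm, ← he, pow_orderOf_eq_one]

theorem NoReal.of_injective (h : NoReal G) (f : H →* G) (hf : Function.Injective f) :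
    NoReal H := fun x hx hc =>
  h (f x) (by rw [orderOf_injective f hf, hx]) (by rw [← map_inv]; exact f.map_isConj hc)

theorem NoReal.subgroup (h : NoReal G) (K : Subgroup G) : NoReal K :=
  h.of_injective K.subtype K.subtype_injective

theorem NoReal.of_equiv (h : NoReal G) (e : G ≃* H) : NoReal H :=
  h.of_injective e.symm.toMonoidHom e.symm.injective

theorem conj_odd_pow {g x : G} (h : g * x * g⁻¹ = x⁻¹) {m : ℕ} (hm : Odd m) :
    g ^ m * x * (g ^ m)⁻¹ = x⁻¹ := by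
  obtain ⟨k, rfl⟩ := hm
  have h2 : g ^ 2 * x * (g ^ 2)⁻¹ = x := by
    have : g ^ 2 * x * (g ^ 2)⁻¹ = g * (g * x * g⁻¹) * g⁻¹ := by rw [sq]; group
    rw [this, h, ← conj_inv, h, inv_inv]
  have h3 : Commute (g ^ 2) x := by
    rw [Commute, SemiconjBy]; rw [mul_inv_eq_iff_eq_mul] at h2; exact h2
  have h4 : (g ^ 2) ^ k * x * ((g ^ 2) ^ k)⁻¹ = x := by
    rw [(h3.pow_left k).eq, mul_inv_cancel_right]
  calc g ^ (2 * k + 1) * x * (g ^ (2 * k + 1))⁻¹
      = g * ((g ^ 2) ^ k * x * ((g ^ 2) ^ k)⁻¹) * g⁻¹ := by rw [pow_succ', pow_mul]; group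
    _ = x⁻¹ := by rw [h4, h]

theorem NoReal.of_surjective [Finite G] (h : NoReal G) (f : G →* H) (hf : Function.Surjective f) :
    NoReal H := by
  intro x hx hc
  obtain ⟨g', hg⟩ := isConj_iff.1 hc
  obtain ⟨g, rfl⟩ := hf g'
  set X : Subgroup G := (zpowers x).comap f with hX
  have hgX : g ∈ normalizer (X : Set G) := by
    refine mem_normalizer_fintype fun y hy => ?_
    obtain ⟨k, hk⟩ := mem_zpowers_iff.1 (mem_comap.1 hy)
    refine mem_comap.2 ?_
    rw [map_mul, map_mul, map_inv, ← hk, ← conj_zpow, hg]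
    exact zpow_mem (inv_mem (mem_zpowers x)) k
  obtain ⟨P, hP⟩ := exists_isSylowIn 3 X
  obtain ⟨k, hk, hn⟩ := hP.frattini hgX
  obtain ⟨m, hm, hcm⟩ := h.odd_pow hP.pgroup hn
  have hkx : Commute (f k) x := by
    obtain ⟨j, hj⟩ := mem_zpowers_iff.1 (mem_comap.1 hk)
    rw [← hj]; exact (Commute.refl x).zpow_left j
  have h1 : f (k⁻¹ * g) * x * (f (k⁻¹ * g))⁻¹ = x⁻¹ := by
    have : f (k⁻¹ * g) * x * (f (k⁻¹ * g))⁻¹ = (f k)⁻¹ * (f g * x * (f g)⁻¹) * f k := by
      rw [map_mul, map_inv]; group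
    rw [this, hg, mul_assoc, ← hkx.inv_right.eq, inv_mul_cancel_left]
  have h2 := conj_odd_pow h1 hm
  -- `x` is the image of an element of `P`
  obtain ⟨r, hr, rfl⟩ : ∃ r ∈ P, f r = x := by
    obtain ⟨y, hy⟩ := hf x
    obtain ⟨a, b, hb, he⟩ := Nat.exists_eq_pow_mul_and_not_dvd (orderOf_pos y).ne' 3 (by norm_num)
    have hyX : y ∈ X := mem_comap.2 (by rw [hy]; exact mem_zpowers x)
    have hQ : IsPGroup 3 (zpowers (y ^ b)) := by
      rw [IsPGroup.iff_card]
      obtain ⟨c, -, hc⟩ := (Nat.dvd_prime_pow Nat.prime_three).1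
        (orderOf_dvd_of_pow_eq_one (x := y ^ b) (n := 3 ^ a)
          (by rw [← pow_mul, mul_comm, ← he, pow_orderOf_eq_one]))
      exact ⟨c, by rw [Nat.card_zpowers, hc]⟩
    obtain ⟨c, hc, hle⟩ := hP.exists_conj_le (U := zpowers (y ^ b))
      (zpowers_le_of_mem (pow_mem hyX b)) hQ
    have h3 := Fit.mem_conj_smul.1 (hle (mem_zpowers _))
    have hcx : Commute (f c) x := by
      obtain ⟨j, hj⟩ := mem_zpowers_iff.1 (mem_comap.1 hc)
      rw [← hj]; exact (Commute.refl x).zpow_left j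
    obtain ⟨j, hj⟩ := exists_pow_eq_self_of_coprime (x := x) (n := b) (by
      rw [hx]; exact ((Nat.Prime.coprime_iff_not_dvd Nat.prime_three).2 hb).symm)
    refine ⟨_, pow_mem h3 j, ?_⟩
    rw [map_pow, map_mul, map_mul, map_inv, map_pow, hy, mul_assoc, ← (hcx.pow_right b).eq,
      inv_mul_cancel_left, hj]
  have h5 := mem_centralizer_iff.1 hcm r hr
  rw [← map_pow, ← map_mul, ← h5, map_mul, mul_inv_cancel_right] at h2
  have h6 : orderOf (f r) ∣ 2 := orderOf_dvd_of_pow_eq_one (by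
    rw [sq]; exact mul_eq_one_iff_eq_inv.2 h2)
  rw [hx] at h6
  omega

theorem NoReal.quotient [Finite G] (h : NoReal G) (N : Subgroup G) [N.Normal] : NoReal (G ⧸ N) :=
  h.of_surjective _ (QuotientGroup.mk'_surjective N)

theorem Gen2.eq_top (h : Gen2 G) {M : Subgroup G} (hM : ∀ (g : G) (k : ℕ), g ^ 2 ^ k = 1 → g ∈ M) :
    M = ⊤ := by
  rw [eq_top_iff, ← show _ = _ from h, closure_le]
  rintro g ⟨k, hk⟩
  exact hM g k (by rw [← hk, pow_orderOf_eq_one])

theorem Gen2.of_surjective (h : Gen2 G) (f : G →* H) (hf : Function.Surjective f) : Gen2 H := by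
  have h1 : (closure {g : H | ∃ k : ℕ, orderOf g = 2 ^ k}).comap f = ⊤ := h.eq_top fun g k hk => by
    obtain ⟨c, -, hc⟩ := (Nat.dvd_prime_pow Nat.prime_two).1
      (orderOf_dvd_of_pow_eq_one (x := f g) (n := 2 ^ k) (by rw [← map_pow, hk, map_one]))
    exact mem_comap.2 (subset_closure ⟨c, hc⟩)
  rw [Gen2, eq_top_iff]
  intro x _
  obtain ⟨g, rfl⟩ := hf x
  exact mem_comap.1 (h1 ▸ mem_top g)

/-- Frattini argument: a normal subgroup is supplemented by the centralizer of its Sylow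
3-subgroup. -/
theorem frattini [Finite G] (h : NoReal G) (hg : Gen2 G) {E P : Subgroup G} [E.Normal]
    (hP : IsSylowIn 3 P E) (g : G) : ∃ e ∈ E, ∃ c ∈ centralizer (P : Set G), g = e * c := by
  have h1 : E ⊔ centralizer (P : Set G) = ⊤ := hg.eq_top fun u a hu => by
    obtain ⟨k, hk, hn⟩ := hP.frattini (g := u) (le_normalizer_of_normal (mem_top u))
    obtain ⟨m, hm, hc⟩ := h.odd_pow hP.pgroup hn
    have h2 : u ^ m * ((k⁻¹ * u) ^ m)⁻¹ ∈ E := by
      rw [← QuotientGroup.eq_one_iff, QuotientGroup.mk_mul, QuotientGroup.mk_inv,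
        QuotientGroup.mk_pow, QuotientGroup.mk_pow, QuotientGroup.mk_mul,
        (QuotientGroup.eq_one_iff _).2 (inv_mem hk), one_mul, mul_inv_cancel]
    have h3 : u ^ m ∈ E ⊔ centralizer (P : Set G) := by
      have := mul_mem (mem_sup_left h2 : _ ∈ E ⊔ centralizer (P : Set G)) (mem_sup_right hc)
      rwa [inv_mul_cancel_right] at this
    obtain ⟨j, hj⟩ := exists_pow_eq_self_of_coprime (x := u) (n := m)
      (Nat.Coprime.coprime_dvd_right (orderOf_dvd_of_pow_eq_one hu)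
        (Nat.Coprime.pow_right a (Nat.coprime_two_right.2 hm)))
    rw [← hj]; exact pow_mem h3 j
  have h2 : g ∈ ((E ⊔ centralizer (P : Set G) : Subgroup G) : Set G) := h1 ▸ mem_top g
  rw [normal_mul] at h2
  obtain ⟨e, he, c, hc, rfl⟩ := h2
  exact ⟨e, he, c, hc, rfl⟩

/-- A normal 3-subgroup is central. -/
theorem le_center (h : NoReal G) (hg : Gen2 G) {Z : Subgroup G} [Z.Normal]
    (hZ : IsPGroup 3 Z) : Z ≤ center G := by
  have h1 : centralizer (Z : Set G) = ⊤ := hg.eq_top fun u a hu =>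
    h.cent_of_two_elt hZ (le_normalizer_of_normal (mem_top u)) hu
  exact centralizer_eq_top_iff_subset.1 h1

end Cfsg.Agent.NR
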