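import Cfsg.Agent.Lib.NR.KOf

/-! Four-group case: configuration (alpha) does not occur. -/

namespace Cfsg.Agent.NR

open Subgroup FT SF.GP SF.T TwoGrp GW

universe u

variable {G : Type u} [Group G] [Finite G] {t s n y z : G} {Y : Subgroup G} {p : ℕ}

theorem Alpha.false [hp : Fact p.Prime] (a : Alpha t s p Y y z) (h : F4 t s) (OF : OFStmt.{u})
    (hN : 𝐍(zpowers z) = 𝐂[t]) (hn : n ∈ 𝐂(Y)) (nt : n * t * n⁻¹ = s) (ns : n * s * n⁻¹ = t * s)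
    (hR : ∀ N : Subgroup G, t ∈ N → s ∈ N → 𝐂(Y) ≤ 𝐍(N) → n ∈ N) : False := by
  classical
  have := Fintype.ofFinite G
  have oU : Odd #|𝐎(𝐂[t])| := odd_core _
  have UH : 𝐎(𝐂[t]) ≤ 𝐂[t] := pcore_sub _ _
  have tY : t ∈ 𝐂(Y) := sub_cent1.1 (a.YU.trans UH)
  have sY : s ∈ 𝐂(Y) := sub_cent1.1 a.Ys
  have cy : 𝐂(Y) ≤ 𝐂[y] := cent_le_cent1 a.yY
  have z1 : z ≠ 1 := fun e => hp.out.ne_one (by rw [← a.oz, e, orderOf_one])
  have y1 : y ≠ 1 := fun e => hp.out.ne_one (by rw [← a.oy, e, orderOf_one])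
  have oz := odd_of_mem oU a.zU
  have of := fun X (hX : 𝐂(Y) ≤ X) => h.of_sub OF (hX tY) (hX sY) (hX hn) nt ns
    fun N h1 h2 h3 => hR N h1 h2 (hX.trans h3)
  have e1 := (of ⊤ le_top).2
  have e2 := (of _ cy).1
  have e3 := (of _ le_rfl).1
  have e4 := h.idx (cy tY) (cy sY)
  have e5 := F4.kk 𝐎(𝐂[t]) 𝐂[s] 𝐂[y]
  rw [inf_top_eq, relIndex_top_right] at e1
  have e6 : p ≤ 𝐂[s].relIndex (𝐎(𝐂[t]) ⊓ 𝐂(Y)) := Nat.le_of_dvd (indexg_gt0 _ _)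
    (dvd_of_iv (odd_of_le inf_le_left oU) h.ss (normsI (norms_cycle.2 (pcore_norm _ _ h.sH))
      (normsG (zpowers_le.2 sY)) (mem_zpowers s)) ⟨a.zU, a.zY⟩ z1
      (pgroup_of_card_prime (by rw [card_cycle, a.oz])) a.iv)
  let Z : Finset G := Finset.univ.filter (· ∈ zpowers z)
  have cZ : Z.card = p := by rw [← a.oz, ← card_cycle, ← card_filter_mem]
  have e7 : 𝐂[y].relIndex 𝐎(𝐂[t]) ≤ p * 𝐂[y].relIndex (𝐎(𝐂[t]) ⊓ 𝐂[s]) := by
    rw [← card_clX, ← card_clX, ← cZ, ← Finset.card_product]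
    refine (Finset.card_le_card (t := (Z ×ˢ clX (𝐎(𝐂[t]) ⊓ 𝐂[s]) y).image fun q => q.1 * q.2)
      fun u hu => ?_).trans Finset.card_image_le
    obtain ⟨c, hc, rfl⟩ := mem_clX.1 hu
    obtain ⟨b, hb, w, hw, e⟩ := a.up c hc
    exact Finset.mem_image.2 ⟨(w, _), Finset.mem_product.2 ⟨by simpa [Z] using hw, mem_clX.2 ⟨b, hb, rfl⟩⟩,
      e.symm⟩
  have e8 : 𝐂[y].relIndex (𝐎(𝐂[t]) ⊓ 𝐂[s]) * (𝐂[t].relIndex 𝐂(Y) * (p - 1)) ≤ 𝐂[y].index := by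
    have f : ∀ u ∈ clX 𝐂(Y) t, ∃ m ∈ 𝐂(Y), m * t * m⁻¹ = u := fun u hu => mem_clX.1 hu
    choose! f hf hf' using f
    have hY : ∀ c ∈ clX (𝐎(𝐂[t]) ⊓ 𝐂[s]) y, c ∈ Y := fun c hc => by
      obtain ⟨b, hb, rfl⟩ := mem_clX.1 hc
      exact (memJ_norm (a.BY hb)).2 a.yY
    rw [← relIndex_top_right, ← card_clX, ← card_clX, ← card_clX, ← cZ,
      ← Finset.card_erase_of_mem (show (1 : G) ∈ Z by simp [Z]), ← Finset.card_product, ← Finset.card_product]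
    refine Finset.card_le_card_of_injOn (fun q => f q.2.1 * q.2.2 * (f q.2.1)⁻¹ * q.1) ?_ ?_
    · rintro ⟨c, u, w⟩ hq
      simp only [Finset.coe_product, Set.mem_prod, Finset.mem_coe, Finset.mem_erase, Z, Finset.mem_filter,
        Finset.mem_univ, true_and] at hq
      obtain ⟨hc, hu, w1, hw⟩ := hq
      obtain ⟨k, -, e⟩ := a.lo c (hY c hc) (clX_ne y1 hc) w hw
      have e' := cent1_conj.1 (cent_le_cent1 (hY c hc) (hf u hu))
      obtain ⟨b, -, rfl⟩ := mem_clX.1 hc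
      refine Finset.mem_coe.2 (mem_clX.2 ⟨f u * k * b, trivial, ?_⟩)
      rw [show f u * k * b * y * (f u * k * b)⁻¹ = f u * (k * (b * y * b⁻¹) * k⁻¹) * (f u)⁻¹ by group, e]
      nth_rw 2 [← e']
      group
    · rintro ⟨c, u, w⟩ hq ⟨c', u', w'⟩ hq' e
      simp only [Finset.coe_product, Set.mem_prod, Finset.mem_coe, Finset.mem_erase, Z, Finset.mem_filter,
        Finset.mem_univ, true_and] at hq hq' e
      obtain ⟨hc, hu, w1, hw⟩ := hq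
      obtain ⟨hc', hu', w1', hw'⟩ := hq'
      have hη := mul_mem (hY c' hc') (inv_mem (hY c hc))
      have e0 : f u * w * (f u)⁻¹ = f u' * w' * (f u')⁻¹ * (c' * c⁻¹) := by
        rw [← mul_assoc, ← e]; group
      have k1 : u' ∈ 𝐂[f u' * w' * (f u')⁻¹] := by
        rw [cent1J]; nth_rw 2 [← hf' u' hu']
        exact Tr.conj_mem_cj.2 (cent1C.1 (zpowers_le.2 (UH a.zU) hw'))
      have k2 : u' ∈ 𝐂[c' * c⁻¹] := cent_le_cent1 hη (clX_le tY hu')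
      have k3 : (f u)⁻¹ * u' * f u ∈ 𝐂[w] := by
        have := PG.cent_mul k1 k2
        rwa [← e0, cent1J, Tr.mem_cj] at this
      have k4 : (f u)⁻¹ * u' * f u = t := h.eq_t oz z1 a.iv (UH a.zU) hN (by
          rwa [← cent_cycle, ← nt_gen_prime (X := zpowers z) (by rw [card_cycle, a.oz]; exact hp.out) hw w1,
            cent_cycle] at k3)
        (by have := (sq_conj (g := (f u)⁻¹)).2 (clX_sq h.tt hu'); rwa [inv_inv] at this)
        (fun e => clX_ne h.t1 hu' (by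
          rw [show u' = f u * ((f u)⁻¹ * u' * f u) * (f u)⁻¹ by group, e]; group))
      obtain rfl : u = u' := by rw [← hf' u hu, ← k4]; group
      have k5 := cent1_conj.1 (inv_mem (cent_le_cent1 hη (hf u hu)))
      have k6 : c' * c⁻¹ = w'⁻¹ * w := by
        rw [← k5, show w = (f u)⁻¹ * (f u * w * (f u)⁻¹) * f u by group, e0]; group
      have k7 : c' * c⁻¹ = 1 := (a.iv.zp (k6 ▸ mul_mem (inv_mem hw') hw)).eq_one
        (odd_of_mem oU (a.YU hη)) (cent1C.1 (a.Ys hη))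
      rw [mul_inv_eq_one.1 k7, inv_mul_eq_one.1 (k6.symm.trans k7)]
  have p1 := indexg_gt0 (𝐎(𝐂[t]) ⊓ 𝐂[s]) 𝐂[y]
  have p2 := indexg_gt0 (𝐎(𝐂[t]) ⊓ 𝐂[y]) 𝐂[s]
  have p3 := hp.out.two_le
  generalize 𝐂[y].relIndex (𝐎(𝐂[t]) ⊓ 𝐂[s]) = b at *
  generalize 𝐂[s].relIndex (𝐎(𝐂[t]) ⊓ 𝐂[y]) = kM at *
  generalize 𝐂[s].relIndex (𝐎(𝐂[t]) ⊓ 𝐂(Y)) = k1 at *
  generalize 𝐂[s].relIndex 𝐎(𝐂[t]) = k at *
  generalize 𝐂[y].relIndex 𝐎(𝐂[t]) = j at *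
  generalize 𝐂[t].relIndex 𝐂(Y) = g1 at *
  generalize 𝐂[t].relIndex 𝐂[y] = gM at *
  generalize 𝐂[t].index = g at *
  generalize 𝐂[y].index = A at *
  obtain ⟨q, rfl⟩ : ∃ q, p = q + 1 := ⟨p - 1, by omega⟩
  rw [Nat.add_sub_cancel] at e8
  have i1 : k ≤ (q + 1) * kM := Nat.le_of_mul_le_mul_right (by
    calc k * b = j * kM := e5
      _ ≤ (q + 1) * b * kM := Nat.mul_le_mul_right _ e7
      _ = (q + 1) * kM * b := by ring) p1
  have i2 : 55 * A ≤ 135 * (q + 1) ^ 3 * b := Nat.le_of_mul_le_mul_right (by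
    calc 55 * A * kM ^ 2 = A * (55 * kM ^ 2) := by ring
      _ ≤ A * (9 * gM) := Nat.mul_le_mul_left _ e2
      _ = 9 * (g * j) := by rw [← e4]; ring
      _ ≤ 9 * (15 * ((q + 1) * kM) ^ 2 * ((q + 1) * b)) := Nat.mul_le_mul_left _ (Nat.mul_le_mul
          (e1.trans (Nat.mul_le_mul_left _ (Nat.pow_le_pow_left i1 2))) e7)
      _ = 135 * (q + 1) ^ 3 * b * kM ^ 2 := by ring) (by positivity)
  have i3 : 3025 * q ≤ 1215 * (q + 1) := Nat.le_of_mul_le_mul_right (by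
    calc 3025 * q * ((q + 1) ^ 2 * b) = 55 * b * q * (55 * (q + 1) ^ 2) := by ring
      _ ≤ 55 * b * q * (9 * g1) := Nat.mul_le_mul_left _
          ((Nat.mul_le_mul_left _ (Nat.pow_le_pow_left e6 2)).trans e3)
      _ = 9 * (55 * (b * (g1 * q))) := by ring
      _ ≤ 9 * (135 * (q + 1) ^ 3 * b) := Nat.mul_le_mul_left _ ((Nat.mul_le_mul_left _ e8).trans i2)
      _ = 1215 * (q + 1) * ((q + 1) ^ 2 * b) := by ring) (by positivity)
  omega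

end Cfsg.Agent.NR
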