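import Cfsg.Agent.Lib.NR.KCh3
import Cfsg.Agent.Lib.GW.Ch6
import Cfsg.Agent.Lib.GW.PGen

/-! Four-group Sylow subgroup: the centralizer of the four-group has no odd part. -/

set_option linter.unusedSectionVars false

namespace Cfsg.Agent.NR

open Subgroup Finset FT SF.GP TwoGrp Cfsg.Agent.Char GW
open scoped ComplexConjugate Classical

namespace KF

variable {G : Type*} [Group G] [Fintype G] (P : KF G) {a b h u v g : G}
  {f f' φ ψ φ1 φ2 φ3 χ β : G → ℂ} {T : Subgroup G}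

theorem coset_s (hf : CF 𝐂[P.t] f) :
    sm P.U (fun u => f (P.s * u)) = P.m * sm P.B fun b => f (P.s * b) := by
  have h := isX (X := 𝐂[P.t]) (z := P.s) hf
  rw [P.card_cl (.inl rfl), SS_congr (q := fun g => P.s * g ∈ P.B) (fun g => P.io_V (.inl rfl))
    (fun _ _ => rfl), SS_coset P.ss] at h
  rw [← h, ← SS_coset P.ss]
  refine SS_congr (fun g => ?_) fun _ _ => rfl
  have key : ∀ v ∈ P.V, g ∈ 𝐂[P.t] → io g ∈ clX 𝐂[P.t] v → v * g ∈ P.U := fun v hv hg h1 => by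
    have := mul_mem (P.cl_U hv h1) (P.mem_U.2 ⟨mul_mem (io_mem_of hg) hg, P.odd_io g⟩)
    rwa [mul_assoc, ← mul_assoc (io g), io_sq, one_mul] at this
  refine ⟨fun h1 => ?_, fun h1 => key _ P.sV h1.1 h1.2⟩
  have hg : g ∈ 𝐂[P.t] := (mul_mem_cancel_left P.sH).1 (P.U_le h1)
  obtain ⟨v, hv, h2⟩ := P.inv_H (io_mem_of hg) (io_sq g)
  have h3 := mul_mem (key v hv hg h2) (inv_mem h1)
  rw [show v * g * (P.s * g)⁻¹ = v * P.s⁻¹ by group] at h3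
  exact ⟨hg, mul_inv_eq_one.1 (P.V_U (mul_mem hv (inv_mem P.sV)) h3) ▸ h2⟩

theorem card_U : (#|P.U| : ℂ) = P.m * #|P.B| := by
  rw [← Solv.card_mul_relIndex P.BU, m]; push_cast; ring

/-- `U⟨s⟩` -/
def Y : Subgroup G where
  carrier := {g | g ∈ P.U ∨ P.s * g ∈ P.U}
  one_mem' := .inl (one_mem _)
  mul_mem' := by
    rintro a b (ha | ha) (hb | hb)
    · exact .inl (mul_mem ha hb)
    · exact .inr (by simpa using P.mul_U (one_mem _) P.sV (by simpa using ha) hb)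
    · exact .inr (by simpa [mul_assoc] using mul_mem ha hb)
    · exact .inl (by simpa [P.ss] using P.mul_U P.sV P.sV ha hb)
  inv_mem' := by
    rintro a (ha | ha)
    · exact .inl (inv_mem ha)
    · exact .inr (by simpa [mul_assoc, P.si, P.ss] using P.U_nrm.conj_mem P.sH (inv_mem ha))

theorem Y_le : P.Y ≤ 𝐂[P.t] := by
  rintro a (ha | ha)
  exacts [P.U_le ha, (mul_mem_cancel_left P.sH).1 (P.U_le ha)]

theorem sm_Y : sm P.Y f = sm P.U f + sm P.U fun u => f (P.s * u) := by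
  rw [← SS_coset P.ss]
  exact SS_split (fun _ => Iff.rfl) fun g h h' =>
    P.s1 (P.V_U P.sV ((mul_mem_cancel_right h).1 h'))

theorem parity (hφ : GC 𝐂[P.t] φ) (hs : ∀ g ∈ 𝐂[P.t], φ (P.s * g) = φ g) (χ : IrrCharacter G) :
    ∃ n : ℤ, P.d φ χ + ip P.B (fun b => χ.1 (P.t * (P.s * b))) φ = 2 * n := by
  have hθ := P.gc_t (isGen_of_isIrr χ.2)
  obtain ⟨n, hn⟩ := (hθ.mono P.Y_le).int (hφ.mono P.Y_le)
  have h1 := P.sm_Y (f := fun _ => 1)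
  have h2 := P.sm_Y (f := fun g => χ.1 (P.t * g) * conj (φ g))
  simp only [sm_const, mul_one] at h1
  rw [sm_ip, sm_ip, P.coset_s (hθ.cf.mul hφ.cf.conj), hn, P.d_eq hφ, h1,
    sm_congr (g := fun b => χ.1 (P.t * (P.s * b)) * conj (φ b)) fun b hb => by
      rw [hs b (P.U_le hb.1)], sm_ip, ← mul_assoc, ← P.card_U] at h2
  exact ⟨n, mul_left_cancel₀ (cX P.U) (by linear_combination -h2)⟩

theorem parity2 (hφ : GC 𝐂[P.t] φ) (hs : ∀ g ∈ 𝐂[P.t], φ (P.s * g) = φ g) (hψ : GC 𝐂[P.t] ψ)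
    (hs' : ∀ g ∈ 𝐂[P.t], ψ (P.s * g) = ψ g) (h : ∀ b ∈ P.B, ψ (P.x * b * P.x⁻¹) = φ b)
    (χ : IrrCharacter G) : (P.d φ χ - P.d ψ χ) % 2 = 0 := by
  have hθ := P.gc_t (isGen_of_isIrr χ.2)
  obtain ⟨n, hn⟩ := P.parity hφ hs χ
  obtain ⟨k, hk⟩ := P.parity hψ hs' χ
  obtain ⟨l, hl⟩ := (hθ.ev_shift (P.BU.trans P.U_le) P.sH P.ss (P.B_cent P.sV)).int
    (hψ.mono (P.BU.trans P.U_le))
  rw [ip_sub_left, ← ip_conj P.x_B, ip_congr (f' := fun b => χ.1 (P.t * (P.s * b))) (g' := φ)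
    (fun b _ => by rw [← P.cls_r (isClass_irr χ), mul_assoc]) h] at hl
  have : P.d φ χ - P.d ψ χ = 2 * (n - k - l) := by
    have : ((P.d φ χ - P.d ψ χ : ℤ) : ℂ) = (2 * (n - k - l) : ℤ) := by
      push_cast; linear_combination hn - hk - hl
    exact_mod_cast this
  omega

/-- a linear character of `C(t)` with the four-group in its kernel -/
structure Lin (φ : G → ℂ) : Prop where
  ir : IR 𝐂[P.t] φ
  one : φ 1 = 1
  t : φ P.t = 1
  s : φ P.s = 1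

variable {P}
theorem Lin.irU (h : P.Lin φ) : IR P.U φ :=
  ir_lin h.one fun _ ha _ hb => h.ir.ch.lin h.one (P.U_le ha) (P.U_le hb)
theorem Lin.sinv (h : P.Lin φ) : ∀ g ∈ 𝐂[P.t], φ (P.s * g) = φ g := fun g hg => by
  rw [h.ir.ch.lin h.one P.sH hg, h.s, one_mul]

theorem orbit3 (h1 : P.Lin φ1) (h2 : P.Lin φ2) (h3 : P.Lin φ3) (o12 : ip P.U φ1 φ2 = 0)
    (o13 : ip P.U φ1 φ3 = 0) (o23 : ip P.U φ2 φ3 = 0)
    (e1 : ∀ b ∈ P.B, φ1 (P.x * b * P.x⁻¹) = φ2 b) (e2 : ∀ b ∈ P.B, φ2 (P.x * b * P.x⁻¹) = φ3 b) :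
    ∃ g : ℤ, g % 4 = 3 ∧ (𝐂[P.t].index : ℚ) * (8 / g) = 8 * P.m ^ 2 := by
  have g1 := h1.ir.gc
  have g2 := h2.ir.gc
  have g3 := h3.ir.gc
  have h4 := P.d_orth g1 g1
  rw [h1.irU.norm, mul_one] at h4
  obtain ⟨hS, hd⟩ := supp_four (P.d φ1) (P.d_sq_lt g1 h1.irU) (by simp only [sq]; exact_mod_cast h4)
  have rg : ∀ {φ} (_ : P.Lin φ) χ, P.d φ χ = 0 ∨ P.d φ χ = 1 ∨ P.d φ χ = -1 := fun {φ} h χ => by
    have := P.d_sq_lt h.ir.gc h.irU χ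
    have a1 : P.d φ χ < 2 := by nlinarith
    have a2 : -2 < P.d φ χ := by nlinarith
    omega
  have p2 := P.parity2 g2 h2.sinv g1 h1.sinv e1
  have p3 := P.parity2 g3 h3.sinv g2 h2.sinv e2
  have z : ∀ χ, P.d φ1 χ = 0 → P.d φ2 χ = 0 ∧ P.d φ3 χ = 0 := fun χ h => by
    have := p2 χ; have := p3 χ; have := rg h2 χ; have := rg h3 χ; omega
  have nz : ∀ χ, P.d φ1 χ ≠ 0 → (P.d φ2 χ = 1 ∨ P.d φ2 χ = -1) ∧ (P.d φ3 χ = 1 ∨ P.d φ3 χ = -1) :=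
    fun χ h => by
      have := p2 χ; have := p3 χ; have := rg h2 χ; have := rg h3 χ; have := hd χ h; omega
  have val : ∀ χ, P.d φ1 χ ≠ 0 → χ.1 P.t = (P.d φ1 χ + P.d φ2 χ + P.d φ3 χ : ℤ) := fun χ h => by
    obtain ⟨n, hn, e⟩ := P.norm_lt χ.2
    have hg := (P.gc_t (isGen_of_isIrr χ.2)).mono P.U_le
    have key : ip P.U (fun u => χ.1 (P.t * u) - P.d φ1 χ * φ1 u - P.d φ2 χ * φ2 u - P.d φ3 χ * φ3 u)
        (fun u => χ.1 (P.t * u) - P.d φ1 χ * φ1 u - P.d φ2 χ * φ2 u - P.d φ3 χ * φ3 u) =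
          (n - 3 : ℤ) := by
      simp only [ip_sub_left, ip_sub_right, ip_mul_left, ip_mul_right, e, h1.irU.norm, h2.irU.norm,
        h3.irU.norm, h1.irU.gc.comm hg, h2.irU.gc.comm hg, h3.irU.gc.comm hg, P.d_eq g1, P.d_eq g2,
        P.d_eq g3, map_intCast, o12, o13, o23, h2.irU.gc.comm h1.irU.gc, h3.irU.gc.comm h1.irU.gc,
        h3.irU.gc.comm h2.irU.gc]
      rcases hd χ h with a | a <;> rcases (nz χ h).1 with b | b <;> rcases (nz χ h).2 with c | c <;>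
        simp only [a, b, c] <;> push_cast <;> ring
    have k1 := ip_nq (X := P.U) (f := fun u =>
      χ.1 (P.t * u) - P.d φ1 χ * φ1 u - P.d φ2 χ * φ2 u - P.d φ3 χ * φ3 u)
    rw [key] at k1
    have k2 : (#|P.U| : ℝ) * (n - 3 : ℤ) = nq (· ∈ P.U) fun u =>
        χ.1 (P.t * u) - P.d φ1 χ * φ1 u - P.d φ2 χ * φ2 u - P.d φ3 χ * φ3 u := by exact_mod_cast k1
    have k3 := nonneg_of_mul_nonneg_right (k2 ▸ nq_nonneg)
      (show (0 : ℝ) < #|P.U| by exact_mod_cast Nat.card_pos)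
    have k4 : n = 3 := by
      have : (0 : ℤ) ≤ n - 3 := by exact_mod_cast k3
      omega
    have := zero_of_ip (key.trans (by rw [k4]; simp)) 1 (one_mem _)
    simp only [mul_one, h1.one, h2.one, h3.one] at this
    push_cast; linear_combination this
  choose n hn using fun χ : IrrCharacter G => exists_nat_of_isChar (isChar_of_isIrr χ.2)
  obtain ⟨a, b, c, e, ab, ac, ae, bc, be, ce, hS⟩ := card_eq_four.1 hS
  have mem : ∀ χ, χ ∈ ({a, b, c, e} : Finset _) → P.d φ1 χ ≠ 0 := fun χ h =>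
    (mem_filter.1 (hS ▸ h :)).2
  have red : ∀ {R : Type} [AddCommMonoid R] (F : IrrCharacter G → R), (∀ χ, P.d φ1 χ = 0 → F χ = 0) →
      ∑ χ, F χ = F a + F b + F c + F e := fun F hF => by
    rw [← sum_filter_of_ne (p := fun χ => P.d φ1 χ ≠ 0) fun χ _ h h' => h (hF χ h'), hS,
      sum_insert (by simp [ab, ac, ae]), sum_insert (by simp [bc, be]), sum_pair ce, add_assoc, add_assoc]
  have orth : ∀ {φ ψ}, GC 𝐂[P.t] φ → GC 𝐂[P.t] ψ → ip P.U φ ψ = 0 → ∑ χ, P.d φ χ * P.d ψ χ = 0 :=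
    fun hφ hψ h => by
      have := P.d_orth hφ hψ
      rw [h, mul_zero] at this
      exact_mod_cast this
  have deg : ∀ {φ}, GC 𝐂[P.t] φ → ∑ χ, P.d φ χ * n χ = 0 := fun hφ => by
    have := P.d_deg hφ
    simp only [hn] at this
    exact_mod_cast this
  have s1 := orth g1 g2 o12
  have s2 := orth g1 g3 o13
  have s3 := orth g2 g3 o23
  have t1 := deg g1
  have t2 := deg g2
  have t3 := deg g3
  rw [red _ fun χ h => by simp [h, z χ h]] at s1 s2 s3 t1 t2 t3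
  have loc : ∀ χ, P.d φ1 χ ≠ 0 → (P.d φ1 χ * P.d φ2 χ = 1 ∨ P.d φ1 χ * P.d φ2 χ = -1) ∧
      (P.d φ1 χ * P.d φ3 χ = 1 ∨ P.d φ1 χ * P.d φ3 χ = -1) ∧
      P.d φ1 χ * P.d φ2 χ * (P.d φ1 χ * P.d φ3 χ) = P.d φ2 χ * P.d φ3 χ ∧
      P.d φ1 χ * P.d φ2 χ * (P.d φ1 χ * n χ) = P.d φ2 χ * n χ ∧
      P.d φ1 χ * P.d φ3 χ * (P.d φ1 χ * n χ) = P.d φ3 χ * n χ ∧
      (P.d φ1 χ * n χ - (1 + P.d φ1 χ * P.d φ2 χ + P.d φ1 χ * P.d φ3 χ)) % 4 = 0 ∧
      P.d φ1 χ * (χ.1 P.t * χ.1 P.t / χ.1 1) = ((((1 + P.d φ1 χ * P.d φ2 χ + P.d φ1 χ * P.d φ3 χ : ℤ) : ℚ)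
        ^ 2 / ((P.d φ1 χ * n χ : ℤ) : ℚ) : ℚ) : ℂ) := fun χ h => by
    obtain ⟨k, hk⟩ := P.deg_mod (isChar_of_isIrr χ.2)
    rw [val χ h, hn] at hk
    have hk' : (n χ : ℤ) - (P.d φ1 χ + P.d φ2 χ + P.d φ3 χ) = 4 * k := by exact_mod_cast hk
    rw [val χ h, hn]
    rcases hd χ h with a | a <;> rcases (nz χ h).1 with b | b <;> rcases (nz χ h).2 with c | c <;>
      simp only [a, b, c] at hk' ⊢ <;>
      refine ⟨by omega, by omega, by omega, by omega, by omega, by omega, ?_⟩ <;> push_cast <;> ring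
  have la := loc a (mem a (by simp))
  have lb := loc b (mem b (by simp))
  have lc := loc c (mem c (by simp))
  have le := loc e (mem e (by simp))
  obtain ⟨g, hg, hv⟩ := ar_hadamard la.1 lb.1 lc.1 le.1 la.2.1 lb.2.1 lc.2.1 le.2.1 s1 s2
    (by rw [la.2.2.1, lb.2.2.1, lc.2.2.1, le.2.2.1, s3]) t1
    (by rw [la.2.2.2.1, lb.2.2.2.1, lc.2.2.2.1, le.2.2.2.1, t2])
    (by rw [la.2.2.2.2.1, lb.2.2.2.2.1, lc.2.2.2.2.1, le.2.2.2.2.1, t3])
    la.2.2.2.2.2.1 lb.2.2.2.2.2.1 lc.2.2.2.2.2.1 le.2.2.2.2.2.1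
  refine ⟨g, hg, ?_⟩
  have h := P.d_prod h1.ir (h1.t.trans h1.one.symm)
  rw [red _ fun χ h => by simp [h], la.2.2.2.2.2.2, lb.2.2.2.2.2.2, lc.2.2.2.2.2.2, le.2.2.2.2.2.2,
    ← Rat.cast_add, ← Rat.cast_add, ← Rat.cast_add, hv, h1.s, h1.one] at h
  have h' : (((𝐂[P.t].index : ℚ) * (8 / g) : ℚ) : ℂ) = ((8 * P.m ^ 2 : ℚ) : ℂ) := by
    push_cast at h ⊢; simpa using h
  exact_mod_cast h'

variable (P)

theorem three_dvd : 3 ∣ 𝐂[P.t].index * P.m := by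
  have hx : P.x ∈ 𝐍(P.V) := mem_normalizer_fintype fun a ha => by
    rcases ha with rfl | rfl | rfl | rfl
    exacts [by simp, P.xt ▸ P.sV, P.xs ▸ P.rV, P.xr.symm ▸ P.tV]
  have h1 : clX 𝐍(P.V) P.t = {P.t, P.s, P.t * P.s} := by
    ext u
    simp only [mem_clX, mem_insert, mem_singleton]
    constructor
    · rintro ⟨y, hy, rfl⟩
      exact ((memJ_norm hy).2 P.tV).resolve_left (mt conj_eq_one_iff.1 P.t1)
    · rintro (rfl | rfl | rfl)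
      exacts [⟨1, one_mem _, by simp⟩, ⟨_, hx, P.xt⟩, ⟨_, mul_mem hx hx, by
        rw [← P.xs, ← P.xt]; group⟩]
  have h2 := card_clX (X := 𝐍(P.V)) (z := P.t)
  rw [h1, card_eq_three.2 ⟨_, _, _, P.st.symm, P.rt.symm, P.rs.symm, rfl⟩, ← inf_relIndex_left] at h2
  have h3 : 𝐍(P.V) ⊓ 𝐂[P.t] = 𝐂[P.t] ⊓ 𝐂[P.s] := le_antisymm
    (fun g hg => ⟨hg.2, P.cent_of_norm hg.1 hg.2⟩) fun g hg => ⟨cent_sub _ fun a ha => by
      rcases ha with rfl | rfl | rfl | rfl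
      exacts [by simp, (mem_cent1.1 hg.1).symm, (mem_cent1.1 hg.2).symm,
        (mem_cent1.1 (PG.cent_mul hg.1 hg.2)).symm], hg.1⟩
  rw [← P.card_cl (.inl rfl), card_clX, ← inf_relIndex_left, mul_comm,
    relIndex_mul_index inf_le_left, ← h3, ← relIndex_mul_index inf_le_left, ← h2]
  exact dvd_mul_right _ _

theorem b_bot [IsSimpleGroup G] (hn : NoReal G) (hT : T ⊴ 𝐂[P.t]) (hTU : T ≤ P.U)
    (hi : ∀ y ∈ T, P.s * y * P.s⁻¹ = y⁻¹) (hU : P.U ≤ T ⊔ P.B) : P.B = ⊥ := by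
  by_contra hB
  have BH : P.B ≤ 𝐂[P.t] := P.BU.trans P.U_le
  have VH : P.V ≤ 𝐂[P.t] := P.V_cent P.tV
  have ker : ∀ {χ : G → ℂ} (_ : IsIrrCharacter G χ) {a : G}, a ≠ 1 → χ a = χ 1 → ∀ g, χ g = χ 1 :=
    fun hχ a a1 e g => by
      have hc := isChar_of_isIrr hχ
      rcases (charKer_normal hc).eq_bot_or_eq_top with h | h
      · exact absurd (mem_bot.1 (h ▸ (mem_charKer hc).2 e)) a1
      · exact (mem_charKer hc).1 (h ▸ mem_top g)
  obtain ⟨v, hv, ⟨-, v1⟩, v2⟩ := P.principal fun N hN h => hN.eq_bot_or_eq_top.resolve_left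
    fun e => P.t1 (mem_bot.1 (e ▸ h P.tH))
  replace v2 := v2 fun χ hχ e1 e2 => by
    have hc := isChar_of_isIrr hχ
    have q : CH P.B fun b => (χ b + 1) / 4 := (P.quarter hc).congr fun b hb => by
      rw [P.cls_s (isClass_of_isIrr hχ), P.cls_r (isClass_of_isIrr hχ), e2 _ hb.1,
        e2 _ ((memJ_norm P.x_B).2 hb).1, e2 _ ((memJ_norm' P.x_B).2 hb).1]; ring
    have q1 : (χ 1 + 1) / 4 = 1 := by rw [e1]; norm_num
    have q2 : IR P.B fun b => (χ b + 1) / 4 := ir_lin q1 fun _ ha _ hb => q.lin q1 ha hb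
    obtain ⟨k, hk⟩ := (ch_of hc P.B).nat_ip ir_one.ch
    have q3 := q2.eq ir_one fun h0 => by
      rw [ip_congr (f' := fun b => 4 * ((χ b + 1) / 4) - 1) (fun _ _ => by ring) fun _ _ => rfl,
        ip_sub_left, ip_mul_left, h0, ir_one.norm] at hk
      have : (4 * 0 - 1 : ℤ) = k := by exact_mod_cast hk
      omega
    obtain ⟨⟨b, hb⟩, b1⟩ := ne_bot_iff_exists_ne_one.1 hB
    have := ker hχ (a := b) (fun e => b1 (Subtype.ext e)) (by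
      rw [e1]; linear_combination 4 * q3 b hb) P.t
    rw [e1, ← mul_one P.t, e2 1 (one_mem _)] at this
    norm_num at this
  have i0 : (0 : ℚ) < 𝐂[P.t].index := by
    exact_mod_cast Nat.pos_of_ne_zero (index_ne_zero_of_finite (H := 𝐂[P.t]))
  -- inflation of linear characters of `B`
  have dec : ∀ h ∈ 𝐂[P.t], ∃ y ∈ T, ∃ c ∈ P.V, ∃ b ∈ P.B, y * c * b = h := fun h hh => by
    obtain ⟨u, hu, c, hc, rfl⟩ := P.sdH.exists hh
    obtain ⟨y, hy, b, hb, rfl⟩ := (mem_join_norm (BH.trans hT.nz)).1 (hU hu)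
    exact ⟨y, hy, c, hc, b, hb, by rw [mul_assoc, mul_assoc, mem_cent1.1 (P.B_cent hc hb)]⟩
  have hK : T ⊔ P.V ⊴ 𝐂[P.t] := ⟨sup_le hT.le VH, fun h hh => by
    obtain ⟨y, hy, c, hc, b, hb, rfl⟩ := dec h hh
    exact mul_mem (le_normalizer (mul_mem (mem_sup_left hy) (mem_sup_right hc)))
      (normsY (BH.trans hT.nz) (cents_norm fun b hb a ha => (mem_cent1.1 (P.B_cent ha hb)).symm) hb)⟩
  have infl : ∀ {β}, IR P.B β → β 1 = 1 → ∃ φ, P.Lin φ ∧ ∀ b ∈ P.B, φ b = β b := fun {β} hβ h1 => by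
    obtain ⟨φ, hφ, e⟩ := hβ.infl hK BH (fun h hh => by
      obtain ⟨y, hy, c, hc, b, hb, rfl⟩ := dec h hh
      exact ⟨_, mul_mem (mem_sup_left hy) (mem_sup_right hc), b, hb, rfl⟩) fun b hb hb' => by
        obtain ⟨y, hy, c, hc, rfl⟩ := (mem_join_norm (VH.trans hT.nz)).1 hb'
        obtain rfl := P.V_U hc ((mul_mem_cancel_left (hTU hy)).1 hb.1)
        rw [mul_one] at hb ⊢
        rw [Iv.eq_one (hi y hy) (odd_of_mem P.oddB hb) (cent1C.1 hb.2)]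
    have e' : ∀ k ∈ P.V, φ k = 1 := fun k hk => by
      simpa [h1] using e k (mem_sup_right hk) 1 (one_mem _)
    exact ⟨φ, ⟨hφ, e' 1 (one_mem _), e' _ P.tV, e' _ P.sV⟩, fun b hb => by
      simpa using e 1 (one_mem _) b hb⟩
  obtain ⟨a, ha, ha'⟩ := SetLike.exists_of_lt (sol_der1_proper (SF.T.odd_sol P.oddB) hB)
  obtain ⟨β, hβ, k1, k2⟩ := exists_irr_ker (K := ⁅P.B, P.B⁆)
    ⟨commutator_le_self' _, normsR le_normalizer le_normalizer⟩ ha ha'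
  have β1 : β 1 = 1 := hβ.lin fun a ha b hb => k1 _ (commutator_mem_commutator ha hb)
  by_cases hE : ∀ b ∈ P.B, β (P.x * b * P.x⁻¹) = β b
  · obtain ⟨φ, hφ, e⟩ := infl hβ β1
    obtain ⟨S, hS, -, A, hA, h0, hw⟩ := P.inv_four hφ.ir hφ.one hφ.t hφ.s fun b hb => by
      rw [e _ ((memJ_norm P.x_B).2 hb), e b hb, hE b hb]
    have h3 : ∀ χ ∈ S, A χ % 4 = 1 ∧ A χ ≠ 1 := fun χ hχ => by
      obtain ⟨e0, ε, hε, e1, e2⟩ := hA χ hχ
      refine ⟨e0, fun h => k2 ?_⟩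
      have e3 := e2 1 (one_mem _)
      rw [h, Int.cast_one] at e1
      rw [hφ.one, mul_one P.t] at e3
      have e4 := ker χ.2 P.t1 (e3.trans e1.symm) (P.t * a)
      rw [e2 a ha.1, e1, e a ha] at e4
      rw [β1]
      exact mul_left_cancel₀ (by rcases hε with rfl | rfl <;> simp) e4
    obtain ⟨a, b, c, d, ab, ac, ad, bc, bd, cd, rfl⟩ := card_eq_four.1 hS
    rw [sum_insert (by simp [ab, ac, ad]), sum_insert (by simp [bc, bd]), sum_pair cd] at h0 hw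
    have := ar_four (h3 a (by simp)).1 (h3 b (by simp)).1 (h3 c (by simp)).1 (h3 d (by simp)).1
      (h3 a (by simp)).2 (h3 b (by simp)).2 (h3 c (by simp)).2 (h3 d (by simp)).2 (by omega)
    have e5 := mul_left_cancel₀ i0.ne' (hv.trans hw.symm)
    linarith
  · have hβ2 := hβ.cj P.x_B
    have hβ3 := hβ2.cj P.x_B
    obtain ⟨φ1, l1, e1⟩ := infl hβ β1
    obtain ⟨φ2, l2, e2⟩ := infl hβ2 (by simpa using β1)
    obtain ⟨φ3, l3, e3⟩ := infl hβ3 (by simpa using β1)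
    have xB := fun b (hb : b ∈ P.B) => (memJ_norm P.x_B).2 hb
    have c12 : ∀ b ∈ P.B, φ1 (P.x * b * P.x⁻¹) = φ2 b := fun b hb => by rw [e1 _ (xB b hb), e2 b hb]
    have c23 : ∀ b ∈ P.B, φ2 (P.x * b * P.x⁻¹) = φ3 b := fun b hb => by rw [e2 _ (xB b hb), e3 b hb]
    have c31 : ∀ b ∈ P.B, φ3 (P.x * b * P.x⁻¹) = φ1 b := fun b hb => by
      have h3 : P.x * P.x * P.x ∈ 𝐂[P.t] := cent1_conj.2 (by
        conv_rhs => rw [← P.xr, ← P.xs, ← P.xt]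
        group)
      rw [← c23 _ (xB b hb), ← c12 _ (xB _ (xB b hb)), ← l1.ir.gc.cf _ h3 b (BH hb)]
      congr 1; group
    have n12 : ¬ ∀ b ∈ P.B, φ1 b = φ2 b := fun h => hE fun b hb => by rw [← e2 b hb, ← h b hb, e1 b hb]
    have back : ∀ b ∈ P.B, ∃ c ∈ P.B, b = P.x * c * P.x⁻¹ := fun b hb =>
      ⟨_, (memJ_norm' P.x_B).2 hb, by group⟩
    have n23 : ¬ ∀ b ∈ P.B, φ2 b = φ3 b := fun h => n12 fun b hb => by
      obtain ⟨c, hc, rfl⟩ := back b hb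
      rw [c12 c hc, c23 c hc, h c hc]
    have n13 : ¬ ∀ b ∈ P.B, φ1 b = φ3 b := fun h => n12 fun b hb => by
      rw [← c12 b hb, h _ (xB b hb), c31 b hb]
    have o : ∀ {φ ψ}, P.Lin φ → P.Lin ψ → (¬ ∀ b ∈ P.B, φ b = ψ b) → ip P.U φ ψ = 0 :=
      fun h h' hne => by_contra fun h0 => hne fun b hb => h.irU.eq h'.irU h0 b hb.1
    obtain ⟨g, g4, hg⟩ := orbit3 l1 l2 l3 (o l1 l2 n12) (o l1 l3 n13) (o l2 l3 n23) c12 c23
    have e5 := mul_left_cancel₀ i0.ne' (hv.trans hg.symm)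
    have g0 : (0 : ℚ) < g := by
      by_contra h
      have : (8 : ℚ) / g ≤ 0 := div_nonpos_of_nonneg_of_nonpos (by norm_num) (not_lt.1 h)
      linarith
    rw [e5] at v1 v2
    rw [div_le_iff₀ g0] at v1
    rw [lt_div_iff₀ g0] at v2
    have g1 : (6 : ℤ) < g := by exact_mod_cast (show (6 : ℚ) < g by linarith)
    have g2 : g < (12 : ℤ) := by exact_mod_cast (show (g : ℚ) < 12 by linarith)
    have e6 : (𝐂[P.t].index : ℤ) = g * P.m ^ 2 := by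
      have : (𝐂[P.t].index : ℚ) = g * P.m ^ 2 := by field_simp at hg; linarith
      exact_mod_cast this
    have m3 : ¬ 3 ∣ P.m := fun h => by
      have h1 : clX 𝐂[P.t] P.s = clX T P.s := by
        ext u
        refine ⟨fun h => ?_, clX_mono hT.le⟩
        obtain ⟨a, ha, rfl⟩ := mem_clX.1 h
        obtain ⟨y, hy, c, hc, b, hb, rfl⟩ := dec a ha
        refine mem_clX.2 ⟨y, hy, ?_⟩
        rw [show y * c * b * P.s * (y * c * b)⁻¹ = y * (c * (b * P.s * b⁻¹) * c⁻¹) * y⁻¹ by group,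
          cent1_conj.1 hb.2, cent1_conj.1 (P.V_cent P.sV hc)]
      rw [← P.card_cl (.inl rfl), h1, card_clX] at h
      obtain ⟨y, hy⟩ := exists_prime_orderOf_dvd_card' 3 (h.trans (relIndex_dvd_card _ _))
      rw [← orderOf_coe] at hy
      exact hn y hy (isConj_iff.2 ⟨_, hi y y.2⟩)
    have h3 : (3 : ℤ) ∣ g * P.m ^ 2 * P.m := by rw [← e6]; exact_mod_cast P.three_dvd
    have m3' : ¬ (3 : ℤ) ∣ P.m := by exact_mod_cast m3
    rcases Int.prime_three.dvd_or_dvd h3 with h | h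
    · rcases Int.prime_three.dvd_or_dvd h with h | h
      · omega
      · exact m3' (Int.prime_three.dvd_of_dvd_pow h)
    · exact m3' h
where
  commutator_le_self' {G : Type _} [Group G] (B : Subgroup G) : ⁅B, B⁆ ≤ B :=
    commutator_le.2 fun _ ha _ hb => mul_mem (mul_mem (mul_mem ha hb) (inv_mem ha)) (inv_mem hb)

end KF

/-- If `O(C(t)) = T B` with `T` normal and inverted by `s`, then `B = 1`. -/
theorem b_eq_bot {G : Type*} [Group G] [Finite G] [IsSimpleGroup G] (hn : NoReal G) {t s x : G}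
    (tt : t * t = 1) (ss : s * s = 1) (t1 : t ≠ 1) (s1 : s ≠ 1) (st : s ≠ t) (cm : t * s = s * t)
    (h8 : ¬ 8 ∣ Nat.card G) (xt : x * t * x⁻¹ = s) (xs : x * s * x⁻¹ = t * s) {T : Subgroup G}
    (hT : T ⊴ 𝐂[t]) (hTU : T ≤ 𝐎(𝐂[t])) (hi : ∀ y ∈ T, s * y * s⁻¹ = y⁻¹)
    (hU : 𝐎(𝐂[t]) ≤ T ⊔ 𝐎(𝐂[t]) ⊓ 𝐂[s]) : 𝐎(𝐂[t]) ⊓ 𝐂[s] = ⊥ := by
  have := Fintype.ofFinite G
  exact KF.b_bot ⟨t, s, x, tt, ss, t1, s1, st, cm, h8, xt, xs⟩ hn hT hTU hi hU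

end Cfsg.Agent.NR
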