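import Cfsg.Agent.Lib.NR.KDefs
import Cfsg.Agent.Lib.NR.KCh4

/-! The row `KB1Stmt`. -/

namespace Cfsg.Agent.NR

universe u

theorem kb1 : KB1Stmt.{u} := fun _ _ _ P m ⟨_, h1, h2, h3, h4⟩ =>
  have := m.simple
  b_eq_bot m.nr P.tt P.ss P.t1 P.s1 P.st P.cm P.h8 P.xt P.xs h1 h2 h3 h4

end Cfsg.Agent.NR
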