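import Cfsg.Agent.Lib.NR.KOf

/-! Four-group case: configuration (beta1) does not occur. -/

namespace Cfsg.Agent.NR

open Subgroup FT SF.GP SF.T TwoGrp GW

universe u

variable {G : Type u} [Group G] [Finite G] {t s n x y v : G} {N U X : Subgroup G} {p : ℕ}

/-- the only involution centralizing `X` is `t` -/
theorem F4.eq_t' (h : F4 t s) (hx : x ∈ X) (ox : Odd (orderOf x)) (x1 : x ≠ 1) (ix : Iv s x)
    (xt : x ∈ 𝐂[t]) (n1 : 𝐍(X) = 𝐂[t]) (hv : v ∈ 𝐂(X)) (v2 : v * v = 1) (v1 : v ≠ 1) : v = t := by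
  obtain ⟨g, hg, e⟩ := h.conj_inv (cent1id t) h.sH (n1 ▸ cent_sub _ hv) v2 v1
  have h2 : g * v * g⁻¹ ∈ 𝐂[x] :=
    cent_le_cent1 hx ((memJ_norm (norms_cent le_rfl (n1 ▸ hg : g ∈ 𝐍(X)))).2 hv)
  rcases e with e | e | e
  · rw [← cent1_conj.1 (inv_mem hg), ← e]; group
  · exact absurd (ix.eq_one ox (e ▸ h2)) x1
  · exact absurd ((ix.mul_cent (cent1C.1 xt)).eq_one ox (e ▸ h2)) x1

/-- the conjugates of `⟨y⟩` are disjoint -/
theorem conj_lines [hp : Fact p.Prime] (oy : orderOf y = p) (hy : y ∈ N) (hU : U ≤ 𝐍(N)) :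
    𝐍(zpowers y).relIndex U * (p - 1) ≤ #|N| - 1 := by
  classical
  have := Fintype.ofFinite G
  have := Fintype.ofFinite (U ⧸ 𝐍(zpowers y).subgroupOf U)
  have py : (#|zpowers y|).Prime := by rw [card_cycle, oy]; exact hp.out
  rw [relIndex, index, Nat.card_eq_fintype_card, ← Finset.card_univ, ← oy, ← card_cycle, ← card_filter_mem,
    ← card_filter_mem, ← Finset.card_erase_of_mem (a := 1) (by simp),
    ← Finset.card_erase_of_mem (a := 1) (by simp), ← Finset.card_product]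
  refine Finset.card_le_card_of_injOn (fun q => (q.1.out : G) * q.2 * (q.1.out : G)⁻¹) ?_ ?_
  · rintro ⟨c, w⟩ hq
    simp only [Finset.coe_product, Set.mem_prod, Finset.mem_coe, Finset.mem_erase, Finset.mem_filter,
      Finset.mem_univ, true_and] at hq ⊢
    exact ⟨by simpa using hq.1, (memJ_norm (hU c.out.2)).2 (zpowers_le.2 hy hq.2)⟩
  · rintro ⟨c, w⟩ hq ⟨c', w'⟩ hq' e
    simp only [Finset.coe_product, Set.mem_prod, Finset.mem_coe, Finset.mem_erase, Finset.mem_filter,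
      Finset.mem_univ, true_and] at hq hq' e
    obtain rfl : c = c' := by
      have key : ∀ g : G, g * w' * g⁻¹ ∈ zpowers y → g ∈ 𝐍(zpowers y) := fun g hg => by
        rwa [nt_gen_prime py hq'.2 hq'.1, ← mem_norm_cycle, ← nt_gen_prime py hq'.2 hq'.1] at hg
      rw [← c.out_eq', ← c'.out_eq', QuotientGroup.eq, mem_subgroupOf]
      refine key _ ?_
      convert hq.2 using 1
      rw [coe_mul, coe_inv, show w = (c.out : G)⁻¹ * (c.out * w * (c.out : G)⁻¹) * c.out by group, e]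
      group
    simpa using e

theorem Beta1.false [hp : Fact p.Prime] (a : Beta1 t s p N y x) (h : F4 t s) (OF : OFStmt.{u})
    (hN : 𝐍(N) = 𝐂[t]) (hn : n ∈ 𝐂[y]) (nt : n * t * n⁻¹ = s) (ns : n * s * n⁻¹ = t * s)
    (hR : ∀ K : Subgroup G, t ∈ K → s ∈ K → 𝐂[y] ≤ 𝐍(K) → n ∈ K) : False := by
  classical
  have := Fintype.ofFinite G
  have oU : Odd #|𝐎(𝐂[t])| := odd_core _
  have UH : 𝐎(𝐂[t]) ≤ 𝐂[t] := pcore_sub _ _
  have sU : s ∈ 𝐍(𝐎(𝐂[t])) := pcore_norm _ _ h.sH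
  have hy : y ∈ N ⊓ 𝐂[s] := a.Y ▸ mem_zpowers y
  have ty : t ∈ 𝐂[y] := cent1C.1 (UH (a.NU hy.1))
  have sy : s ∈ 𝐂[y] := cent1C.1 hy.2
  have x1 : x ≠ 1 := fun e => hp.out.ne_one (by rw [← a.ox, e, orderOf_one])
  have y1 : y ≠ 1 := fun e => hp.out.ne_one (by rw [← a.oy, e, orderOf_one])
  have py : (#|zpowers y|).Prime := by rw [card_cycle, a.oy]; exact hp.out
  have of := fun X (hX : 𝐂[y] ≤ X) => h.of_sub OF (hX ty) (hX sy) (hX hn) nt ns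
    fun N h1 h2 h3 => hR N h1 h2 (hX.trans h3)
  have e1 := (of ⊤ le_top).2
  have e2 := (of _ le_rfl).1
  have e4 := h.idx ty sy
  have e5 := F4.kk 𝐎(𝐂[t]) 𝐂[s] 𝐂[y]
  rw [inf_top_eq, relIndex_top_right] at e1
  have e6 : p ≤ 𝐂[s].relIndex (𝐎(𝐂[t]) ⊓ 𝐂[y]) := Nat.le_of_dvd (indexg_gt0 _ _)
    (dvd_of_iv (odd_of_le inf_le_left oU) h.ss (normsI (norms_cycle.2 sU)
      (normsG (zpowers_le.2 sy)) (mem_zpowers s)) ⟨a.NU a.xN, sub_cent1.2 (abelian_cent a.ab hy.1) a.xN⟩ x1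
      (pgroup_of_card_prime (by rw [card_cycle, a.ox])) a.iv)
  have sz : s ∈ 𝐂(zpowers y) := cent_cycle y ▸ sy
  have BY : 𝐎(𝐂[t]) ⊓ 𝐂[s] ≤ 𝐍(zpowers y) :=
    a.Y ▸ normsI (inf_le_left.trans (UH.trans a.nN)) (norms_cent1 inf_le_right)
  have c1 : clX (𝐎(𝐂[t]) ⊓ 𝐍(zpowers y)) y = clX (𝐎(𝐂[t]) ⊓ 𝐂[s]) y := by
    refine Finset.Subset.antisymm (fun c hc => ?_) fun c => clX_mono (le_inf inf_le_left BY)
    obtain ⟨u, hu, rfl⟩ := mem_clX.1 hc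
    obtain ⟨k, hk, hi, b, hb, rfl⟩ := dec' (odd_of_le inf_le_left oU) h.ss (normsI (norms_cycle.2 sU)
      (normsG (zpowers_le.2 (cent_sub _ sz))) (mem_zpowers s)) hu
    refine mem_clX.2 ⟨b, ⟨hb.1.1, hb.2⟩, ?_⟩
    rw [← cent1_conj.1 (cent_le_cent1 ((memJ_norm hb.1.2).2 (mem_zpowers y))
      (hi.cent h.ss (odd_of_mem oU hk.1) hk.2 sz))]
    group
  have e7 : 𝐂[y].relIndex 𝐎(𝐂[t]) =
      𝐂[y].relIndex (𝐎(𝐂[t]) ⊓ 𝐂[s]) * 𝐍(zpowers y).relIndex 𝐎(𝐂[t]) := by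
    rw [← card_clX (X := _ ⊓ 𝐂[s]), ← c1, card_clX, inf_comm, relIndex_inf_mul_relIndex,
      inf_eq_left.2 ((cent_cycle y).ge.trans (cent_sub _))]
  have j1 := conj_lines a.oy hy.1 (UH.trans a.nN)
  have j2 : Odd (𝐍(zpowers y).relIndex 𝐎(𝐂[t])) := oU.of_dvd_nat (dvdn_indexg _ _)
  have j3 : 𝐍(zpowers y).relIndex 𝐎(𝐂[t]) ≠ 1 := fun e =>
    a.nn (h.hH _ (indexg_eq1.1 e) (cent_sub _ (cent_cycle y ▸ ty)) (cent_sub _ sz))
  have e8 : 𝐂[t].relIndex 𝐂[y] * (𝐂[y].relIndex 𝐎(𝐂[t]) - 𝐂[y].relIndex (𝐎(𝐂[t]) ⊓ 𝐂[s])) ≤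
      𝐂[y].index := by
    have f : ∀ u ∈ clX 𝐂[y] t, ∃ m ∈ 𝐂[y], m * t * m⁻¹ = u := fun u hu => mem_clX.1 hu
    choose! f hf hf' using f
    rw [← relIndex_top_right, ← card_clX, ← card_clX, ← card_clX, ← card_clX,
      ← Finset.card_sdiff_of_subset fun c => clX_mono inf_le_left, ← Finset.card_product]
    refine Finset.card_le_card_of_injOn (fun q => f q.1 * q.2 * (f q.1)⁻¹) ?_ ?_
    · rintro ⟨u, c⟩ hq
      simp only [Finset.coe_product, Set.mem_prod, Finset.mem_coe, Finset.mem_sdiff] at hq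
      exact Finset.mem_coe.2 ((conj_clX (mem_top _)).2 (clX_mono le_top hq.2.1))
    · rintro ⟨u, c⟩ hq ⟨u', c'⟩ hq' e
      simp only [Finset.coe_product, Set.mem_prod, Finset.mem_coe, Finset.mem_sdiff] at hq hq' e
      obtain ⟨hu, hc, hc0⟩ := hq
      obtain ⟨hu', hc', -⟩ := hq'
      have k1 : u' ∈ 𝐂[f u' * c' * (f u')⁻¹] := by
        rw [cent1J]; nth_rw 2 [← hf' u' hu']
        exact Tr.conj_mem_cj.2 (cent1C.1 (UH (clX_le (a.NU hy.1) hc')))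
      have k3 : (f u)⁻¹ * u' * f u ∈ 𝐂[c] := by rwa [← e, cent1J, Tr.mem_cj] at k1
      have k2 : (f u)⁻¹ * u' * f u ∈ 𝐂[y] :=
        mul_mem (mul_mem (inv_mem (hf u hu)) (clX_le ty hu')) (hf u hu)
      obtain ⟨w, hw, rfl⟩ := mem_clX.1 hc
      have cN : w * y * w⁻¹ ∈ N := (memJ_norm (a.nN (UH hw))).2 hy.1
      have k5 : ¬ zpowers (w * y * w⁻¹) ≤ zpowers y := fun e =>
        hc0 (c1 ▸ mem_clX.2 ⟨w, ⟨hw, mem_norm_cycle.2 (zpowers_le.1 e)⟩, rfl⟩)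
      have k6 : zpowers (w * y * w⁻¹) ⊔ zpowers y = N := eq_of_le_card
        (sup_le (zpowers_le.2 cN) (zpowers_le.2 hy.1)) (by
          rw [TI_cardMg ((zpowers_le.2 hy.1).trans (sub_abelian_norm a.ab (zpowers_le.2 cN)))
            (prime_TIg (by rw [card_cycle, ord_conj, a.oy]; exact hp.out) k5), card_cycle, card_cycle,
            ord_conj, a.oy, a.card, sq])
      have k4 : (f u)⁻¹ * u' * f u = t := h.eq_t' a.xN (odd_of_mem oU (a.NU a.xN)) x1 a.iv (UH (a.NU a.xN))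
        hN (sub_cent1.1 (k6.ge.trans (sup_le (zpowers_le.2 (cent1C.1 k3)) (zpowers_le.2 (cent1C.1 k2)))))
        (by have := (sq_conj (g := (f u)⁻¹)).2 (clX_sq h.tt hu'); rwa [inv_inv] at this)
        (fun e => clX_ne h.t1 hu' (by
          rw [show u' = f u * ((f u)⁻¹ * u' * f u) * (f u)⁻¹ by group, e]; group))
      obtain rfl : u = u' := by rw [← hf' u hu, ← k4]; group
      simpa using e
  have p1 := indexg_gt0 (𝐎(𝐂[t]) ⊓ 𝐂[s]) 𝐂[y]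
  have p3 := hp.out.two_le
  have p4 := odd_of_mem oU (a.NU hy.1)
  rw [a.oy] at p4
  rw [a.card] at j1
  rw [e7] at e4 e5 e8
  clear e7 of
  generalize 𝐂[y].relIndex (𝐎(𝐂[t]) ⊓ 𝐂[s]) = b at *
  generalize 𝐂[s].relIndex (𝐎(𝐂[t]) ⊓ 𝐂[y]) = kM at *
  generalize 𝐂[s].relIndex 𝐎(𝐂[t]) = k at *
  generalize 𝐍(zpowers y).relIndex 𝐎(𝐂[t]) = j at *
  generalize 𝐂[t].relIndex 𝐂[y] = gM at *
  generalize 𝐂[t].index = g at *
  generalize 𝐂[y].index = A at *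
  obtain ⟨q, rfl⟩ : ∃ q, p = q + 1 := ⟨p - 1, by omega⟩
  have i0 : j ≤ q + 1 := by
    rw [Nat.add_sub_cancel, show (q + 1) ^ 2 - 1 = (q + 2) * q by
      rw [show (q + 1) ^ 2 = (q + 2) * q + 1 by ring, Nat.add_sub_cancel]] at j1
    have := Nat.le_of_mul_le_mul_right j1 (by omega)
    obtain ⟨c, hc⟩ := j2
    obtain ⟨d, hd⟩ := p4
    omega
  obtain ⟨i, rfl⟩ : ∃ i, j = i + 3 := ⟨j - 3, by obtain ⟨c, hc⟩ := j2; omega⟩
  rw [show b * (i + 3) - b = b * (i + 2) by rw [show b * (i + 3) = b * (i + 2) + b by ring,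
    Nat.add_sub_cancel]] at e8
  obtain rfl : k = (i + 3) * kM := Nat.eq_of_mul_eq_mul_right p1 (by rw [e5]; ring)
  have i1 := i0.trans e6
  have i2 : (55 * kM ^ 2) ^ 2 * (i + 2) * b ≤ 81 * (15 * (kM * kM) ^ 2) * (i + 3) * b := by
    calc (55 * kM ^ 2) ^ 2 * (i + 2) * b ≤ (9 * gM) ^ 2 * (i + 2) * b := by gcongr
      _ = 81 * (gM * (b * (i + 2)) * gM) := by ring
      _ ≤ 81 * (A * gM) := by gcongr
      _ = 81 * g * (i + 3) * b := by rw [e4]; ring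
      _ ≤ 81 * (15 * ((i + 3) * kM) ^ 2) * (i + 3) * b := by gcongr
      _ ≤ _ := by gcongr
  have i3 : 3025 * (i + 2) ≤ 1215 * (i + 3) := Nat.le_of_mul_le_mul_right (by
    calc 3025 * (i + 2) * (kM ^ 4 * b) = (55 * kM ^ 2) ^ 2 * (i + 2) * b := by ring
      _ ≤ _ := i2
      _ = 1215 * (i + 3) * (kM ^ 4 * b) := by ring) (Nat.mul_pos (pow_pos (by omega) 4) p1)
  omega

end Cfsg.Agent.NR
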