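import Cfsg.Agent.Lib.NR.KC4d
import Cfsg.Agent.Lib.GW.Ch2

/-! Four-group case, step (4): reduction to the three configurations. -/

namespace Cfsg.Agent.NR

open Subgroup FT SF.GP SF.T TwoGrp GW

universe u

variable {G : Type u} [Group G] {D N N0 Q X Y : Subgroup G} {t s g x y z w u : G} {p : ℕ}

theorem conj_pow_of (h : u * y * u⁻¹ = w * y) (hw : Commute u w) (n : ℕ) :
    u ^ n * y * (u ^ n)⁻¹ = w ^ n * y := by
  induction n with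
  | zero => simp
  | succ n ih =>
    have e : u * w ^ n * u⁻¹ = w ^ n := by rw [(hw.pow_right n).eq]; group
    calc u ^ (n + 1) * y * (u ^ (n + 1))⁻¹ = u * (u ^ n * y * (u ^ n)⁻¹) * u⁻¹ := by rw [pow_succ']; group
      _ = (u * w ^ n * u⁻¹) * (u * y * u⁻¹) := by rw [ih]; group
      _ = w ^ (n + 1) * y := by rw [e, h, pow_succ]; group

variable [Finite G]

theorem nrm_cmod (h1 : g ∈ 𝐍(D)) (h2 : g ∈ 𝐍(N)) : g ∈ 𝐍(SF.GP.cmod D N) :=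
  Tr.mem_normalizer_of_forall fun x hx =>
    ⟨mul_mem (mul_mem h1 hx.1) (inv_mem h1), fun t ht => by
      have := (memJ_norm h1).2 (hx.2 _ ((memJ_norm' h2).2 ht))
      convert this using 1
      group⟩

theorem rel_le_card (h : ∀ a ∈ X, a * g * a⁻¹ * g⁻¹ ∈ Q) : 𝐂[g].relIndex X ≤ #|Q| := by
  classical
  have := Fintype.ofFinite G
  rw [← card_clX, ← Nat.card_eq_finsetCard]
  refine Nat.card_le_card_of_injective (fun a => (⟨a.1 * g⁻¹, by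
    obtain ⟨b, hb, e⟩ := mem_clX.1 a.2
    rw [← e]; exact h b hb⟩ : Q)) fun a b e => Subtype.ext ?_
  simpa using e

theorem card_le_of_fpf (h : ∀ a ∈ X, g * a * g⁻¹ * a⁻¹ ∈ Q) (h0 : X ⊓ 𝐂[g] = ⊥) : #|X| ≤ #|Q| := by
  have := rel_le_card (X := X) (g := g) (Q := Q) fun a ha => comm_mem_symm (h a ha)
  rwa [← indexgI, h0, indexg1] at this

theorem cyc_exp [hp : Fact p.Prime] (hc : IsCyclic Q) (he : ∀ a ∈ Q, a ^ p = 1) (hx : x ∈ Q) (x1 : x ≠ 1) :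
    Q = zpowers x := by
  obtain ⟨c, rfl⟩ := cyclicP.1 hc
  have c1 : c ≠ 1 := by rintro rfl; exact x1 (by simpa using hx)
  exact nt_gen_prime (by rw [card_cycle, nt_prime_order hp.out (he c (mem_zpowers c)) c1]; exact hp.out) hx x1

theorem eq_zp_of_card (hy : y ∈ Y) (oy : orderOf y = p) (h : #|Y| ≤ p) :
    Y = zpowers y := (eq_of_le_card (zpowers_le.2 hy) (by rwa [card_cycle, oy])).symm

theorem red4 [hp : Fact p.Prime] (p2 : p ≠ 2) (hs : s * s = 1) (sH : s ∈ 𝐂[t])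
    (hH : ∀ X : Subgroup G, 𝐎(𝐂[t]) ≤ X → t ∈ X → s ∈ X → 𝐂[t] ≤ X)
    (pD : IsPGroup p D) (hDW : D ≤ ⁅𝐎(𝐂[t]), zpowers s⁆) (nD : 𝐂[t] ≤ 𝐍(D)) (h0 : D ⊓ 𝐂[s] ≠ ⊥)
    (hcyc : ∀ y ∈ D ⊓ 𝐂[s], y ≠ 1 → ∀ Q : Subgroup G, Q ≤ 𝐎(𝐂[t]) ⊓ 𝐂[y] → s ∈ 𝐍(Q) →
      Q ≤ ⁅Q, zpowers s⁆ → IsCyclic Q)
    (hnn : ∀ Y : Subgroup G, Y ≤ D ⊓ 𝐂[s] → Y ≠ ⊥ → ¬ 𝐂[t] ≤ 𝐍(Y)) :
    (∃ Y y z, Y ≤ D ∧ Alpha t s p Y y z) ∨ (∃ N y x, N ≤ D ∧ Beta1 t s p N y x) ∨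
      ∃ N y x z, N ≤ D ∧ Beta2 t s p N y x z := by
  have oU : Odd #|𝐎(𝐂[t])| := odd_core _
  have nU : 𝐂[t] ≤ 𝐍(𝐎(𝐂[t])) := pcore_norm _ _
  have UH : 𝐎(𝐂[t]) ≤ 𝐂[t] := pcore_sub _ _
  generalize eU : 𝐎(𝐂[t]) = U at *
  have sU := nU sH
  have WU : ⁅U, zpowers s⁆ ≤ U := comm_le sU
  have DU := hDW.trans WU
  have nH : ∀ X : Subgroup G, X ≤ U → ⁅U, zpowers s⁆ ≤ 𝐍(X) → U ⊓ 𝐂[s] ≤ 𝐍(X) → s ∈ 𝐍(X) →
      𝐂[t] ≤ 𝐍(X) := fun X h1 h2 h3 h4 =>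
    hH _ (le_of_comm oU hs sU h2 h3) (cent_sub _ (sub_cent1.1 (h1.trans UH))) h4
  obtain ⟨N, hN⟩ := exists_minimal_of_wellFoundedLT
    (fun X : Subgroup G => X ≤ D ∧ 𝐂[t] ≤ 𝐍(X) ∧ X ⊓ 𝐂[s] ≠ ⊥) ⟨D, le_rfl, nD, h0⟩
  obtain ⟨ND, nN, N1⟩ := hN.prop
  have N0' : N ≠ ⊥ := ne_bot_of_le_ne_bot N1 inf_le_left
  obtain ⟨N0, -, hM⟩ := Finite.exists_le_maximal
    (p := fun X : Subgroup G => X < N ∧ 𝐂[t] ≤ 𝐍(X)) (⟨bot_lt_iff_ne_bot.2 N0', norms1 _⟩ : _ ∧ _)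
  obtain ⟨lt0, n0⟩ := hM.prop
  have pN := pgroup_sub ND pD
  have NU := ND.trans DU
  have oN := odd_of_le NU oU
  have sN := nN sH
  have f0 : ∀ X : Subgroup G, X < N → 𝐂[t] ≤ 𝐍(X) → X ⊓ 𝐂[s] = ⊥ := fun X h1 h2 => by
    by_contra h3
    exact h1.not_ge (hN.le_of_le ⟨h1.le.trans ND, h2, h3⟩ h1.le)
  have f1 : ∀ X : Subgroup G, X < N → 𝐂[t] ≤ 𝐍(X) → ∀ a ∈ X, Iv s a := fun X h1 h2 a ha =>
    inv_of_fpf hs (h2 sH) (f0 X h1 h2) ha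
  have f2 : ∀ X : Subgroup G, X < N → 𝐂[t] ≤ 𝐍(X) → ⁅U, zpowers s⁆ ≤ 𝐂(X) := fun X h1 h2 =>
    comm_cent_of_inv hs (f1 X h1 h2) (UH.trans h2)
  have d1 : ⁅N, N⁆ < N := nil_comm_properl pN.isNilpotent ⟨le_rfl, normG N⟩ N0'
  have d2 : ⁅N, N⁆ ≤ 𝐂(N) := centsC.1 (ND.trans (hDW.trans (f2 _ d1 (normsR nN nN))))
  obtain ⟨y, hy, oy⟩ := FT.Cauchy hp.out (pgroup_pdiv (pgroup_sub inf_le_left pN) N1)
  have y1 : y ≠ 1 := fun e => hp.out.ne_one (by rw [← oy, e, orderOf_one])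
  have yp : y ^ p = 1 := by rw [← oy, pow_orderOf_eq_one]
  have ex : ∀ a ∈ N, a ^ p = 1 := fun a ha => by
    refine exponent_Ohm1_class2 (hp.out.odd_of_ne_two p2) d2 a ?_
    by_contra h1
    have := f0 (Ohm1 p N) (lt_of_le_of_ne (Ohm_sub p N) fun e => h1 (e.symm ▸ ha)) (norms_Ohm1 p nN)
    exact y1 (mem_bot.1 (this ▸ (⟨mem_Ohm1 hy.1 yp, hy.2⟩ : y ∈ Ohm1 p N ⊓ 𝐂[s])))
  have cy : ∀ y ∈ N ⊓ 𝐂[s], y ≠ 1 → ∀ Q : Subgroup G, Q ≤ U ⊓ 𝐂[y] → s ∈ 𝐍(Q) →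
      Q ≤ ⁅Q, zpowers s⁆ → IsCyclic Q := fun y hy => hcyc y ⟨ND hy.1, hy.2⟩
  have NC : N ≤ 𝐂(N0) := ND.trans (hDW.trans (f2 _ lt0 n0))
  have o0 := odd_of_le lt0.le oN
  have i0 : N0 ≤ ⁅N0, zpowers s⁆ := fun a ha => (f1 _ lt0 n0 a ha).mem_comm hs (odd_of_mem o0 ha) ha
  have c0 : IsCyclic N0 := cy y hy y1 _ (le_inf (lt0.le.trans NU) (sub_cent1.2 (NC hy.1))) (n0 sH) i0
  have BY : U ⊓ 𝐂[s] ≤ 𝐍(N ⊓ 𝐂[s]) :=
    normsI (inf_le_left.trans (UH.trans nN)) (norms_cent1 inf_le_right)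
  have nzs : ∀ {A : Subgroup G}, A ≤ 𝐂[s] → A ≤ 𝐍(zpowers s) := fun h =>
    cents_norm (h.trans (cent_cycle s).ge)
  by_cases ha : ⁅N, zpowers s⁆ ≤ N0
  · left
    have hsD : s ∈ SF.GP.cmod N0 N := SF.GP.le_cmod (norms_cycle.2 (n0 sH)) (by rwa [commGC]) (mem_zpowers s)
    have WD : ⁅U, zpowers s⁆ ≤ SF.GP.cmod N0 N := (commgS _ (zpowers_le.2 hsD)).trans
      (commg_subr.2 fun a ha => nrm_cmod (n0 (UH ha)) (nN (UH ha)))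
    obtain ⟨z, hz, z1⟩ := trivgPn.1 (show N0 ≠ ⊥ from fun e => hnn N (le_inf ND (comm_bot.1
      (le_bot_iff.1 (ha.trans e.le)))) N0' nN)
    have ez := cyc_exp c0 (fun a ha => ex a (lt0.le ha)) hz z1
    have oz := nt_prime_order hp.out (ex z (lt0.le hz)) z1
    refine ⟨N ⊓ 𝐂[s], y, z, inf_le_left.trans ND, eU ▸ inf_le_left.trans NU, inf_le_right, eU ▸ BY, hy, oy,
      oz, eU ▸ NU (lt0.le hz), f1 _ lt0 n0 z hz, centS inf_le_left (centsC.1 NC hz), ez ▸ n0,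
      eU ▸ fun u hu => ?_, eU ▸ fun y' hy' y1' w hw => ?_⟩
    · obtain ⟨k, hk, hi, b, hb, rfl⟩ := dec' oU hs sU hu
      have h1 := (WD (hi.mem_comm hs (odd_of_mem oU hk) hk)).2 _ ((memJ_norm (BY hb)).2 hy).1
      exact ⟨b, hb, _, ez ▸ h1, by group⟩
    · have h1 : ¬ ⁅U, zpowers s⁆ ≤ 𝐂[y'] := fun e => by
        refine hnn (N ⊓ 𝐂[s] ⊓ 𝐂(⁅U, zpowers s⁆)) (inf_le_left.trans (inf_le_inf_right _ ND))
          (trivgPn.2 ⟨y', ⟨hy', sub_cent1.1 e⟩, y1'⟩) (nH _ (inf_le_left.trans (inf_le_left.trans NU))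
            (cents_norm (centsC.1 inf_le_right)) (norms_subcent BY (normsR (normsG inf_le_left)
              (nzs inf_le_right))) (cent_sub _ (sub_cent1.1 (inf_le_left.trans inf_le_right))))
      obtain ⟨k, hk, h2⟩ := SetLike.not_le_iff_exists.1 h1
      have h3 := (WD hk).2 _ hy'.1
      have h5 : k * y' * k⁻¹ = (k * y' * k⁻¹ * y'⁻¹) * y' := by group
      have h7 : k * y' * k⁻¹ * y'⁻¹ ≠ 1 := fun e => h2 (cent1_conj.2 (by rw [h5, e, one_mul]))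
      have h8 := cyc_exp c0 (fun a ha => ex a (lt0.le ha)) h3 h7
      have h9 : Commute k (k * y' * k⁻¹ * y'⁻¹) := (f2 _ lt0 n0 hk _ h3).symm
      generalize k * y' * k⁻¹ * y'⁻¹ = c at *
      obtain ⟨n, rfl⟩ := mem_powers_iff_mem_zpowers.2 (show w ∈ zpowers c by rw [← h8, ez]; exact hw)
      exact ⟨k ^ n, pow_mem (WU hk) n, conj_pow_of h5 h9 n⟩
  right
  obtain ⟨x, hx, ix, x0⟩ : ∃ x ∈ N, Iv s x ∧ x ∉ N0 := by
    by_contra! h1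
    exact ha (comm_le_of_iv oN hs sN (n0 sH) h1)
  have x1 : x ≠ 1 := fun e => x0 (e ▸ one_mem _)
  have ox := nt_prime_order hp.out (ex x hx) x1
  have nn : ¬ 𝐂[t] ≤ 𝐍(zpowers y) := hnn _ (zpowers_le.2 ⟨ND hy.1, hy.2⟩) (mt zpowers_eq_bot.1 y1)
  have cyc' : ∀ y ∈ N ⊓ 𝐂[s], y ≠ 1 → IsCyclic ↥⁅N ⊓ 𝐂[y], zpowers s⁆ := fun y hy y1 => by
    have h1 : s ∈ 𝐍(N ⊓ 𝐂[y]) := normsI (norms_cycle.2 sN)
      (norms_cent1 (zpowers_le.2 (cent1C.1 hy.2))) (mem_zpowers s)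
    exact cy y hy y1 _ ((comm_le h1).trans (inf_le_inf_right _ NU)) (commg_normr _ _ (mem_zpowers s))
      (comm_id (odd_of_le inf_le_left oN) hs h1).ge
  have exc : ∀ y ∈ N ⊓ 𝐂[s], ∀ a ∈ ⁅N ⊓ 𝐂[y], zpowers s⁆, a ^ p = 1 := fun y hy a ha =>
    ex a ((commSg _ inf_le_left).trans (comm_le sN) ha)
  by_cases ab : IsMulCommutative N
  · left
    have e1 : N ⊓ 𝐂[y] = N := inf_eq_left.2 (sub_cent1.2 (abelian_cent ab hy.1))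
    have eQ : ⁅N, zpowers s⁆ = zpowers x := by
      have := cyc_exp (cyc' y hy y1) (exc y hy) (x := x) (by
        rw [e1]; exact ix.mem_comm hs (odd_of_mem oN hx) hx) x1
      rwa [e1] at this
    have px : (#|zpowers x|).Prime := by rw [card_cycle, ox]; exact hp.out
    have e0 : N0 = ⊥ := (prime_sub_eq px (i0.trans ((commSg _ lt0.le).trans eQ.le))).resolve_right
      fun e => x0 (e ▸ mem_zpowers x)
    have xs : zpowers x ⊓ 𝐂[s] = ⊥ := fpf_of_inv (odd_of_le (zpowers_le.2 hx) oN) fun a ha => ix.zp ha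
    have hY : #|N ⊓ 𝐂[s]| ≤ p := by
      by_contra hc
      have hW : ⁅U, zpowers s⁆ ≤ 𝐂[x] := comm_le_of_iv oU hs sU (by
          rw [← cent_cycle]; exact norms_cent (norms_cycle.2 ix.nz) (mem_zpowers s)) fun w hw iw => by
        obtain ⟨l, hl, e⟩ := iw.comm hs (odd_of_mem oU hw)
        have lN := nN (UH (zpowers_le.2 hw hl))
        obtain ⟨y', hy', y1'⟩ := trivgPn.1 (show N ⊓ 𝐂[s] ⊓ 𝐂[l * s * l⁻¹] ≠ ⊥ from fun e0 => hc (by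
          refine (card_le_of_fpf (Q := cj l (zpowers x)) (fun a ha => ?_) e0).trans
            (by rw [Tr.card_cj, card_cycle, ox])
          have : s * (l⁻¹ * a * l) * s⁻¹ * (l⁻¹ * a * l)⁻¹ ∈ zpowers x := by
            rw [← eQ, commGC]; exact mem_commg (mem_zpowers s) ((memJ_norm' lN).2 ha.1)
          rw [Tr.mem_cj]
          convert this using 1
          group))
        have h1 : w ∈ 𝐂[y'] := by
          rw [e]; exact mul_mem (cent1C.1 hy'.2) (inv_mem (cent1C.1 hy'.1.2))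
        have h2 : zpowers x ⊔ zpowers w ≤ U ⊓ 𝐂[y'] := sup_le
          (zpowers_le.2 ⟨NU hx, sub_cent1.2 (abelian_cent ab hy'.1.1) hx⟩) (zpowers_le.2 ⟨hw, h1⟩)
        have h3 := cy y' hy'.1 y1' _ h2 (normsY (norms_cycle.2 ix.nz) (norms_cycle.2 iw.nz) (mem_zpowers s))
          (sup_le (zpowers_le.2 (ix.mem_comm hs (odd_of_mem oN hx) (mem_sup_left (mem_zpowers x))))
            (zpowers_le.2 (iw.mem_comm hs (odd_of_mem oU hw) (mem_sup_right (mem_zpowers w)))))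
        exact mem_cent1.2 (abelian_comm (cyclic_abelian h3) (mem_sup_right (mem_zpowers w))
          (mem_sup_left (mem_zpowers x)))
      have h4 := nH (zpowers x) (zpowers_le.2 (NU hx)) (cents_norm (hW.trans (cent_cycle x).ge))
        (eQ ▸ normsR (inf_le_left.trans (UH.trans nN)) (nzs inf_le_right)) ix.nz
      have h5 : zpowers x < N := lt_of_le_of_ne (zpowers_le.2 hx) fun e => N1 (e ▸ xs)
      exact x0 (hM.le_of_ge ⟨h5, h4⟩ (e0.le.trans bot_le) (mem_zpowers x))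
    have eY := eq_zp_of_card hy oy hY
    have eN : N = zpowers x ⊔ zpowers y := le_antisymm
      (le_of_comm oN hs sN (eQ.le.trans le_sup_left) (eY.le.trans le_sup_right))
      (sup_le (zpowers_le.2 hx) (zpowers_le.2 hy.1))
    refine ⟨N, y, x, ND, eU ▸ NU, nN, ?_, ab, ex, eY, oy, hx, ox, ix, nn⟩
    rw [eN, TI_cardMg ((zpowers_le.2 hy.1).trans (sub_abelian_norm ab (zpowers_le.2 hx)))
      (eq_bot_iff.2 ((inf_le_inf_left _ (zpowers_le.2 hy.2)).trans xs.le)), card_cycle, card_cycle, ox, oy, sq]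
  right
  have Z1 : 𝐙(N) < N := lt_of_le_of_ne inf_le_left fun e => ab (center_idP.1 e)
  have eZ : 𝐙(N) = N0 := le_antisymm (hM.le_of_ge ⟨Z1, norms_center nN⟩ (le_inf lt0.le (centsC.1 NC)))
    (le_inf lt0.le (centsC.1 NC))
  have cm : ∀ a ∈ N, ∀ b ∈ N, a * b * a⁻¹ * b⁻¹ ∈ N0 := fun a ha b hb =>
    eZ ▸ (le_inf d1.le d2 (mem_commg ha hb) : _ ∈ 𝐙(N))
  obtain ⟨z0, hz0, z01⟩ := trivgPn.1 (show N0 ≠ ⊥ from eZ ▸ center_pgroup_ne_bot pN N0')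
  have ez0 := cyc_exp c0 (fun a ha => ex a (lt0.le ha)) hz0 z01
  have k0 : #|N0| = p := by rw [ez0, card_cycle, nt_prime_order hp.out (ex z0 (lt0.le hz0)) z01]
  have eQ : ∀ y ∈ N ⊓ 𝐂[s], y ≠ 1 → ⁅N ⊓ 𝐂[y], zpowers s⁆ = N0 := fun y hy y1 =>
    (cyc_exp (cyc' y hy y1) (exc y hy) ((f1 _ lt0 n0 z0 hz0).mem_comm hs (odd_of_mem o0 hz0)
      ⟨lt0.le hz0, sub_cent1.2 (NC hy.1) hz0⟩) z01).trans ez0.symm
  have e0 : N ⊓ 𝐂[s] ⊓ 𝐂[x] = ⊥ := by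
    by_contra e0
    obtain ⟨y', hy', y1'⟩ := trivgPn.1 e0
    exact x0 (eQ y' hy'.1 y1' ▸ ix.mem_comm hs (odd_of_mem oN hx) ⟨hx, cent1C.1 hy'.2⟩)
  have eY := eq_zp_of_card hy oy ((card_le_of_fpf (X := N ⊓ 𝐂[s]) (fun a ha => cm x hx a ha.1) e0).trans k0.le)
  have z1 : x * y * x⁻¹ * y⁻¹ ≠ 1 := fun e => y1 (mem_bot.1 (e0 ▸ (⟨hy, cent1_conj'.2
    (mul_inv_eq_one.1 e)⟩ : y ∈ N ⊓ 𝐂[s] ⊓ 𝐂[x])))
  have hz := cm x hx y hy.1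
  have exy : x * y * x⁻¹ = (x * y * x⁻¹ * y⁻¹) * y := by group
  generalize x * y * x⁻¹ * y⁻¹ = z at *
  have ez := cyc_exp c0 (fun a ha => ex a (lt0.le ha)) hz z1
  have sC : s ∈ 𝐍(N ⊓ 𝐂[y]) := normsI (norms_cycle.2 sN)
    (norms_cent1 (zpowers_le.2 (cent1C.1 hy.2))) (mem_zpowers s)
  have eC : N ⊓ 𝐂[y] = zpowers y ⊔ zpowers z := le_antisymm
    (le_of_comm (odd_of_le inf_le_left oN) hs sC ((eQ y hy y1).le.trans (ez.le.trans le_sup_right))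
      (((inf_le_inf_right _ inf_le_left).trans eY.le).trans le_sup_left))
    (sup_le (zpowers_le.2 ⟨hy.1, cent1id y⟩) (zpowers_le.2 ⟨lt0.le hz, sub_cent1.2 (NC hy.1) hz⟩))
  have oz := nt_prime_order hp.out (ex z (lt0.le hz)) z1
  refine ⟨N, y, x, z, ND, eU ▸ NU, nN, ?_, ex, eY, oy, hx, ix, eZ.trans ez, oz, f1 _ lt0 n0 z hz, exy,
    ez ▸ cm, eC⟩
  have k1 : #|N ⊓ 𝐂[y]| = p * p := by
    rw [eC, sup_comm, TI_cardMg (ez ▸ (zpowers_le.2 hy.1).trans (cents_norm NC))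
      (eq_bot_iff.2 ((inf_le_inf ez.ge (zpowers_le.2 hy.2)).trans (f0 _ lt0 n0).le)), card_cycle,
      card_cycle, oz, oy]
  have k2 : 𝐂[y].relIndex N ≤ p := (rel_le_card fun a ha => cm a ha y hy.1).trans k0.le
  have k3 : 𝐂[y].relIndex N ≠ 1 := fun e => z1 (by
    have := cent1_conj.1 (indexg_eq1.1 e hx)
    rw [exy] at this; simpa using this)
  obtain ⟨n, hn⟩ := card_pgroup pN
  obtain ⟨m, -, hm⟩ := (Nat.dvd_prime_pow hp.out).1 (hn ▸ dvdn_indexg N 𝐂[y])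
  have k4 : m = 1 := by
    rw [hm] at k2 k3
    have := (Nat.pow_le_pow_iff_right hp.out.one_lt).1 (k2.trans_eq (pow_one p).symm)
    rcases m with _ | _ | m
    · simp at k3
    · rfl
    · omega
  rw [← LagrangeI' N 𝐂[y], k1, hm, k4]; ring

end Cfsg.Agent.NR
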