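import Cfsg.Agent.Lib.NR.KDefs
import Cfsg.Agent.Lib.NR.KC4

/-! Four-group case, step (4): configuration (beta2) is impossible. -/

set_option linter.unusedSectionVars false

namespace Cfsg.Agent.NR

open Subgroup FT SF.GP SF.T TwoGrp GW

universe u

variable {G : Type u} [Group G] [Finite G]

/-- the hypotheses of the path count -/
structure B2C (P : K4 G) (p : ℕ) (N : Subgroup G) (y x z : G) : Prop
    extends Beta2 P.t P.s p N y x z where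
  pp : p.Prime
  nz : 𝐍(zpowers z) ≤ 𝐂[P.t]
  rot : P.Rot 𝐂[y]
  oc : ∀ Y : Subgroup G, Y ≤ P.E 𝐂[y] → Odd #|Y| → ∀ w ∈ Y ⊓ 𝐂[P.t], w ≠ 1 → Iv P.s w → Y ≤ 𝐂[P.t]

namespace B2C

variable {P : K4 G} {p : ℕ} {N : Subgroup G} {y x z w w' a g m y' : G} (h : B2C P p N y x z)
include h

theorem zN (hw : w ∈ zpowers z) : w ∈ N := (h.Z ▸ hw : w ∈ 𝐙(N)).1
theorem zc (hw : w ∈ zpowers z) (ha : a ∈ N) : a * w = w * a := (h.Z ▸ hw : w ∈ 𝐙(N)).2 a ha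
theorem yN : y ∈ N := (h.Y ▸ mem_zpowers y : y ∈ N ⊓ 𝐂[P.s]).1
theorem ys : y ∈ 𝐂[P.s] := (h.Y ▸ mem_zpowers y : y ∈ N ⊓ 𝐂[P.s]).2
theorem NH : N ≤ 𝐂[P.t] := h.NU.trans P.U_le
theorem odN (ha : a ∈ N) : Odd (orderOf a) := odd_of_mem P.oddU (h.NU ha)
theorem zM (hw : w ∈ zpowers z) : w ∈ 𝐂[y] := mem_cent1.2 (h.zc hw h.yN).symm
theorem Hz : 𝐂[P.t] ≤ 𝐍(zpowers z) := h.Z ▸ norms_center h.nN
theorem gen (hw : w ∈ zpowers z) (w1 : w ≠ 1) : zpowers z = zpowers w :=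
  nt_gen_prime (by rw [card_cycle, h.oz]; exact h.pp) hw w1

theorem cw (hw : w ∈ zpowers z) (w1 : w ≠ 1) : 𝐂[w] ≤ 𝐂[P.t] := fun g hg => h.nz (by
  rw [h.gen hw w1]
  exact Tr.cj_eq_iff.1 (by rw [Tr.cj_zpowers, cent1_conj.1 hg]))

/-- `t` is the only involution centralizing `w` -/
theorem uniq (hw : w ∈ zpowers z) (w1 : w ≠ 1) (ha : a ∈ 𝐂[w]) (a2 : a * a = 1) (a1 : a ≠ 1) :
    a = P.t := by
  obtain ⟨g, hg, e⟩ := P.inv_conj P.V_t (h.cw hw w1 ha) a2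
  have hw' : g * w * g⁻¹ ∈ zpowers z := Tr.conj_mem_of_mem_normalizer (h.Hz hg) hw
  have w1' : g * w * g⁻¹ ≠ 1 := by simpa using w1
  have c : g * a * g⁻¹ ∈ 𝐂[g * w * g⁻¹] := mem_cent1.2 (by
    calc g * a * g⁻¹ * (g * w * g⁻¹) = g * (a * w) * g⁻¹ := by group
      _ = _ := by rw [mem_cent1.1 ha]; group)
  have iv := h.ivz.zp hw'
  have od := h.odN (h.zN hw')
  rcases P.mem_V.1 e with e | e | e | e
  · exact absurd (by simpa using e) a1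
  · calc a = g⁻¹ * (g * a * g⁻¹) * g⁻¹⁻¹ := by group
      _ = P.t := by rw [e]; exact cent1_conj.1 (inv_mem hg)
  · exact absurd (iv.eq_one od (e ▸ c)) w1'
  · exact absurd ((iv.mul_cent (cent1C.1 (h.NH (h.zN hw')))).eq_one od (e ▸ c)) w1'

theorem uniq' (hw : w ∈ zpowers z) (w1 : w ≠ 1) (ha : m * w * m⁻¹ ∈ 𝐂[a]) (a2 : a * a = 1)
    (a1 : a ≠ 1) : a = m * P.t * m⁻¹ := by
  have := h.uniq hw w1 (a := m⁻¹ * a * m⁻¹⁻¹) (mem_cent1.2 (by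
    calc m⁻¹ * a * m⁻¹⁻¹ * w = m⁻¹ * (a * (m * w * m⁻¹)) * m := by group
      _ = _ := by rw [← mem_cent1.1 ha]; group)) (sq_conj.2 a2) (mt conj_eq_one_iff.1 a1)
  rw [← this]; group

theorem memH (hw : w ∈ zpowers z) (w1 : w ≠ 1) (ha : m * w * m⁻¹ ∈ 𝐂[P.t]) : m ∈ 𝐂[P.t] :=
  cent1_conj.2 (h.uniq' hw w1 ha P.tt P.t1).symm

theorem cj_t (ha : a ∈ 𝐂[y]) (a2 : a * a = 1) (a1 : a ≠ 1) : ∃ m ∈ 𝐂[y], m * P.t * m⁻¹ = a := by
  obtain ⟨g, hg, e⟩ := h.rot.2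
  exact e.conj_t (h.rot.EX hg) h.rot.1 ha a2 a1

theorem inN (hg : g * y * g⁻¹ ∈ 𝐂[P.t]) : g * y * g⁻¹ ∈ N := by
  obtain ⟨m, hm, e⟩ := h.cj_t (a := g⁻¹ * P.t * g⁻¹⁻¹) (mem_cent1.2 (by
    calc g⁻¹ * P.t * g⁻¹⁻¹ * y = g⁻¹ * (P.t * (g * y * g⁻¹)) * g := by group
      _ = _ := by rw [← mem_cent1.1 hg]; group)) (sq_conj.2 P.tt) (mt conj_eq_one_iff.1 P.t1)
  have h1 : g * m ∈ 𝐂[P.t] := cent1_conj.2 (by
    rw [show g * m * P.t * (g * m)⁻¹ = g * (m * P.t * m⁻¹) * g⁻¹ by group, e]; group)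
  have := Tr.conj_mem_of_mem_normalizer (h.nN h1) h.yN
  rwa [show g * m * y * (g * m)⁻¹ = g * (m * y * m⁻¹) * g⁻¹ by group, cent1_conj.1 hm] at this

theorem two0 (hy : y' ∈ N) (ny : y' ∉ zpowers y) (ha : a ∈ 𝐂[y]) (ha' : a ∈ 𝐂[y']) (a2 : a * a = 1)
    (a1 : a ≠ 1) : a = P.t := by
  have c1 := cent1C.1 ha
  have c2 := cent1C.1 ha'
  by_cases e : y * y' * y⁻¹ * y'⁻¹ = 1
  · have : y' ∈ zpowers y ⊔ zpowers z := h.cy ▸ ⟨hy, mem_cent1.2 (by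
      rw [mul_inv_eq_one, mul_inv_eq_iff_eq_mul] at e; exact e.symm)⟩
    obtain ⟨u, hu, w, hw, rfl⟩ := (mem_join_norm' (zpowers_le.2 (h.Hz (h.NH h.yN)))).1 this
    refine h.uniq hw (fun e => ny (by simpa [e] using hu)) (cent1C.1 ?_) a2 a1
    exact (mul_mem_cancel_left (zpowers_le.2 c1 hu)).1 c2
  · exact h.uniq (h.cm _ h.yN _ hy) e (cent1C.1
      (mul_mem (mul_mem (mul_mem c1 c2) (inv_mem c1)) (inv_mem c2))) a2 a1

/-- two conjugates of `⟨y⟩` centralize at most one common involution -/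
theorem two1 {b : G} (ny : g * y * g⁻¹ ∉ zpowers y) (ha : a ∈ 𝐂[y] ⊓ 𝐂[g * y * g⁻¹]) (a2 : a * a = 1)
    (a1 : a ≠ 1) (hb : b ∈ 𝐂[y] ⊓ 𝐂[g * y * g⁻¹]) (b2 : b * b = 1) (b1 : b ≠ 1) : a = b := by
  obtain ⟨m, hm, rfl⟩ := h.cj_t hb.1 b2 b1
  have tr : ∀ c ∈ 𝐂[g * y * g⁻¹], m⁻¹ * c * m⁻¹⁻¹ ∈ 𝐂[m⁻¹ * g * y * (m⁻¹ * g)⁻¹] := fun c hc =>
    mem_cent1.2 (by
      calc m⁻¹ * c * m⁻¹⁻¹ * (m⁻¹ * g * y * (m⁻¹ * g)⁻¹) = m⁻¹ * (c * (g * y * g⁻¹)) * m := by group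
        _ = _ := by rw [mem_cent1.1 hc]; group)
  have h1 := tr _ hb.2
  rw [show m⁻¹ * (m * P.t * m⁻¹) * m⁻¹⁻¹ = P.t by group] at h1
  have := h.two0 (h.inN (cent1C.1 h1)) (fun hh => ny (by
      have := Tr.conj_mem_of_mem_normalizer (show m ∈ 𝐍(zpowers y) from
        Tr.cj_eq_iff.1 (by rw [Tr.cj_zpowers, cent1_conj.1 hm])) hh
      convert this using 1
      group))
    (mul_mem (mul_mem (inv_mem hm) ha.1) (inv_mem (inv_mem hm))) (tr _ ha.2) (sq_conj.2 a2)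
    (mt conj_eq_one_iff.1 a1)
  rw [← this]; group

theorem zE (hw : w ∈ zpowers z) : w ∈ P.E 𝐂[y] := by
  obtain ⟨g, hg, e⟩ := h.rot.2
  have n := P.E_nrm (h.rot.1 P.tV)
  have sE := e.V_E (h.rot.EX hg) P.sV
  obtain ⟨k, hk⟩ := h.odN (h.zN hw)
  have h1 := mul_mem (Tr.conj_mem_of_mem_normalizer (n.nz (h.zM (pow_mem hw (k + 1)))) sE) (inv_mem sE)
  have h2 : Iv P.s (w ^ (k + 1))⁻¹ := h.ivz.zp (inv_mem (pow_mem hw _))
  rw [mul_assoc, mul_assoc, ← mul_assoc P.s, h2, inv_inv, ← pow_add,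
    show k + 1 + (k + 1) = orderOf w + 1 by omega, pow_succ, pow_orderOf_eq_one, one_mul] at h1
  exact h1

/-- no quadrangles -/
theorem quad (ny : g * y * g⁻¹ ∉ zpowers y) (hw : w ∈ zpowers z) (w1 : w ≠ 1) (hw' : w' ∈ zpowers z)
    (w1' : w' ≠ 1) (hm : m ∈ 𝐂[y]) (c1 : y * w ∈ 𝐂[g * y * g⁻¹])
    (c2 : y * (m * w' * m⁻¹) ∈ 𝐂[g * y * g⁻¹]) : m ∈ 𝐂[P.t] := by
  set D := 𝐂[y] ⊓ 𝐂[g * y * g⁻¹]
  have mw : m * w' * m⁻¹ ∈ 𝐂[y] := mul_mem (mul_mem hm (h.zM hw')) (inv_mem hm)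
  have d1 : y * w ∈ D := ⟨mul_mem (cent1id y) (h.zM hw), c1⟩
  have d2 : y * (m * w' * m⁻¹) ∈ D := ⟨mul_mem (cent1id y) mw, c2⟩
  rcases Nat.even_or_odd #|D| with ev | od
  · obtain ⟨a, ha, oa⟩ := Cauchy Nat.prime_two ev.two_dvd
    have a2 : a * a = 1 := by rw [← pow_two, ← oa, pow_orderOf_eq_one]
    have a1 : a ≠ 1 := by rintro rfl; simp at oa
    have key : ∀ v, y * v ∈ D → v ∈ 𝐂[a] := fun v hv =>
      (mul_mem_cancel_left (cent1C.1 ha.1)).1 (cent1_conj.2 (h.two1 ny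
        (mul_mem (mul_mem hv ha) (inv_mem hv)) (sq_conj.2 a2) (mt conj_eq_one_iff.1 a1) ha a2 a1))
    have e1 := h.uniq hw w1 (cent1C.1 (key _ d1)) a2 a1
    exact h.memH hw' w1' (e1 ▸ key _ d2)
  · have o2 : Odd #|D ⊔ zpowers y| := odd_sup od (by rw [card_cycle]; exact h.odN h.yN)
      (zpowers_le.2 (cent_sub _ (mem_cent.2 fun d hd => mem_cent1.1 hd.1)))
    have key : ∀ v, y * v ∈ D → v ∈ D ⊔ zpowers y := fun v hv =>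
      (mul_mem_cancel_left (mem_sup_right (mem_zpowers y))).1 (mem_sup_left hv)
    have n := P.E_nrm (h.rot.1 P.tV)
    refine h.memH hw' w1' (h.oc ((D ⊔ zpowers y) ⊓ P.E 𝐂[y]) inf_le_right (odd_of_le inf_le_left o2)
      w ⟨⟨key _ d1, h.zE hw⟩, h.NH (h.zN hw)⟩ w1 (h.ivz.zp hw)
      ⟨key _ d2, Tr.conj_mem_of_mem_normalizer (n.nz hm) (h.zE hw')⟩)

theorem ex_a (hw : w ∈ zpowers z) : ∃ a ∈ N, a * y * a⁻¹ = y * w := by
  obtain ⟨n, rfl⟩ := mem_powers_iff_mem_zpowers.2 hw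
  refine ⟨x ^ n, pow_mem h.xN n, ?_⟩
  rw [conj_pow_of h.xy (h.zc (mem_zpowers z) h.xN) n, h.zc (pow_mem (mem_zpowers z) n) h.yN]

theorem yz (hw : w ∈ zpowers z) (hy : w ∈ zpowers y) : w = 1 :=
  (h.ivz.zp hw).eq_one (h.odN (h.zN hw)) (cent1C.1 (zpowers_le.2 h.ys hy))

theorem eq_w (hw : w ∈ zpowers z) (hw' : w' ∈ zpowers z) (e : y * w' ∈ zpowers (y * w)) : w' = w := by
  obtain ⟨k, hk⟩ := e
  have c : Commute y w := h.zc hw h.yN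
  simp only [c.mul_zpow] at hk
  have e1 : w' * (w ^ k)⁻¹ = y⁻¹ * y ^ k := by
    rw [mul_inv_eq_iff_eq_mul, mul_assoc, hk]; group
  have e2 := h.yz (mul_mem hw' (inv_mem (zpow_mem hw k)))
    (e1 ▸ mul_mem (inv_mem (mem_zpowers y)) (zpow_mem (mem_zpowers y) k))
  have e3 : y ^ k = y ^ (1 : ℤ) := by
    rw [e2, eq_comm, inv_mul_eq_one] at e1; rw [← e1, zpow_one]
  rw [zpow_eq_zpow_iff_modEq, h.oy] at e3
  have e4 : w ^ k = w ^ (1 : ℤ) := zpow_eq_zpow_iff_modEq.2 (e3.of_dvd (by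
    exact_mod_cast orderOf_dvd_of_pow_eq_one (h.ex w (h.zN hw))))
  rw [mul_inv_eq_one, e4, zpow_one] at e2
  exact e2

omit h in
theorem cj_zp (e : g⁻¹ * a ∈ 𝐍(zpowers y)) : a * y * a⁻¹ ∈ zpowers (g * y * g⁻¹) := by
  obtain ⟨k, hk⟩ := Tr.conj_mem_of_mem_normalizer e (mem_zpowers y)
  refine ⟨k, ?_⟩
  simp only [conj_zpow] at hk ⊢
  rw [hk]; group

/-- last step of a path -/
theorem inj2 {n n' a' : G} (hw : w ∈ zpowers z) (w1 : w ≠ 1) (hw' : w' ∈ zpowers z)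
    (hn : n ∈ 𝐂[y]) (hn' : n' ∈ 𝐂[y]) (ha : a * y * a⁻¹ = y * w) (ha' : a' * y * a'⁻¹ = y * w')
    (aH : a ∈ N) (aH' : a' ∈ N) (e : (n * a)⁻¹ * (n' * a') ∈ 𝐍(zpowers y)) :
    n⁻¹ * n' ∈ 𝐂[P.t] ∧ (n = n' → w = w') := by
  have e1 := cj_zp (inv_mem e |> fun e => by simpa using e : (n' * a')⁻¹ * (n * a) ∈ 𝐍(zpowers y))
  constructor
  · have ny : n * a * y * (n * a)⁻¹ ∉ zpowers y := fun hh => w1 (h.yz hw (by
      have := Tr.conj_mem_of_mem_normalizer (show n⁻¹ ∈ 𝐍(zpowers y) from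
        Tr.cj_eq_iff.1 (by rw [Tr.cj_zpowers, cent1_conj.1 (inv_mem hn)])) hh
      rw [show n⁻¹ * (n * a * y * (n * a)⁻¹) * n⁻¹⁻¹ = a * y * a⁻¹ by group, ha] at this
      exact (mul_mem_cancel_left (mem_zpowers y)).1 this))
    have c : ∀ n a, a ∈ N → n * P.t * n⁻¹ ∈ 𝐂[n * a * y * (n * a)⁻¹] := fun n a ha => mem_cent1.2 (by
      have := mem_cent1.1 (h.NH (mul_mem (mul_mem ha h.yN) (inv_mem ha)))
      calc n * P.t * n⁻¹ * (n * a * y * (n * a)⁻¹) = n * (P.t * (a * y * a⁻¹)) * n⁻¹ := by group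
        _ = _ := by rw [← this]; group)
    have ty := cent1C.1 (h.NH h.yN)
    have := h.two1 ny (mem_inf.2 ⟨mul_mem (mul_mem hn ty) (inv_mem hn), c n a aH⟩) (sq_conj.2 P.tt)
      (mt conj_eq_one_iff.1 P.t1) (mem_inf.2 ⟨mul_mem (mul_mem hn' ty) (inv_mem hn'),
        cent1C.1 (zpowers_le.2 (cent1C.1 (c n' a' aH')) e1)⟩) (sq_conj.2 P.tt) (mt conj_eq_one_iff.1 P.t1)
    rw [cent1_conj, show n⁻¹ * n' * P.t * (n⁻¹ * n')⁻¹ = n⁻¹ * (n' * P.t * n'⁻¹) * n by group, ← this]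
    group
  · rintro rfl
    have e2 := cj_zp (show a'⁻¹ * a ∈ 𝐍(zpowers y) by simpa using inv_mem e)
    rw [ha, ha'] at e2
    exact h.eq_w hw' hw e2

/-- first step of a path -/
theorem inj1 {m' a' n n' b b' v v' : G} (hw : w ∈ zpowers z) (w1 : w ≠ 1) (hw' : w' ∈ zpowers z)
    (w1' : w' ≠ 1) (hm : m ∈ 𝐂[y]) (hm' : m' ∈ 𝐂[y]) (ha : a * y * a⁻¹ = y * w)
    (ha' : a' * y * a'⁻¹ = y * w') (aH : a ∈ N) (hv : v ∈ zpowers z) (v1 : v ≠ 1) (hv' : v' ∈ zpowers z)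
    (hn : n ∈ 𝐂[y]) (hn' : n' ∈ 𝐂[y]) (hb : b * y * b⁻¹ = y * v) (hb' : b' * y * b'⁻¹ = y * v')
    (nH : n ∉ 𝐂[P.t]) (e : (m * a * (n * b))⁻¹ * (m' * a' * (n' * b')) ∈ 𝐍(zpowers y)) :
    m⁻¹ * m' ∈ 𝐂[P.t] ∧ (m = m' → w = w') := by
  have e1 := cj_zp (show (m⁻¹ * m' * a' * (n' * b'))⁻¹ * (a * (n * b)) ∈ 𝐍(zpowers y) by
    convert inv_mem e using 1; group)
  have c : ∀ g n b v, v ∈ zpowers z → n ∈ 𝐂[y] → b * y * b⁻¹ = y * v →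
      g * y * g⁻¹ ∈ 𝐂[g * (n * b) * y * (g * (n * b))⁻¹] := fun g n b v hv hn hb => mem_cent1.2 (by
    have := mem_cent1.1 (mul_mem (mul_mem hn (hb ▸ mul_mem (cent1id y) (h.zM hv) :
      b * y * b⁻¹ ∈ 𝐂[y])) (inv_mem hn))
    calc g * y * g⁻¹ * (g * (n * b) * y * (g * (n * b))⁻¹)
        = g * (y * (n * (b * y * b⁻¹) * n⁻¹)) * g⁻¹ := by group
      _ = _ := by rw [← this]; group)
  have nt : a * (n * b) * y * (a * (n * b))⁻¹ ∉ 𝐂[P.t] := fun hh => nH (h.memH hv v1 (by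
    have := mul_mem (mul_mem (inv_mem (h.NH aH)) hh) (h.NH aH)
    rw [show a⁻¹ * (a * (n * b) * y * (a * (n * b))⁻¹) * a = n * (b * y * b⁻¹) * n⁻¹ by group, hb,
      show n * (y * v) * n⁻¹ = n * y * n⁻¹ * (n * v * n⁻¹) by group, cent1_conj.1 hn] at this
    exact (mul_mem_cancel_left (h.NH h.yN)).1 this))
  have c1 := c a n b v hv hn hb
  have c2 := cent1C.1 (zpowers_le.2 (cent1C.1 (c (m⁻¹ * m' * a') n' b' v' hv' hn' hb')) e1)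
  have hmm := mul_mem (inv_mem hm) hm'
  rw [ha] at c1
  rw [show m⁻¹ * m' * a' * y * (m⁻¹ * m' * a')⁻¹ = m⁻¹ * m' * (a' * y * a'⁻¹) * (m⁻¹ * m')⁻¹ by group,
    ha', show m⁻¹ * m' * (y * w') * (m⁻¹ * m')⁻¹ = m⁻¹ * m' * y * (m⁻¹ * m')⁻¹ *
      (m⁻¹ * m' * w' * (m⁻¹ * m')⁻¹) by group, cent1_conj.1 hmm] at c2
  refine ⟨h.quad (fun hh => nt (zpowers_le.2 (h.NH h.yN) hh)) hw w1 hw' w1' hmm c1 c2, ?_⟩
  rintro rfl
  by_contra ne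
  simp only [inv_mul_cancel, one_mul, inv_one, mul_one] at c2
  refine nt (h.cw (mul_mem (inv_mem hw) hw') (fun e => ne (inv_mul_eq_one.1 e)) (cent1C.1 ?_))
  simpa using mul_mem (inv_mem c1) c2

theorem lower : 𝐂[P.t].relIndex 𝐂[y] * (p - 1) * ((𝐂[P.t].relIndex 𝐂[y] - 1) * (p - 1)) ≤
    (𝐍(zpowers y)).index := by
  classical
  let Q := 𝐂[y] ⧸ 𝐂[P.t].subgroupOf 𝐂[y]
  let Z := {w : zpowers z // w ≠ 1}
  have cZ : Nat.card Z = p - 1 := by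
    have := Fintype.ofFinite (zpowers z)
    rw [Nat.card_eq_fintype_card, Fintype.card_subtype_compl, Fintype.card_subtype_eq,
      ← Nat.card_eq_fintype_card, Nat.card_zpowers, h.oz]
  have cQ : Nat.card {q : Q // q ≠ ((1 : 𝐂[y]) : Q)} = 𝐂[P.t].relIndex 𝐂[y] - 1 := by
    have := Fintype.ofFinite Q
    rw [Nat.card_eq_fintype_card, Fintype.card_subtype_compl, Fintype.card_subtype_eq,
      ← Nat.card_eq_fintype_card]
    rfl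
  choose A AN AE using fun w : Z => h.ex_a w.1.2
  have z1 : ∀ w : Z, (w.1 : G) ≠ 1 := fun w e => w.2 (Subtype.ext e)
  have qe : ∀ q q' : Q, ((q.out : G))⁻¹ * q'.out ∈ 𝐂[P.t] → q = q' := fun q q' e => by
    rw [← q.out_eq, ← q'.out_eq]; exact QuotientGroup.eq.2 e
  have := Nat.card_le_card_of_injective (α := (Q × Z) × ({q : Q // q ≠ ((1 : 𝐂[y]) : Q)} × Z))
    (β := G ⧸ 𝐍(zpowers y))
    (fun u => (((u.1.1.out : G) * A u.1.2 * ((u.2.1.1.out : G) * A u.2.2) : G) : G ⧸ 𝐍(zpowers y))) ?_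
  · rwa [Nat.card_prod, Nat.card_prod, Nat.card_prod, cZ, cQ] at this
  rintro ⟨⟨q, w⟩, ⟨r, v⟩⟩ ⟨⟨q', w'⟩, ⟨r', v'⟩⟩ e
  have e := QuotientGroup.eq.1 e
  simp only at e
  obtain ⟨i1, i2⟩ := h.inj1 w.1.2 (z1 w) w'.1.2 (z1 w') q.out.2 q'.out.2 (AE w) (AE w') (AN w) v.1.2
    (z1 v) v'.1.2 r.1.out.2 r'.1.out.2 (AE v) (AE v') (fun hh => r.2 (by
      rw [← r.1.out_eq]; exact QuotientGroup.eq.2 (by simpa [mem_subgroupOf] using hh))) e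
  obtain rfl := qe _ _ i1
  obtain rfl : w = w' := Subtype.ext (Subtype.ext (i2 rfl))
  obtain ⟨j1, j2⟩ := h.inj2 v.1.2 (z1 v) v'.1.2 r.1.out.2 r'.1.out.2 (AE v) (AE v') (AN v) (AN v')
    (by convert e using 1; group)
  obtain rfl : r = r' := Subtype.ext (qe _ _ j1)
  obtain rfl : v = v' := Subtype.ext (Subtype.ext (j2 rfl))
  rfl

theorem upper : (𝐍(zpowers y)).relIndex 𝐂[P.t] * (p - 1) ≤ p ^ 3 := by
  classical
  let Q := 𝐂[P.t] ⧸ (𝐍(zpowers y)).subgroupOf 𝐂[P.t]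
  let Z := {w : zpowers y // w ≠ 1}
  have cZ : Nat.card Z = p - 1 := by
    have := Fintype.ofFinite (zpowers y)
    rw [Nat.card_eq_fintype_card, Fintype.card_subtype_compl, Fintype.card_subtype_eq,
      ← Nat.card_eq_fintype_card, Nat.card_zpowers, h.oy]
  have := Nat.card_le_card_of_injective (α := Q × Z) (β := N)
    (fun u => ⟨(u.1.out : G) * u.2.1 * (u.1.out : G)⁻¹, Tr.conj_mem_of_mem_normalizer (h.nN u.1.out.2)
      (zpowers_le.2 h.yN u.2.1.2)⟩) ?_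
  · rwa [Nat.card_prod, cZ, h.card] at this
  rintro ⟨q, w⟩ ⟨q', w'⟩ e
  have e : (q.out : G) * w.1 * (q.out : G)⁻¹ = (q'.out : G) * w'.1 * (q'.out : G)⁻¹ :=
    congrArg Subtype.val e
  have gy : ∀ w : Z, zpowers y = zpowers (w.1 : G) := fun w =>
    nt_gen_prime (by rw [card_cycle, h.oy]; exact h.pp) w.1.2 fun e => w.2 (Subtype.ext e)
  obtain rfl : q = q' := by
    rw [← q.out_eq, ← q'.out_eq]
    refine QuotientGroup.eq.2 (Tr.cj_eq_iff.1 ?_ : (q.out : G)⁻¹ * q'.out ∈ 𝐍(zpowers y))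
    have g1 := gy w
    have g2 := gy w'
    generalize (q.out : G) = a at e ⊢
    generalize (q'.out : G) = b at e ⊢
    generalize (w.1 : G) = c at e g1
    generalize (w'.1 : G) = d at e g2
    calc Tr.cj (a⁻¹ * b) (zpowers y) = zpowers (a⁻¹ * (b * d * b⁻¹) * a) := by
          rw [g2, Tr.cj_zpowers]; congr 1; group
      _ = zpowers y := by rw [← e, g1]; congr 1; group
  obtain rfl : w = w' := Subtype.ext (Subtype.ext (by simpa using e))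
  rfl

end B2C

theorem b2_arith {p g j j' k kM gM g' L : ℕ} (p5 : 5 ≤ p) (h1 : gM * (p - 1) * ((gM - 1) * (p - 1)) ≤ L)
    (h2 : j * (p - 1) ≤ p ^ 3) (h3 : j' ≤ j) (h4 : g' * L = j * g) (h5 : g ≤ 15 * (j' * k) ^ 2)
    (h6 : 55 * k ^ 2 ≤ 9 * g') (h7 : 55 * kM ^ 2 ≤ 9 * gM) (h8 : p ≤ kM) (h9 : 0 < g') : False := by
  obtain ⟨q, rfl⟩ : ∃ q, p = q + 1 := ⟨p - 1, by omega⟩
  simp only [Nat.add_sub_cancel] at h1 h2
  have q4 : 4 ≤ q := by omega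
  have a1 : 4 * j ≤ 5 * (q + 1) ^ 2 := by
    refine Nat.le_of_mul_le_mul_right (c := q) ?_ (by omega)
    calc 4 * j * q = 4 * (j * q) := by ring
      _ ≤ 4 * (q + 1) ^ 3 := by omega
      _ = (q + 1) ^ 2 * (4 * (q + 1)) := by ring
      _ ≤ (q + 1) ^ 2 * (5 * q) := Nat.mul_le_mul_left _ (by omega)
      _ = _ := by ring
  have a2 : 55 * L ≤ 135 * j ^ 3 := by
    refine Nat.le_of_mul_le_mul_left (c := g') ?_ h9
    calc g' * (55 * L) = 55 * (j * g) := by rw [← h4]; ring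
      _ ≤ 55 * (j * (15 * (j * k) ^ 2)) := by
        gcongr
        exact h5.trans (by gcongr)
      _ = 15 * j ^ 3 * (55 * k ^ 2) := by ring
      _ ≤ 15 * j ^ 3 * (9 * g') := by gcongr
      _ = _ := by ring
  have a3 : 6 * (q + 1) ^ 2 ≤ gM - 1 := by
    have : (q + 1) ^ 2 ≤ kM ^ 2 := by gcongr
    have : 25 ≤ (q + 1) ^ 2 := by nlinarith
    omega
  have a4 : 6 * (q + 1) ^ 2 * q * (6 * (q + 1) ^ 2 * q) ≤ L :=
    le_trans (by gcongr; omega) h1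
  have a5 : (4 * j) ^ 3 ≤ (5 * (q + 1) ^ 2) ^ 3 := by gcongr
  have a6 : (q + 1) ^ 2 ≤ 2 * q ^ 2 := by nlinarith
  have a7 : (q + 1) ^ 6 ≤ 2 * ((q + 1) ^ 4 * q ^ 2) := by
    calc (q + 1) ^ 6 = (q + 1) ^ 4 * (q + 1) ^ 2 := by ring
      _ ≤ (q + 1) ^ 4 * (2 * q ^ 2) := by gcongr
      _ = _ := by ring
  have a8 : 0 < (q + 1) ^ 4 * q ^ 2 := by positivity
  have b4 : 36 * ((q + 1) ^ 4 * q ^ 2) ≤ L := by convert a4 using 1; ring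
  have b5 : 64 * j ^ 3 ≤ 125 * (q + 1) ^ 6 := by convert a5 using 1 <;> ring
  omega

/-- configuration (beta2) is impossible -/
theorem K4.beta2 {P : K4 G} {p : ℕ} {N : Subgroup G} {y x z : G} (hs : IsSimpleGroup G) (nr : NoReal G)
    (hH : IsCoatom 𝐂[P.t]) (hO : P.OF) (pp : p.Prime) (b : Beta2 P.t P.s p N y x z) (rot : P.Rot 𝐂[y])
    (oc : ∀ Y : Subgroup G, Y ≤ P.E 𝐂[y] → Odd #|Y| → ∀ w ∈ Y ⊓ 𝐂[P.t], w ≠ 1 → Iv P.s w →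
      Y ≤ 𝐂[P.t]) : False := by
  have zN : z ∈ N := (b.Z ▸ mem_zpowers z : z ∈ 𝐙(N)).1
  have z1 : z ≠ 1 := fun e => pp.one_lt.ne' (by rw [← b.oz, e, orderOf_one])
  have oz : Odd (orderOf z) := odd_of_mem P.oddU (b.NU zN)
  have Hz : 𝐂[P.t] ≤ 𝐍(zpowers z) := b.Z ▸ norms_center b.nN
  have nz : 𝐍(zpowers z) ≤ 𝐂[P.t] := by
    refine (hH.le_iff.1 Hz).elim (fun e => ?_) fun e => e.le
    rcases (normalizer_eq_top_iff.1 e).eq_bot_or_eq_top with e | e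
    · exact absurd (zpowers_eq_bot.1 e) z1
    · have : P.t ∈ P.U := zpowers_le.2 (b.NU zN) (e ▸ mem_top _)
      exact absurd ((show Iv 1 P.t by simp [Iv, P.t_inv]).eq_one (P.mem_U.1 this).2 (one_mem _)) P.t1
  have h : B2C P p N y x z := ⟨b, pp, nz, rot, oc⟩
  have p3 : p ≠ 3 := fun e => nr z (b.oz.trans e) (isConj_iff.2 ⟨P.s, b.ivz⟩)
  have p5 : 5 ≤ p := by
    have := pp.two_le
    have := b.oz ▸ oz
    obtain ⟨k, hk⟩ := this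
    omega
  have MN : 𝐂[y] ≤ 𝐍(zpowers y) := fun g hg => Tr.cj_eq_iff.1 (by rw [Tr.cj_zpowers, cent1_conj.1 hg])
  have BN : P.U ⊓ 𝐂[P.s] ≤ 𝐍(zpowers y) := b.Y ▸ normsI (inf_le_left.trans (P.U_le.trans b.nN))
    (normsG inf_le_right)
  have o1 := (hO ⊤ (rot.mono le_top)).2
  rw [inf_top_eq, relIndex_top_right] at o1
  have e1 : 𝐂[P.s].relIndex P.U = (𝐍(zpowers y)).relIndex P.U *
      𝐂[P.s].relIndex (P.U ⊓ 𝐍(zpowers y)) := by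
    have := relIndex_mul_relIndex (P.U ⊓ 𝐂[P.s]) (P.U ⊓ 𝐍(zpowers y)) P.U (le_inf inf_le_left BN)
      inf_le_left
    rw [inf_relIndex_left, inf_relIndex_left] at this
    rw [← this, mul_comm]
    congr 1
    rw [← inf_relIndex_right 𝐂[P.s], ← inf_relIndex_right (P.U ⊓ 𝐂[P.s])]
    congr 1
    rw [inf_comm P.U 𝐂[P.s], inf_assoc, ← inf_assoc P.U, inf_idem]
  have e2 : 𝐂[P.t].relIndex 𝐍(zpowers y) * (𝐍(zpowers y)).index =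
      (𝐍(zpowers y)).relIndex 𝐂[P.t] * 𝐂[P.t].index := by
    rw [← inf_relIndex_right, relIndex_mul_index inf_le_right, ← inf_relIndex_left 𝐂[P.t],
      relIndex_mul_index inf_le_left]
  have k1 : p ≤ 𝐂[P.s].relIndex (P.U ⊓ 𝐂[y]) := by
    have := relIndex_le_of_le_right (H := 𝐂[P.s]) (K := zpowers z) (L := P.U ⊓ 𝐂[y])
      (zpowers_le.2 ⟨b.NU zN, h.zM (mem_zpowers z)⟩) (Nat.card_pos.ne')
    rwa [← inf_relIndex_right, show 𝐂[P.s] ⊓ zpowers z = ⊥ from eq_bot_iff.2 fun w hw =>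
      (b.ivz.zp hw.2).eq_one (h.odN (h.zN hw.2)) (cent1C.1 hw.1), relIndex_bot_left, Nat.card_zpowers,
      b.oz] at this
  exact b2_arith p5 h.lower h.upper (relIndex_le_of_le_right P.U_le Nat.card_pos.ne') e2 (e1 ▸ o1)
    (hO _ (rot.mono MN)).1 (hO _ rot).1 k1 Nat.card_pos

end Cfsg.Agent.NR
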