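import Cfsg.Agent.Lib.NR.Basic
import Cfsg.Agent.Lib.Rank2.Real2

/-!
# The unipotent subgroup of `PSL₂(F)` in characteristic three
-/

set_option autoImplicit false

namespace Cfsg.Agent.NR

open Subgroup Solv Matrix
open scoped MatrixGroups Pointwise

variable {F : Type*} [Field F]

def uS (a : F) : SL(2, F) := ⟨!![1, a; 0, 1], by simp [det_fin_two_of]⟩
def wS : SL(2, F) := ⟨!![0, -1; 1, 0], by simp [det_fin_two_of]⟩
def hS (s : F) (hs : s ≠ 0) : SL(2, F) := ⟨!![s, 0; 0, s⁻¹], by simp [det_fin_two_of, hs]⟩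

theorem coe_uS (a : F) : (uS a : Matrix (Fin 2) (Fin 2) F) = !![1, a; 0, 1] := rfl
theorem coe_wS : ((wS : SL(2, F)) : Matrix (Fin 2) (Fin 2) F) = !![0, -1; 1, 0] := rfl
theorem coe_hS (s : F) (hs : s ≠ 0) : (hS s hs : Matrix (Fin 2) (Fin 2) F) = !![s, 0; 0, s⁻¹] := rfl

/-- The projection to the projective group. -/
def pr : SL(2, F) →* PSL(2, F) := QuotientGroup.mk' _

theorem pr_surj : Function.Surjective (pr : SL(2, F) →* PSL(2, F)) := QuotientGroup.mk'_surjective _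

theorem pr_eq {A B : SL(2, F)} (h : pr A = pr B) :
    ∃ r : F, (r = 1 ∨ r = -1) ∧ ∀ i j, B i j = r * A i j := by
  obtain ⟨z, hz, rfl⟩ := (QuotientGroup.mk'_eq_mk' _).1 h
  obtain ⟨r, hr, h1⟩ := Matrix.SpecialLinearGroup.mem_center_iff.1 hz
  refine ⟨r, sq_eq_one_iff.1 (by simpa using hr), fun i j => ?_⟩
  show (A.1 * z.1) i j = r * A.1 i j
  rw [← h1, scalar_apply, mul_diagonal, mul_comm]

theorem uS_add (a b : F) : uS (a + b) = uS a * uS b := Subtype.ext (by
  change (!![1, a + b; 0, 1] : Matrix (Fin 2) (Fin 2) F) = !![1, a; 0, 1] * !![1, b; 0, 1]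
  simp [add_comm])

theorem uS_zero : uS (0 : F) = 1 := Subtype.ext (by
  change (!![1, 0; 0, 1] : Matrix (Fin 2) (Fin 2) F) = 1
  rw [one_fin_two])

/-- The unipotent elements. -/
def u (a : F) : PSL(2, F) := pr (uS a)

theorem u_add (a b : F) : u (a + b) = u a * u b := by rw [u, uS_add, map_mul]; rfl
theorem u_zero : u (0 : F) = 1 := by rw [u, uS_zero, map_one]
theorem u_neg (a : F) : u (-a) = (u a)⁻¹ :=
  eq_inv_of_mul_eq_one_left (by rw [← u_add, neg_add_cancel, u_zero])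

def uHom : Multiplicative F →* PSL(2, F) where
  toFun a := u a.toAdd
  map_one' := u_zero
  map_mul' _ _ := u_add _ _

/-- The unipotent subgroup. -/
def U (F : Type*) [Field F] : Subgroup PSL(2, F) := (uHom (F := F)).range

theorem mem_U {x : PSL(2, F)} : x ∈ U F ↔ ∃ a, u a = x :=
  ⟨fun ⟨a, h⟩ => ⟨a.toAdd, h⟩, fun ⟨a, h⟩ => ⟨Multiplicative.ofAdd a, h⟩⟩

theorem u_mem (a : F) : u a ∈ U F := mem_U.2 ⟨a, rfl⟩

theorem u_eq_one {a : F} (h : u a = 1) : a = 0 := by
  obtain ⟨r, -, h1⟩ := pr_eq (A := 1) (B := uS a) (by rw [map_one]; exact h.symm)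
  simpa [uS] using h1 0 1

theorem U_comm {x y : PSL(2, F)} (hx : x ∈ U F) (hy : y ∈ U F) : x * y = y * x := by
  obtain ⟨a, rfl⟩ := mem_U.1 hx
  obtain ⟨b, rfl⟩ := mem_U.1 hy
  rw [← u_add, ← u_add, add_comm]

theorem conj_uS {g : SL(2, F)} (hg : g 1 0 = 0) (a : F) : g * uS a = uS (g 0 0 ^ 2 * a) * g := by
  have hd := g.det_coe
  rw [det_fin_two] at hd
  have hg' : g.1 1 0 = 0 := hg
  rw [hg', mul_zero, sub_zero] at hd
  ext i j
  change (g.1 * !![1, a; 0, 1]) i j = (!![1, g.1 0 0 ^ 2 * a; 0, 1] * g.1) i j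
  fin_cases i <;> fin_cases j <;> simp [mul_apply, Fin.sum_univ_two, hg']
  linear_combination (-(g.1 0 0) * a) * hd

theorem conj_u {g : SL(2, F)} (hg : g 1 0 = 0) (a : F) :
    pr g * u a * (pr g)⁻¹ = u (g 0 0 ^ 2 * a) := by
  rw [mul_inv_eq_iff_eq_mul, u, u, ← map_mul, ← map_mul, conj_uS hg]

theorem pr_mem_normalizer [Finite F] {g : SL(2, F)} (hg : g 1 0 = 0) :
    pr g ∈ normalizer (U F : Set PSL(2, F)) := by
  refine mem_normalizer_fintype fun x hx => ?_
  obtain ⟨a, rfl⟩ := mem_U.1 hx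
  rw [conj_u hg]; exact u_mem _

theorem bruhat [Finite F] (g : PSL(2, F)) : g ∈ normalizer (U F : Set PSL(2, F)) ∨
    ∃ x ∈ U F, ∃ b ∈ normalizer (U F : Set PSL(2, F)), g = x * pr wS * b := by
  obtain ⟨g, rfl⟩ := pr_surj g
  by_cases hg : g 1 0 = 0
  · exact Or.inl (pr_mem_normalizer hg)
  · refine Or.inr ⟨u (g 0 0 / g 1 0), u_mem _, pr (wS⁻¹ * uS (-(g 0 0 / g 1 0)) * g),
      pr_mem_normalizer ?_, ?_⟩
    · change (adjugate !![0, -1; 1, 0] * !![1, -(g.1 0 0 / g.1 1 0); 0, 1] * g.1 :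
        Matrix (Fin 2) (Fin 2) F) 1 0 = 0
      rw [adjugate_fin_two_of]
      have hg' : g.1 1 0 ≠ 0 := hg
      simp [mul_apply, Fin.sum_univ_two]
      field_simp
      ring
    · rw [map_mul, map_mul, map_inv, ← u, u_neg]; group

theorem w_not_mem : pr wS ∉ normalizer (U F : Set PSL(2, F)) := by
  intro h
  obtain ⟨a, ha⟩ := mem_U.1 ((mem_normalizer_iff.1 h _).1 (u_mem (1 : F)))
  rw [eq_mul_inv_iff_mul_eq, u, u, ← map_mul, ← map_mul] at ha
  obtain ⟨r, -, h1⟩ := pr_eq ha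
  have h2 := h1 1 1
  change (!![0, -1; 1, 0] * !![1, 1; 0, 1] : Matrix (Fin 2) (Fin 2) F) 1 1 =
    r * (!![1, a; 0, 1] * !![0, -1; 1, 0] : Matrix (Fin 2) (Fin 2) F) 1 1 at h2
  simp [mul_apply, Fin.sum_univ_two] at h2

variable (h3 : (3 : F) = 0)
include h3

theorem u_pow (a : F) : u a ^ 3 = 1 := by
  rw [pow_three, ← u_add, ← u_add, show a + (a + a) = 3 * a by ring, h3, zero_mul, u_zero]

theorem isPGroup_U : IsPGroup 3 (U F) := fun x => ⟨1, by
  obtain ⟨a, ha⟩ := mem_U.1 x.2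
  apply Subtype.ext
  rw [pow_one, coe_pow, ← ha, u_pow h3, coe_one]⟩

theorem not_dvd_index_U [Finite F] : ¬ 3 ∣ (U F).index := by
  classical
  have := Fintype.ofFinite F
  have h1 := card_eq_card_quotient_mul_card_subgroup (center SL(2, F))
  rw [Tr.L2.card_SL] at h1
  have hU : Nat.card (U F) = Fintype.card F := by
    rw [U, ← Nat.card_congr (MonoidHom.ofInjective (f := uHom (F := F))
      ((injective_iff_map_eq_one _).2 fun a ha => u_eq_one (a := a.toAdd) ha)).toEquiv, ← Nat.card_eq_fintype_card]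
    rfl
  have h2 := (U F).card_mul_index
  rw [hU] at h2
  have hq : 3 ∣ Fintype.card F := by
    have : CharP F 3 := (CharP.charP_iff_prime_eq_zero Nat.prime_three).2 (by exact_mod_cast h3)
    obtain ⟨n, -, hn⟩ := FiniteField.card F 3
    rw [hn]; exact dvd_pow_self 3 n.ne_zero
  have h4 : (Fintype.card F - 1) * (Fintype.card F + 1) = (U F).index * Nat.card (center SL(2, F)) := by
    refine Nat.eq_of_mul_eq_mul_left (Fintype.card_pos (α := F)) ?_
    rw [← mul_assoc, h1, ← mul_assoc, h2]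
  intro h
  have h5 : 3 ∣ (Fintype.card F - 1) * (Fintype.card F + 1) := h4 ▸ h.mul_right _
  have h6 : 0 < Fintype.card F := Fintype.card_pos
  rcases (Nat.Prime.dvd_mul Nat.prime_three).1 h5 with h | h <;> omega

theorem sylow_U [Finite F] : IsSylowIn 3 (U F) ⊤ :=
  ⟨le_top, isPGroup_U h3, by rw [relIndex_top_right]; exact not_dvd_index_U h3⟩

theorem two_ne : (2 : F) ≠ 0 := fun h2 => one_ne_zero (α := F) (by linear_combination h3 - h2)

theorem noReal_psl [Finite F] (hs : ¬ IsSquare (-1 : F)) : NoReal PSL(2, F) := by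
  intro x hx hc
  have hQ : IsPGroup 3 (zpowers x) := IsPGroup.of_card (n := 1) (by rw [Nat.card_zpowers, hx]; rfl)
  obtain ⟨k, -, hk⟩ := (sylow_U h3).exists_conj_le (U := zpowers x) le_top hQ
  obtain ⟨a, ha⟩ := mem_U.1 (Fit.mem_conj_smul.1 (hk (mem_zpowers x)))
  obtain ⟨c, hc⟩ := isConj_iff.1 hc
  obtain ⟨g, hg⟩ := pr_surj (k⁻¹ * c * k)
  have h1 : pr g * u a = u (-a) * pr g := by
    rw [u_neg, ha, hg]
    calc k⁻¹ * c * k * (k⁻¹ * x * k) = k⁻¹ * (c * x * c⁻¹) * c * k := by group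
      _ = _ := by rw [hc]; group
  have ha0 : a ≠ 0 := by
    rintro rfl
    rw [u_zero] at ha
    have : x = 1 := by
      calc x = k * (k⁻¹ * x * k) * k⁻¹ := by group
        _ = 1 := by rw [← ha]; group
    rw [this, orderOf_one] at hx
    omega
  rw [u, u, ← map_mul, ← map_mul] at h1
  obtain ⟨r, hr, h2⟩ := pr_eq h1
  have e : ∀ i j, (!![1, -a; 0, 1] * g.1) i j = r * (g.1 * !![1, a; 0, 1]) i j := h2
  have e00 := e 0 0
  have e01 := e 0 1
  have e10 := e 1 0
  have e11 := e 1 1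
  have hd := g.det_coe
  rw [det_fin_two] at hd
  simp [mul_apply, Fin.sum_univ_two] at e00 e01 e10 e11
  have h2' := two_ne h3
  rcases hr with rfl | rfl
  · have r0 : g.1 1 0 = 0 := by
      have : g.1 1 0 * a = 0 := by linear_combination -e11
      exact (mul_eq_zero.1 this).resolve_right ha0
    have r1 : g.1 0 0 = -g.1 1 1 := by
      have : (g.1 0 0 + g.1 1 1) * a = 0 := by linear_combination -e01
      linear_combination (mul_eq_zero.1 this).resolve_right ha0
    exact hs ⟨g.1 1 1, by rw [r0, r1] at hd; linear_combination hd⟩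
  · have r0 : g.1 1 0 = 0 := by
      have : 2 * g.1 1 0 = 0 := by linear_combination e10
      exact (mul_eq_zero.1 this).resolve_left h2'
    have r1 : g.1 0 0 = 0 := by
      have : 2 * g.1 0 0 = 0 := by rw [r0] at e00; linear_combination e00
      exact (mul_eq_zero.1 this).resolve_left h2'
    rw [r0, r1] at hd
    simp at hd

end Cfsg.Agent.NR
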