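import Cfsg.Agent.Lib.GO.Ree1
import Cfsg.Agent.Lib.NR.Psl

/-! Odd order subgroups of `PSL₂(F)`, `-1` not a square, meeting the centralizer of an involution. -/

open Subgroup Matrix
open scoped MatrixGroups

namespace Cfsg.Agent.NR

open FT Tr SF.GP QGrp Ess Ree

variable {F : Type*} [Field F]

theorem b2_inv_ent (M : SL(2, F)) : M⁻¹ 0 0 = M 1 1 ∧ M⁻¹ 0 1 = - M 0 1 ∧ M⁻¹ 1 0 = - M 1 0 ∧
    M⁻¹ 1 1 = M 0 0 := by
  rw [Matrix.SpecialLinearGroup.SL2_inv_expl]
  simp

theorem b2_conj (h2 : (2 : F) ≠ 0) (hn : ¬ IsSquare (-1 : F)) {g w v t : SL(2, F)}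
    (ht : t * t = -1) (hg : ¬ (g = 1 ∨ g = -1)) (gt : t * g = g * t) (hv : g * w = v * g)
    (h : v * w = w * v) : v = w ∨ v = w⁻¹ := by
  by_cases hw : w = 1 ∨ w = -1
  · left
    rcases hw with rfl | rfl
    · simpa using hv.symm
    · have : v * g = -1 * g := by rw [← hv]; simp
      exact mul_right_cancel this
  have hw' := mt (fun h : _ ∧ _ ∧ _ => scalar h2 (y := w) h.1 h.2.1 h.2.2) hw
  have hg' := mt (fun h : _ ∧ _ ∧ _ => scalar h2 (y := g) h.1 h.2.1 h.2.2) hg
  obtain ⟨a1, a2, a3⟩ := comm_iff.1 h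
  obtain ⟨b1, b2, b3⟩ := comm_iff.1 gt
  obtain ⟨c1, c2, c3, c4⟩ := ents hv
  obtain ⟨d1, d2, d3, d4⟩ := ents ht
  simp only [mul_ent] at c1 c2 c3 c4 d1 d2 d3 d4
  simp at d1 d2 d3 d4
  have dw := det2 w
  have dv := det2 v
  have dg := det2 g
  have dt := det2 t
  obtain ⟨i1, i2, i3, i4⟩ := b2_inv_ent w
  have tr : v 0 0 + v 1 1 = w 0 0 + w 1 1 := by
    linear_combination (-g 1 1) * c1 + g 1 0 * c2 + g 0 1 * c3 - g 0 0 * c4 -
      (v 0 0 + v 1 1 - w 0 0 - w 1 1) * dg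
  obtain ⟨β, e1, e2, e3⟩ : ∃ β, v 0 1 = β * w 0 1 ∧ v 1 0 = β * w 1 0 ∧
      v 1 1 - v 0 0 = β * (w 1 1 - w 0 0) := by
    by_cases h1 : w 0 1 = 0
    · by_cases h3 : w 1 0 = 0
      · have h4 : w 1 1 - w 0 0 ≠ 0 := fun h4 => hw' ⟨h1, h3, h4⟩
        refine ⟨(v 1 1 - v 0 0) / (w 1 1 - w 0 0), ?_, ?_, ?_⟩ <;> field_simp
        exacts [by linear_combination a2, by linear_combination a3]
      · refine ⟨v 1 0 / w 1 0, ?_, ?_, ?_⟩ <;> field_simp
        exacts [by linear_combination a1, by linear_combination -a3]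
    · refine ⟨v 0 1 / w 0 1, ?_, ?_, ?_⟩ <;> field_simp
      exacts [by linear_combination -a1, by linear_combination -a2]
  have v0 : 2 * v 0 0 = (w 0 0 + w 1 1) - β * (w 1 1 - w 0 0) := by linear_combination tr - e3
  have v1 : 2 * v 1 1 = (w 0 0 + w 1 1) + β * (w 1 1 - w 0 0) := by linear_combination tr + e3
  by_cases p1 : β = 1
  · left
    subst p1
    refine ext2 (mul_left_cancel₀ h2 ?_) ?_ ?_ (mul_left_cancel₀ h2 ?_)
    exacts [by linear_combination v0, by linear_combination e1, by linear_combination e2,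
      by linear_combination v1]
  by_cases p2 : β = -1
  · right
    subst p2
    refine ext2 (mul_left_cancel₀ h2 ?_) ?_ ?_ (mul_left_cancel₀ h2 ?_)
    exacts [by rw [i1]; linear_combination v0, by rw [i2]; linear_combination e1,
      by rw [i3]; linear_combination e2, by rw [i4]; linear_combination v1]
  exfalso
  have q1 : β - 1 ≠ 0 := sub_ne_zero.2 p1
  have q2 : β + 1 ≠ 0 := fun e => p2 (by linear_combination e)
  have disc : (w 1 1 - w 0 0) ^ 2 + 4 * (w 0 1 * w 1 0) = 0 := by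
    refine mul_left_cancel₀ (mul_ne_zero q1 q2) ?_
    have : (v 1 1 - v 0 0) ^ 2 + 4 * (v 0 1 * v 1 0) =
        (w 1 1 - w 0 0) ^ 2 + 4 * (w 0 1 * w 1 0) := by
      linear_combination (v 0 0 + v 1 1 + w 0 0 + w 1 1) * tr - 4 * dv + 4 * dw
    rw [e1, e2, e3] at this
    linear_combination this
  have bg : (g 1 1 - g 0 0) * (w 1 1 - w 0 0) + 2 * (g 0 1 * w 1 0 + g 1 0 * w 0 1) = 0 := by
    refine mul_left_cancel₀ q1 ?_
    rw [e1] at c1
    rw [e2] at c4
    linear_combination (-2) * c1 - 2 * c4 - g 0 0 * v0 - g 1 1 * v1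
  have tt : t 0 0 + t 1 1 = 0 := by
    have : (t 0 0 + t 1 1) ^ 2 = 0 := by linear_combination d1 + d4 + 2 * dt
    simpa using this
  have bt : (t 1 1 - t 0 0) * (w 1 1 - w 0 0) + 2 * (t 0 1 * w 1 0 + t 1 0 * w 0 1) = 0 := by
    by_cases h1 : g 0 1 = 0
    · by_cases h3 : g 1 0 = 0
      · have h4 : g 1 1 - g 0 0 ≠ 0 := fun h4 => hg' ⟨h1, h3, h4⟩
        refine mul_left_cancel₀ h4 ?_
        linear_combination (t 1 1 - t 0 0) * bg + 2 * w 1 0 * b2 + 2 * w 0 1 * b3
      · refine mul_left_cancel₀ h3 ?_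
        linear_combination t 1 0 * bg - (w 1 1 - w 0 0) * b3 + 2 * w 1 0 * b1
    · refine mul_left_cancel₀ h1 ?_
      linear_combination t 0 1 * bg - (w 1 1 - w 0 0) * b2 - 2 * w 0 1 * b1
  have t1 : t 1 1 = - t 0 0 := by linear_combination tt
  rw [t1] at bt dt
  apply hn
  by_cases h1 : w 0 1 = 0
  · have h4 : w 1 1 - w 0 0 = 0 := by
      rw [h1] at disc
      simpa using disc
    have h3 : w 1 0 ≠ 0 := fun h3 => hw' ⟨h1, h3, h4⟩
    have : t 0 1 = 0 := by
      rw [h1, h4] at bt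
      refine mul_left_cancel₀ (mul_ne_zero h2 h3) ?_
      linear_combination bt
    exact ⟨t 0 0, by rw [this] at dt; linear_combination dt⟩
  · refine ⟨t 0 0 + t 0 1 * (w 1 1 - w 0 0) / (2 * w 0 1), ?_⟩
    field_simp
    linear_combination (4 * w 0 1 ^ 2) * dt + (2 * w 0 1 * t 0 1) * bt - t 0 1 ^ 2 * disc

theorem b2_pr_eq_one (h2 : (2 : F) ≠ 0) (m : SL(2, F)) : pr m = 1 ↔ m = 1 ∨ m = -1 := by
  rw [← mem_center_SL h2, ← QuotientGroup.eq_one_iff]
  rfl

theorem b2_lift_comm (h2 : (2 : F) ≠ 0) {y g : SL(2, F)} (ho : Odd (orderOf (pr y)))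
    (h : Commute (pr g) (pr y)) : g * y = y * g := by
  have hK := b2_pr_eq_one h2
  have : g * y = y * g ∨ g * y = -(y * g) := by
    rcases (hK (g * y * (y * g)⁻¹)).1 (by
      rw [map_mul, map_inv, map_mul, map_mul, h.eq, mul_inv_cancel]) with e | e
    · exact Or.inl (mul_inv_eq_one.1 e)
    · exact Or.inr (by rw [mul_inv_eq_iff_eq_mul] at e; rw [e, neg_one_mul])
  refine this.resolve_right fun e => neg_one_ne h2 ?_
  have e1 : g * y * g⁻¹ = -y := by rw [e]; simp
  have e2 : g * y ^ orderOf (pr y) * g⁻¹ = -(y ^ orderOf (pr y)) := by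
    rw [← conj_pow, e1, ho.neg_pow]
  rcases (hK (y ^ orderOf (pr y))).1 (by rw [map_pow, pow_orderOf_eq_one]) with e | e
  · simpa [e] using e2.symm
  · simpa [e] using e2

/-- an odd order subgroup meeting the centralizer of an involution centralizes it -/
theorem b2_odd_cent [Finite F] (hn : ¬ IsSquare (-1 : F)) {X : Subgroup PSL(2, F)}
    (hX : Odd #|X|) {t z : PSL(2, F)} (ht : orderOf t = 2) (hz : z ∈ X) (z1 : z ≠ 1)
    (zt : Commute t z) {x : PSL(2, F)} (hx : x ∈ X) : Commute x t := by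
  have h2 : (2 : F) ≠ 0 := fun h => hn ⟨1, by linear_combination -h⟩
  have hK := b2_pr_eq_one h2
  have P : PL (⊤ : Subgroup PSL(2, F)) :=
    PL.of_cover h2 pr (fun x => ⟨fun _ => pr_surj x, fun _ => trivial⟩) hK
  have X1 : X ≠ ⊥ := trivgPn.2 ⟨z, hz, z1⟩
  obtain ⟨A, hA, hle⟩ := minnormal_exists X1 (le_normalizer (H := X))
  obtain ⟨p, -, hp⟩ := minnormal_solvable hA hle (oddOrder _ hX)
  have cm : ∀ a ∈ A, ∀ b ∈ A, Commute a b := fun a ha b hb =>
    congrArg Subtype.val ((abelem_abelian hp).is_comm.comm ⟨a, ha⟩ ⟨b, hb⟩)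
  have od : ∀ a ∈ X, Odd (orderOf a) := fun a ha => odd_orderOf_of_odd_card hX ha
  have key : ∀ w ∈ A, Commute w t := fun w hw => by
    have wz : Commute w z := by
      obtain ⟨t, rfl⟩ := pr_surj t
      obtain ⟨g, rfl⟩ := pr_surj z
      obtain ⟨w, rfl⟩ := pr_surj w
      have tt : t * t = -1 := by
        rcases (hK (t * t)).1 (by rw [map_mul]; exact mul_self_of_orderOf_two ht) with e | e
        · exact absurd ((hK t).2 (sq_eq_one h2 e)) (ne_one_of_orderOf_two ht)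
        · exact e
      have c := cm _ (TwoGrp.conj_mem_of_mem_normalizer (hA.2 hz) hw) _ hw
      rw [← map_inv, ← map_mul, ← map_mul] at c
      rcases b2_conj h2 hn (v := g * w * g⁻¹) tt (mt (hK g).2 z1) (b2_lift_comm h2 (od _ hz) zt)
        (by group) (b2_lift_comm h2 (od _ (hle hw)) c) with e | e
      · have : g * w = w * g := by rw [← mul_inv_eq_iff_eq_mul, e]
        exact (Commute.map this.symm pr :)
      · have e' : pr g * pr w * (pr g)⁻¹ = (pr w)⁻¹ := by
          rw [← map_inv, ← map_mul, ← map_mul, e, map_inv]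
        have := conj_odd_pow e' (od _ hz)
        rw [pow_orderOf_eq_one] at this
        have w2 : pr w ^ 2 = 1 := by
          simp only [one_mul, inv_one, mul_one] at this
          rw [pow_two]; nth_rewrite 1 [this]; simp
        have : orderOf (pr w) = 1 := Nat.eq_one_of_dvd_coprimes
          (Nat.coprime_two_left.2 (od _ (hle hw))) (orderOf_dvd_of_pow_eq_one w2) dvd_rfl
        rw [orderOf_eq_one_iff.1 this]
        exact Commute.one_left _
    exact (P.odd z trivial z1 (od z hz) w trivial t trivial wz zt).1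
  obtain ⟨w, hw, w1⟩ := trivgPn.1 hA.1
  have c1 := key _ (TwoGrp.conj_mem_of_mem_normalizer (hA.2 hx) hw)
  have c2 : Commute (x⁻¹ * t * x) w := by
    have := c1.eq
    show x⁻¹ * t * x * w = w * (x⁻¹ * t * x)
    calc x⁻¹ * t * x * w = x⁻¹ * (t * (x * w * x⁻¹)) * x := by group
      _ = w * (x⁻¹ * t * x) := by rw [← this]; group
  have o2 : orderOf (x⁻¹ * t * x) = 2 := by
    have := (MulAut.conj x⁻¹).orderOf_eq t
    simpa [ht] using this
  have := (P.odd w trivial w1 (od w (hle hw)) _ trivial t trivial c2 (key w hw).symm).2 o2 ht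
  show x * t = t * x
  calc x * t = x * (x⁻¹ * t * x) := by rw [this]
    _ = t * x := by group

end Cfsg.Agent.NR
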