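import Cfsg.Agent.Lib.NR.Red
import Cfsg.Agent.Lib.GW.PBar
import Cfsg.Agent.Lib.GW.ZJD

/-! Groups with a Sylow `2`-subgroup of order four and one class of involutions: definitions,
basic facts and the statements of the rows. -/

namespace Cfsg.Agent.NR

open Subgroup FT SF.GP SF.T TwoGrp GW
open scoped MatrixGroups

universe u

/-- a four-group `V = ⟨t, s⟩` which is a Sylow subgroup, `x` permutes its involutions -/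
structure K4 (G : Type*) [Group G] where
  t : G
  s : G
  x : G
  tt : t * t = 1
  ss : s * s = 1
  t1 : t ≠ 1
  s1 : s ≠ 1
  st : s ≠ t
  cm : t * s = s * t
  h8 : ¬ 8 ∣ Nat.card G
  xt : x * t * x⁻¹ = s
  xs : x * s * x⁻¹ = t * s

namespace K4

variable {G : Type u} [Group G] (P : K4 G)

def V : Subgroup G := four P.t P.s P.tt P.ss P.cm
def U : Subgroup G := 𝐎(𝐂[P.t])
def B : Subgroup G := P.U ⊓ 𝐂[P.s]
/-- `g` permutes the involutions of `V` cyclically -/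
def Rt (g : G) : Prop := g * P.t * g⁻¹ = P.s ∧ g * P.s * g⁻¹ = P.t * P.s
/-- the normal closure of `t` in `X` -/
def E (X : Subgroup G) : Subgroup G := closure {y | ∃ m ∈ X, m * P.t * m⁻¹ = y}
/-- type `L` -/
def Rot (X : Subgroup G) : Prop := P.V ≤ X ∧ ∃ g ∈ P.E X, P.Rt g
/-- `T_r = [O_r(U), s]` -/
def T (r : ℕ) : Subgroup G := ⁅core {r} P.U, zpowers P.s⁆
def W : Subgroup G := ⁅P.U, zpowers P.s⁆
/-- `D_r = [O_r(U), W⟨s⟩]` -/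
def D (r : ℕ) : Subgroup G := ⁅core {r} P.U, P.W ⊔ zpowers P.s⁆

/-- The minimal configuration with the local facts which come from the induction. -/
structure Mn [Finite G] : Prop where
  simple : IsSimpleGroup G
  nr : NoReal G
  tn : ∀ M : Subgroup G, 𝐂[P.t] ≤ M → M ≠ ⊤ → TN M
  l1 : ∀ (p : ℕ) (M Y : Subgroup G) (v : G), p.Prime → M ≠ ⊤ → P.V ≤ M → v ∈ P.V → v ≠ 1 → Y ≤ M →
    Odd #|Y| → IsPGroup p Y → M ⊓ 𝐂[v] ≤ 𝐍(Y) → ⁅Y, zpowers v⁆ ≤ core {p} M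
  chf : ∀ M : Subgroup G, M ≠ ⊤ → P.V ≤ M → ChF M ∨ P.V ≤ 𝐂(𝐎(M))
  cyc : ∀ X Q : Subgroup G, X ≠ ⊤ → P.Rot X → P.V ≤ 𝐂(𝐎(X)) → Q ≤ P.U ⊓ X → P.s ∈ 𝐍(Q) →
    ⁅Q, zpowers P.s⁆ = Q → IsCyclic Q
  oc : ∀ X Y : Subgroup G, X ≠ ⊤ → P.Rot X → P.V ≤ 𝐂(𝐎(X)) → Y ≤ P.E X → Odd #|Y| →
    ∀ z ∈ Y ⊓ 𝐂[P.t], z ≠ 1 → Iv P.s z → Y ≤ 𝐂[P.t]

/-- the order formula for subgroups of type `L` (from `NR.of_bound`) -/
def OF : Prop := ∀ X : Subgroup G, P.Rot X →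
  55 * (𝐂[P.s].relIndex (P.U ⊓ X)) ^ 2 ≤ 9 * 𝐂[P.t].relIndex X ∧
    𝐂[P.t].relIndex X ≤ 15 * (𝐂[P.s].relIndex (P.U ⊓ X)) ^ 2

/-- step (1) -/
def R1 : Prop := ∀ r : ℕ, r.Prime → ∀ y ∈ core {r} P.U ⊓ P.B, y ≠ 1 → P.Rot 𝐂[y] →
  P.V ≤ 𝐂(𝐎(𝐂[y]))
/-- step (2) -/
def R2 : Prop := ∀ r : ℕ, r.Prime → P.T r ≠ ⊥ → ∀ Y : Subgroup G, Y ≠ ⊥ → Y ≤ core {r} P.U ⊓ P.B →
  P.B ≤ 𝐍(Y) → P.Rot 𝐂(Y)
/-- step (4) -/
def R4 : Prop := ∀ r : ℕ, r.Prime → P.D r ⊓ P.B = ⊥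
/-- step (5) -/
def R5 : Prop := ∃ T : Subgroup G, T ⊴ 𝐂[P.t] ∧ T ≤ P.U ∧ (∀ y ∈ T, Iv P.s y) ∧ P.U ≤ T ⊔ P.B

end K4

def KMaxStmt : Prop := ∀ (G : Type u) [Group G] [Finite G] (P : K4 G), P.Mn → IsCoatom 𝐂[P.t]
def KOFStmt : Prop := ∀ (G : Type u) [Group G] [Finite G] (P : K4 G), P.OF
def K12Stmt : Prop := ∀ (G : Type u) [Group G] [Finite G] (P : K4 G), P.Mn → IsCoatom 𝐂[P.t] →
  P.R1 ∧ P.R2
def KStep4Stmt : Prop := ∀ (G : Type u) [Group G] [Finite G] (P : K4 G), P.Mn → IsCoatom 𝐂[P.t] →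
  P.OF → P.R1 → P.R2 → P.R4
def K5Stmt : Prop := ∀ (G : Type u) [Group G] [Finite G] (P : K4 G), P.R4 → P.R5
def KB1Stmt : Prop := ∀ (G : Type u) [Group G] [Finite G] (P : K4 G), P.Mn → P.R5 → P.B = ⊥
def KFinStmt : Prop := ∀ (G : Type u) [Group G] [Finite G] (P : K4 G), P.Mn → IsCoatom 𝐂[P.t] →
  P.B = ⊥ → ∃ (F : Type) (_ : Field F) (_ : Finite F), Nonempty (G ≃* PSL(2, F))
def KLocStmt : Prop := ∀ (G : Type u) [Group G] [Finite G] [IsSimpleGroup G] (P : K4 G),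
  SimpleLe.{u} (Nat.card G - 1) → NoReal G → (¬ ∃ H : Subgroup G, IsStronglyEmbedded H) → P.Mn
/-- the theorem for four-group Sylow subgroups -/
def KAllStmt : Prop := ∀ (G : Type u) [Group G] [Finite G] [IsSimpleGroup G] (P : K4 G),
  SimpleLe.{u} (Nat.card G - 1) → NoReal G → (¬ ∃ H : Subgroup G, IsStronglyEmbedded H) →
    ∃ (F : Type) (_ : Field F) (_ : Finite F), Nonempty (G ≃* PSL(2, F))

theorem kall (h0 : KLocStmt.{u}) (h1 : KMaxStmt.{u}) (h2 : KOFStmt.{u}) (h3 : K12Stmt.{u})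
    (h4 : KStep4Stmt.{u}) (h5 : K5Stmt.{u}) (h6 : KB1Stmt.{u}) (h7 : KFinStmt.{u}) : KAllStmt.{u} :=
  fun G _ _ _ P hS hn hse =>
    have m := h0 G P hS hn hse
    have c := h1 G P m
    h7 G P m c (h6 G P m (h5 G P (h4 G P m c (h2 G P) (h3 G P m c).1 (h3 G P m c).2)))

namespace K4

variable {G : Type u} [Group G] (P : K4 G) {X Y M : Subgroup G} {g v y : G}

theorem t_inv : P.t⁻¹ = P.t := inv_eq_of_mul_eq_one_right P.tt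
theorem s_inv : P.s⁻¹ = P.s := inv_eq_of_mul_eq_one_right P.ss
theorem t_ts : P.t * (P.t * P.s) = P.s := by rw [← mul_assoc, P.tt, one_mul]
theorem s_ts : P.s * (P.t * P.s) = P.t := by rw [P.cm, ← mul_assoc, P.ss, one_mul]
theorem tsts : P.t * P.s * (P.t * P.s) = 1 := by rw [mul_assoc, P.s_ts, P.tt]
theorem ts1 : P.t * P.s ≠ 1 := fun e => P.st (by rw [← P.t_ts, e, mul_one])
theorem ts_t : P.t * P.s ≠ P.t := fun e => P.s1 (by simpa using e)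
theorem ts_s : P.t * P.s ≠ P.s := fun e => P.t1 (by simpa using e)
theorem mem_V : y ∈ P.V ↔ y = 1 ∨ y = P.t ∨ y = P.s ∨ y = P.t * P.s := mem_four
theorem tV : P.t ∈ P.V := P.mem_V.2 (by simp)
theorem sV : P.s ∈ P.V := P.mem_V.2 (by simp)
theorem tsV : P.t * P.s ∈ P.V := mul_mem P.tV P.sV
theorem V4 : IsKleinFour P.V := isKleinFour_four P.tt P.ss P.cm P.t1 P.s1 P.st.symm
theorem V2 : IsPGroup 2 P.V := kleinFour_isPGroup P.V4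
theorem card_V : #|P.V| = 4 := P.V4.card_four
theorem V_le_iff : P.V ≤ X ↔ P.t ∈ X ∧ P.s ∈ X :=
  ⟨fun h => ⟨h P.tV, h P.sV⟩, fun h y hy => by
    rcases P.mem_V.1 hy with rfl | rfl | rfl | rfl
    exacts [one_mem _, h.1, h.2, mul_mem h.1 h.2]⟩
theorem V_sq (hv : v ∈ P.V) : v * v = 1 := by
  rcases P.mem_V.1 hv with rfl | rfl | rfl | rfl
  exacts [mul_one _, P.tt, P.ss, P.tsts]
theorem rt_x : P.Rt P.x := ⟨P.xt, P.xs⟩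
theorem Rt.ts {P : K4 G} (h : P.Rt g) : g * (P.t * P.s) * g⁻¹ = P.t := by
  rw [show g * (P.t * P.s) * g⁻¹ = g * P.t * g⁻¹ * (g * P.s * g⁻¹) by group, h.1, h.2, P.s_ts]

/-- the roles of `t, s, ts` are permuted cyclically -/
def rot : K4 G where
  t := P.s
  s := P.t * P.s
  x := P.x
  tt := P.ss
  ss := P.tsts
  t1 := P.s1
  s1 := P.ts1
  st := P.ts_s
  cm := by rw [P.s_ts, mul_assoc, P.ss, mul_one]
  h8 := P.h8
  xt := P.xs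
  xs := by rw [P.rt_x.ts, P.s_ts]

/-- `s` and `ts` are interchanged -/
def swap : K4 G where
  t := P.t
  s := P.t * P.s
  x := P.x⁻¹
  tt := P.tt
  ss := P.tsts
  t1 := P.t1
  s1 := P.ts1
  st := P.ts_t
  cm := by rw [mul_assoc, ← P.cm]
  h8 := P.h8
  xt := by conv_lhs => rw [← P.rt_x.ts]
           group
  xs := by rw [P.t_ts, ← P.xs]; group

theorem conj_mem_E (hg : g ∈ X) : g * P.t * g⁻¹ ∈ P.E X := subset_closure ⟨g, hg, rfl⟩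
theorem t_mem_E : P.t ∈ P.E X := by simpa using P.conj_mem_E (one_mem X)
theorem E_mono (h : X ≤ Y) : P.E X ≤ P.E Y := closure_mono fun _ ⟨m, hm, e⟩ => ⟨m, h hm, e⟩
theorem Rot.mono {P : K4 G} (h : P.Rot X) (hXY : X ≤ Y) : P.Rot Y :=
  ⟨h.1.trans hXY, by obtain ⟨g, hg, e⟩ := h.2; exact ⟨g, P.E_mono hXY hg, e⟩⟩

variable [Finite G]

theorem V_c (hv : v ∈ P.V) : P.V ≤ 𝐂[v] := four_cent1 P.V4 hv
theorem V_t : P.V ≤ 𝐂[P.t] := P.V_c P.tV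
theorem V_s : P.V ≤ 𝐂[P.s] := P.V_c P.sV
theorem cent_V : 𝐂(P.V) = 𝐂[P.t] ⊓ 𝐂[P.s] := le_antisymm
  (le_inf (cent_le_cent1 P.tV) (cent_le_cent1 P.sV)) fun y hy => mem_cent.2 fun v hv => by
    have h1 := mem_cent1.1 hy.1
    have h2 := mem_cent1.1 hy.2
    rcases P.mem_V.1 hv with rfl | rfl | rfl | rfl
    exacts [by simp, h1.symm, h2.symm, by rw [mul_assoc, ← h2, ← mul_assoc, ← h1, mul_assoc]]
theorem E_min (ht : P.t ∈ Y) (hn : X ≤ 𝐍(Y)) : P.E X ≤ Y := (closure_le _).2 (by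
  rintro _ ⟨m, hm, rfl⟩; exact Tr.conj_mem_of_mem_normalizer (hn hm) ht)
theorem E_nrm (ht : P.t ∈ X) : P.E X ⊴ X := ⟨P.E_min ht (normG X), norms_gen (by
  rintro a ha _ ⟨m, hm, rfl⟩; exact ⟨a * m, mul_mem ha hm, by group⟩)⟩
theorem Rt.nV {P : K4 G} (h : P.Rt g) : g ∈ 𝐍(P.V) := Tr.mem_normalizer_of_cj_le (Tr.cj_le_iff.2
  fun a ha => by
    rcases P.mem_V.1 ha with rfl | rfl | rfl | rfl
    exacts [by simp, h.1 ▸ P.sV, h.2 ▸ P.tsV, by rw [h.ts]; exact P.tV])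

/-- `V` is a Sylow subgroup of all its overgroups -/
theorem syl (h : P.V ≤ X) : IsSylowIn 2 P.V X := max_pgroup_Sylow h P.V2 fun R h1 _ h3 => by
  obtain ⟨m, hm⟩ := card_pgroup h3
  have h4 := card_le_of_le h1
  have h5 : m ≤ 2 := by
    by_contra h5
    exact P.h8 ((show 8 ∣ #|R| from hm ▸ pow_dvd_pow 2 (show 3 ≤ m by omega)).trans
      (card_subgroup_dvd_card R))
  refine (eq_of_le_of_card_ge h1 ?_).ge
  rw [hm, P.card_V]; exact Nat.pow_le_pow_right (by norm_num) h5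

theorem inv_conj (hX : P.V ≤ X) (hy : y ∈ X) (h2 : y * y = 1) : ∃ g ∈ X, g * y * g⁻¹ ∈ P.V := by
  obtain ⟨g, hg, e⟩ := Sylow_Jsub (P.syl hX) (zpowers_le.2 hy) (pg_zp h2)
  exact ⟨g, hg, e (Tr.conj_mem_cj.2 (mem_zpowers y))⟩

include P in
theorem two : Two G := fun Q hQ a ha _ _ h1 _ => by
  obtain ⟨g, -, hg⟩ := Sylow_Jsub (P.syl le_top) le_top hQ
  exact absurd (sq_conj.1 (P.V_sq (hg (Tr.conj_mem_cj.2 ha)))) h1

theorem cent_of_sq (hg : g ∈ 𝐍(P.V)) (h : g * g ∈ 𝐂(P.V)) : g ∈ 𝐂(P.V) := by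
  obtain ⟨k, m, ⟨j, rfl⟩, e⟩ := Nat.exists_eq_two_pow_mul_odd (orderOf_pos g).ne'
  have h1 : IsPGroup 2 (zpowers (g ^ (2 * j + 1))) := IsPGroup.iff_orderOf.2 fun a => by
    obtain ⟨i, -, hi⟩ := (Nat.dvd_prime_pow Nat.prime_two).1 (show orderOf a ∣ 2 ^ k from
      (orderOf_dvd_natCard a).trans (by
        rw [Nat.card_zpowers]; exact orderOf_dvd_of_pow_eq_one (by
          rw [← pow_mul, mul_comm, ← e, pow_orderOf_eq_one])))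
    exact ⟨i, hi⟩
  have h2 := sub_Sylow (P.syl le_top) (isPGroup_sup P.V2 h1 (zpowers_le.2 (pow_mem hg _))) le_sup_left le_top
  have h3 : g ^ (2 * j + 1) ∈ 𝐂(P.V) := four_cent P.V4 (h2 ▸ mem_sup_right (mem_zpowers _))
  rw [pow_succ, pow_mul, sq] at h3
  exact (mul_mem_cancel_left (pow_mem h j)).1 h3

theorem norm_V (hg : g ∈ 𝐍(P.V)) : g ∈ 𝐂(P.V) ∨ P.Rt g ∨ P.Rt g⁻¹ := by
  have cj := fun {a} (ha : a ∈ P.V) => P.mem_V.1 (Tr.conj_mem_of_mem_normalizer hg ha)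
  have m : g * (P.t * P.s) * g⁻¹ = g * P.t * g⁻¹ * (g * P.s * g⁻¹) := by group
  have ne : g * P.t * g⁻¹ ≠ g * P.s * g⁻¹ := fun e => P.st (by simpa using e.symm)
  have sq : ∀ a, g * g * a * (g * g)⁻¹ = g * (g * a * g⁻¹) * g⁻¹ := fun a => by group
  have c : ∀ {g}, g * P.t * g⁻¹ = P.t → g * P.s * g⁻¹ = P.s → g ∈ 𝐂(P.V) := fun h1 h2 =>
    P.cent_V ▸ ⟨cent1_conj.2 h1, cent1_conj.2 h2⟩
  rcases cj P.tV with a | a | a | a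
  · exact absurd (by simpa using a) P.t1
  all_goals rcases cj P.sV with b | b | b | b
  any_goals first | exact absurd (conj_eq_one_iff.1 b) P.s1 | exact absurd (a.trans b.symm) ne | skip
  · exact .inl (c a b)
  · exact .inl (P.cent_of_sq hg (c (by rw [sq, a, a]) (by rw [sq, b, m, a, b, P.t_ts])))
  · exact .inl (P.cent_of_sq hg (c (by rw [sq, a, b]) (by rw [sq, b, a])))
  · exact .inr (.inl ⟨a, b⟩)
  · refine .inr (.inr ⟨by rw [← b]; group, ?_⟩)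
    have : g * (P.t * P.s) * g⁻¹ = P.s := by rw [m, a, b, mul_assoc, ← P.cm, P.t_ts]
    conv_lhs => rw [← this]
    group
  · exact .inl (P.cent_of_sq hg (c (by rw [sq, a, m, a, b, mul_assoc, P.ss, mul_one]) (by rw [sq, b, b])))

theorem tn_or (hX : P.V ≤ X) : TN X ∨ ∃ g ∈ X, P.Rt g := by
  by_contra! hc
  refine hc.1 (tn_of_has ((sylowIn_iff.2 (P.syl hX)).hasNormalPComplement_of_burnside ?_))
  rintro g ⟨hg, hgX⟩
  rcases P.norm_V hg with e | e | e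
  exacts [e, absurd e (hc.2 _ hgX), absurd e (hc.2 _ (inv_mem hgX))]

theorem Rt.ncent {P : K4 G} (h : P.Rt g) (hv : v ∈ P.V) (v1 : v ≠ 1) : g ∉ 𝐂[v] := fun e => by
  have e := cent1_conj.1 e
  rcases P.mem_V.1 hv with rfl | rfl | rfl | rfl
  exacts [v1 rfl, P.st (h.1.symm.trans e), P.ts_s (h.2.symm.trans e), P.ts_t (e.symm.trans h.ts)]

theorem tn_c (hv : v ∈ P.V) (v1 : v ≠ 1) : TN 𝐂[v] :=
  (P.tn_or (P.V_c hv)).resolve_right fun ⟨_, hg, e⟩ => e.ncent hv v1 hg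

theorem Rt.ntn {P : K4 G} (h : P.Rt g) (hg : g ∈ X) (hX : P.V ≤ X) : ¬ TN X := fun hT => by
  obtain ⟨a, ha, e⟩ := hT.fusion (P.syl hX) hg P.tV (h.1 ▸ P.sV)
  exact P.st (h.1.symm.trans (e.trans (cent1_conj.1 (P.V_t ha))))

theorem tnH : TN 𝐂[P.t] := P.tn_c P.tV P.t1
theorem sdH : Sdprod P.U P.V 𝐂[P.t] := P.tnH.sdprod (P.syl P.V_t)
theorem mem_O (hv : v ∈ P.V) (v1 : v ≠ 1) : y ∈ 𝐎(𝐂[v]) ↔ y ∈ 𝐂[v] ∧ Odd (orderOf y) :=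
  ⟨fun h => ⟨pcore_sub _ _ h, odd_of_mem (odd_core _) h⟩, fun h => (P.tn_c hv v1).mem h.1 h.2⟩
theorem mem_U : y ∈ P.U ↔ y ∈ 𝐂[P.t] ∧ Odd (orderOf y) := P.mem_O P.tV P.t1
theorem mem_B : y ∈ P.B ↔ y ∈ 𝐂(P.V) ∧ Odd (orderOf y) := by
  simp only [B, mem_inf, P.mem_U, P.cent_V]; tauto
theorem oddU : Odd #|P.U| := odd_core _
theorem U_le : P.U ≤ 𝐂[P.t] := pcore_sub _ _
theorem U_nrm : P.U ⊴ 𝐂[P.t] := pcore_normal _ _
theorem B_U : P.B ≤ P.U := inf_le_left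
theorem B_V : P.B ≤ 𝐂(P.V) := fun _ h => (P.mem_B.1 h).1
theorem oddB : Odd #|P.B| := odd_of_le P.B_U P.oddU
theorem le_U (ho : Odd #|X|) (h : X ≤ 𝐂[P.t]) : X ≤ P.U := P.tnH.le h ho
theorem le_B (ho : Odd #|X|) (h : X ≤ 𝐂(P.V)) : X ≤ P.B := fun _ hx =>
  P.mem_B.2 ⟨h hx, odd_of_mem ho hx⟩
theorem V_nU : P.V ≤ 𝐍(P.U) := P.V_t.trans P.U_nrm.nz
theorem rot_V : P.rot.V = P.V := le_antisymm (P.rot.V_le_iff.2 ⟨P.sV, P.tsV⟩)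
  (P.V_le_iff.2 ⟨P.s_ts ▸ P.rot.tsV, P.rot.tV⟩)
theorem swap_V : P.swap.V = P.V := le_antisymm (P.swap.V_le_iff.2 ⟨P.tV, P.tsV⟩)
  (P.V_le_iff.2 ⟨P.swap.tV, P.t_ts ▸ P.swap.tsV⟩)
theorem rot_B : P.rot.B = P.B := Subgroup.ext fun _ => by rw [P.rot.mem_B, P.mem_B, rot_V]
theorem swap_B : P.swap.B = P.B := Subgroup.ext fun _ => by rw [P.swap.mem_B, P.mem_B, swap_V]
theorem rot_U : P.rot.U = cj P.x P.U := by rw [U, U, ← pcoreJ, ← cent1J, P.xt]; rfl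

/-- all involutions of an overgroup with a rotation are conjugate -/
theorem Rt.conj_t {P : K4 G} (h : P.Rt g) (hg : g ∈ X) (hX : P.V ≤ X) (hy : y ∈ X) (h2 : y * y = 1)
    (y1 : y ≠ 1) : ∃ a ∈ X, a * P.t * a⁻¹ = y := by
  obtain ⟨a, ha, e⟩ := P.inv_conj hX hy h2
  rcases P.mem_V.1 e with e | e | e | e
  · exact absurd (by simpa using e) y1
  · exact ⟨a⁻¹, inv_mem ha, by rw [← e]; group⟩
  · exact ⟨a⁻¹ * g, mul_mem (inv_mem ha) hg, by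
      rw [show a⁻¹ * g * P.t * (a⁻¹ * g)⁻¹ = a⁻¹ * (g * P.t * g⁻¹) * a by group, h.1, ← e]; group⟩
  · exact ⟨a⁻¹ * g⁻¹, mul_mem (inv_mem ha) (inv_mem hg), by
      conv_lhs => rw [← h.ts, ← e]
      group⟩

theorem Rt.V_E {P : K4 G} (h : P.Rt g) (hg : g ∈ X) : P.V ≤ P.E X :=
  P.V_le_iff.2 ⟨P.t_mem_E, h.1 ▸ P.conj_mem_E hg⟩

/-- types `N`, `A`, `L` -/
theorem tri (hX : P.V ≤ X) : TN X ∨ ((∃ g ∈ X, P.Rt g) ∧ 𝐎(X) ⊔ P.V ⊴ X) ∨ P.Rot X := by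
  refine (P.tn_or hX).imp_right fun ⟨g, hg, e⟩ => ?_
  have n := P.E_nrm (hX P.tV)
  refine (P.tn_or (e.V_E hg)).imp (fun hT => ⟨⟨g, hg, e⟩, ?_⟩) fun h => ⟨hX, h⟩
  have h1 : 𝐎(X) ⊔ P.V = 𝐎(X) ⊔ P.E X := le_antisymm (sup_le_sup_left (e.V_E hg) _) (sup_le le_sup_left
    ((hT.sdprod (P.syl (e.V_E hg))).sup.ge.trans (sup_le_sup_right (pcore_normal_le _ n) _)))
  rw [h1]; exact normalY (pcore_normal _ X) n

theorem Rot.EX {P : K4 G} (h : P.Rot X) : P.E X ≤ X := (P.E_nrm (h.1 P.tV)).le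

/-- `X = E(X) C_X(t)` -/
theorem Rot.dec {P : K4 G} (h : P.Rot X) (hy : y ∈ X) : ∃ e ∈ P.E X, e * P.t * e⁻¹ = y * P.t * y⁻¹ := by
  obtain ⟨g, hg, e⟩ := h.2
  exact e.conj_t hg (e.V_E (h.EX hg)) (P.conj_mem_E hy) (sq_conj.2 P.tt) (by simpa using P.t1)

theorem Rot.of_E {P : K4 G} (h : P.Rot X) (hY : P.E X ≤ Y) : P.Rot Y := by
  obtain ⟨g, hg, e⟩ := h.2
  refine ⟨(e.V_E (h.EX hg)).trans hY, g, (closure_le _).2 ?_ hg, e⟩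
  rintro _ ⟨m, hm, rfl⟩
  obtain ⟨a, ha, e⟩ := h.dec hm
  exact e ▸ P.conj_mem_E (hY ha)

theorem Rot.le_nrm {P : K4 G} (h : P.Rot X) (hn : X ≤ 𝐍(Y)) (hc : X ⊓ 𝐂[P.t] ≤ Y) : X ≤ Y := fun y hy => by
  obtain ⟨a, ha, e⟩ := h.dec hy
  have h1 : a ∈ Y := P.E_min (hc ⟨h.1 P.tV, cent1id _⟩) hn ha
  have h2 : a⁻¹ * y ∈ Y := hc ⟨X.mul_mem (X.inv_mem (h.EX ha)) hy, cent1_conj.2 (by
    rw [show a⁻¹ * y * P.t * (a⁻¹ * y)⁻¹ = a⁻¹ * (y * P.t * y⁻¹) * a by group, ← e]; group)⟩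
  simpa using mul_mem h1 h2

end K4

end Cfsg.Agent.NR
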