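import Cfsg.Agent.Lib.NR.KMax1
import Cfsg.Agent.Lib.NR.KDefs

/-! Four-group case, steps (1), (2): centralizers of subgroups of `O_r(U) ⊓ B` rotate `V`. -/

namespace Cfsg.Agent.NR

open Subgroup FT SF.GP SF.T TwoGrp GW

universe u

variable {G : Type u} [Group G] [Finite G] {V X Y Q : Subgroup G} {t s x n v g : G} {r e : ℕ}

/-- `n` permutes `t, s, t s` cyclically -/
def Rt3 (t s n : G) : Prop := n * t * n⁻¹ = s ∧ n * s * n⁻¹ = t * s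

/-- the hypotheses of steps (1), (2) -/
structure KC2 (V : Subgroup G) (t s x : G) : Prop extends Bn V where
  tt : t * t = 1
  ss : s * s = 1
  t1 : t ≠ 1
  cm : t * s = s * t
  rx : Rt3 t s x
  Vle : ∀ X : Subgroup G, V ≤ X ↔ t ∈ X ∧ s ∈ X
  syl : IsSylowIn 2 V ⊤
  max : IsCoatom 𝐂[t]
  tn : TN 𝐂[t]
  tn_or : ∀ M : Subgroup G, M ≠ ⊤ → V ≤ M → TN M ∨ ∃ n ∈ M, Rt3 t s n

omit [Finite G] in
theorem inf_cent_cj (hg : g ∈ 𝐍(Q)) (h : Q ⊓ 𝐂[v] = ⊥) : Q ⊓ 𝐂[g * v * g⁻¹] = ⊥ := by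
  rw [cent1J, ← Tr.cj_eq_iff.2 hg, ← Tr.cj_inf, h, Tr.cj_bot]

omit [Finite G] in
theorem le_cent_cj (hg : g ∈ 𝐍(Q)) (h : Q ≤ 𝐂[v]) : Q ≤ 𝐂[g * v * g⁻¹] := by
  rw [cent1J, ← Tr.cj_eq_iff.2 hg]; exact Tr.cj_mono _ h

theorem le_cent_mul (ht : t * t = 1) (hs : s * s = 1) (nt : t ∈ 𝐍(Q)) (ns : s ∈ 𝐍(Q))
    (h1 : Q ⊓ 𝐂[t] = ⊥) (h2 : Q ⊓ 𝐂[s] = ⊥) : Q ≤ 𝐂[t * s] := fun _ ha =>
  cent1C.1 (Iv.mul (inv_of_fpf ht nt h1 ha) (inv_of_fpf hs ns h2 ha))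

namespace KC2

variable (h : KC2 V t s x)
include h

omit [Finite G] in
theorem tV : t ∈ V := ((h.Vle V).1 le_rfl).1
omit [Finite G] in
theorem sV : s ∈ V := ((h.Vle V).1 le_rfl).2
omit [Finite G] in
theorem Vt : V ≤ 𝐂[t] := four_cent1 h.V4 h.tV
omit [Finite G] in
theorem xts : x * (t * s) * x⁻¹ = t := by
  rw [show x * (t * s) * x⁻¹ = (x * t * x⁻¹) * (x * s * x⁻¹) by group, h.rx.1, h.rx.2, h.cm, ← mul_assoc,
    h.ss, one_mul]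
omit [Finite G] in
theorem xit : x⁻¹ * t * x⁻¹⁻¹ = t * s := by
  conv_lhs => rw [← h.xts]
  group

/-- step (1), the dichotomy -/
theorem dich [Fact e.Prime] (e2 : e ≠ 2) (hY : Y ≤ fit 𝐂[t]) (hX : Y ⊔ fit 𝐂[t] ⊓ 𝐂(Y) ≤ X) :
    core {e} X ≤ 𝐂[t] ∨ (core {e} 𝐂[t] = ⊥ ∧ core {e} X ⊓ 𝐂[t] = ⊥) := by
  by_cases h0 : core {e} 𝐂[t] = ⊥
  · exact .inr ⟨h0, ben_a h.tn.chf (scf_of hY) hX h0⟩
  · refine .inl (h.toSm.ben_b' h.max (scf_of hY) hX h0 (ne_bot_of_le_ne_bot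
      (fun e => h.t1 (zpowers_eq_bot.1 e)) (le_trans ?_ (core_le_pF e2.symm _))))
    exact pcore_max' (pg_zp h.tt) ⟨zpowers_le.2 (cent1id t), cents_norm (cent_cycle t).ge⟩

omit h in
theorem cent_O_of (ht : t * t = 1) (hX : t ∈ X)
    (hc : ∀ e, e.Prime → e ≠ 2 → core {e} X ≤ 𝐂[t]) : 𝐎(X) ≤ 𝐂[t] := by
  refine cent_of_fit (odd_core X) ht (pcore_norm _ X hX) (zpowers_le.1 (cents_Fitting_of_pcore fun e he => ?_))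
  haveI := Fact.mk he
  by_cases e2 : e = 2
  · rw [e2, core2_O, cent1T]; exact le_top
  · rw [core_O e2]; exact zpowers_le.2 (sub_cent1.1 (hc e he e2))

/-- step (1) -/
theorem cent_O (hY : Y ≤ fit 𝐂[t]) (hX : Y ⊔ fit 𝐂[t] ⊓ 𝐂(Y) ≤ X) (hV : V ≤ X) (hn : n ∈ X)
    (rn : Rt3 t s n) : V ≤ 𝐂(𝐎(X)) := by
  have h1 : 𝐎(X) ≤ 𝐂[t] := cent_O_of h.tt (hV h.tV) fun e he e2 => by
    haveI := Fact.mk he
    refine (h.dich e2 hY hX).elim id fun ⟨_, h1⟩ => ?_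
    have nq := pcore_norm {e} X
    have h2 := rn.1 ▸ inf_cent_cj (nq hn) h1
    have h3 := rn.2 ▸ inf_cent_cj (nq hn) h2
    have h4 := le_cent_mul h.tt h.ss (nq (hV h.tV)) (nq (hV h.sV)) h1 h2
    rw [inf_eq_left.2 h4] at h3
    rw [h3]; exact bot_le
  exact (h.Vle _).2 ⟨sub_cent1.1 h1, sub_cent1.1 (rn.1 ▸ le_cent_cj (pcore_norm _ X hn) h1)⟩

theorem le_of_tn (tX : TN X) (hV : V ≤ X) (h1 : 𝐎(X) ≤ Y) (h2 : V ≤ Y) : X ≤ Y :=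
  (tX.sdprod (Sylow_subl hV le_top h.syl)).sup.ge.trans (sup_le h1 h2)

theorem centV_le (hB : 𝐎(𝐂[t]) ⊓ 𝐂[s] ≤ X) (hV : V ≤ X) : 𝐂[t] ⊓ 𝐂[s] ≤ X := fun a ha => by
  obtain ⟨o, ho, w, hw, rfl⟩ := (h.tn.sdprod (Sylow_subl h.Vt le_top h.syl)).exists ha.1
  exact mul_mem (hB ⟨ho, (mul_mem_cancel_right (four_cent1 h.V4 h.sV hw)).1 ha.2⟩) (hV hw)

theorem cent_ne (hv : v ≠ 1) (h2 : v * v = 1) : 𝐂[v] ≠ ⊤ := fun e =>
  h.toSm.ne_top (sol_zp v) (fun e => hv (zpowers_eq_bot.1 e))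
    (eq_top_iff.2 (e.ge.trans (cents_norm (cent_cycle v).ge)))

/-- step (2): the normalizer of `Y` rotates `V` -/
theorem rot_N [Fact r.Prime] (r2 : r ≠ 2) (hR : ¬ core {r} 𝐂[t] ≤ 𝐂[s]) (hY : Y ≤ core {r} 𝐂[t])
    (hYs : Y ≤ 𝐂[s]) (h0 : Y ≠ ⊥) (hB : 𝐎(𝐂[t]) ⊓ 𝐂[s] ≤ 𝐍(Y)) : ∃ n ∈ 𝐍(Y), Rt3 t s n := by
  have pY := pgroup_sub hY (pcore_isPGroup r _)
  have hYt : Y ≤ 𝐂[t] := hY.trans (pcore_sub _ _)
  have hV : V ≤ 𝐍(Y) := cents_norm ((h.Vle _).2 ⟨sub_cent1.1 hYt, sub_cent1.1 hYs⟩)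
  refine (h.tn_or _ (h.toSm.ne_top_odd (odd_p r2 pY) h0) hV).resolve_left fun tX => hR ?_
  have hC := h.centV_le hB hV
  have h1 : 𝐎(𝐍(Y)) ≤ 𝐂[t] := cent_O_of h.tt (hV h.tV) fun e he e2 => by
    haveI := Fact.mk he
    refine (h.dich e2 (hY.trans (pcore_sub_Fitting r _)) (scf_le_norm _ Y)).elim id fun ⟨h2, h3⟩ => ?_
    have nq := pcore_norm {e} 𝐍(Y)
    have key : ∀ g v, g * t * g⁻¹ = v → v ∈ V → 𝐂[v] ⊓ 𝐂[t] ≤ 𝐂[s] → core {e} 𝐍(Y) ⊓ 𝐂[v] = ⊥ := by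
      intro g v hg hv hs
      have v1 : v ≠ 1 := fun e => h.t1 (by rw [← hg] at e; simpa using e)
      have := h.l1' e 𝐂[v] (core {e} 𝐍(Y) ⊓ 𝐂[v]) t (h.cent_ne v1 (h.V_sq hv)) (four_cent1 h.V4 hv) h.tV h.t1
        inf_le_right (odd_of_le inf_le_left (odd_pcore e2 _)) (pgroup_sub inf_le_left (pcore_isPGroup e _))
        (normsI (((le_inf inf_le_right hs).trans hC).trans nq) (normsG inf_le_left))
      rw [← hg, cent1J, pcoreJ, h2, Tr.cj_bot, ← cent1J, hg, le_bot_iff, comm_bot] at this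
      rw [eq_bot_iff, ← h3]
      exact le_inf inf_le_left this
    have h4 := key x s h.rx.1 h.sV inf_le_left
    have h5 := key x⁻¹ (t * s) h.xit (mul_mem h.tV h.sV) fun a ha => by
      have := PG.cent_mul ha.2 ha.1
      rwa [← mul_assoc, h.tt, one_mul] at this
    rw [inf_eq_left.2 (le_cent_mul h.tt h.ss (nq (hV h.tV)) (nq (hV h.sV)) h3 h4)] at h5
    rw [h5]; exact bot_le
  have h2 := h.le_of_tn tX hV h1 h.Vt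
  have h3 : core {r} 𝐂[s] ≤ 𝐂[t] := axb (odd_pcore r2 _) (pcore_isPGroup r _) h.tt
    (pcore_norm _ _ (four_cent1 h.V4 h.sV h.tV)) pY hYt (hYs.trans (pcore_norm _ _))
    (inf_le_right.trans ((cent_sub _).trans h2))
  rw [← h.rx.1, cent1J, pcoreJ, Tr.cj_le_iff_le_cj_inv, ← cent1J, h.xit] at h3
  intro a ha
  have := PG.cent_mul (pcore_sub _ _ ha) (h3 ha)
  rwa [← mul_assoc, h.tt, one_mul] at this

/-- step (2): `⟨V ^ C(Y)⟩` contains an element rotating `V` -/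
theorem rot [Fact r.Prime] (r2 : r ≠ 2) (hR : ¬ core {r} 𝐂[t] ≤ 𝐂[s]) (hY : Y ≤ core {r} 𝐂[t])
    (hYs : Y ≤ 𝐂[s]) (h0 : Y ≠ ⊥) (hB : 𝐎(𝐂[t]) ⊓ 𝐂[s] ≤ 𝐍(Y)) :
    ∃ n ∈ 𝐂(Y), Rt3 t s n ∧ ∀ N : Subgroup G, t ∈ N → s ∈ N → 𝐂(Y) ≤ 𝐍(N) → n ∈ N := by
  have pY := pgroup_sub hY (pcore_isPGroup r _)
  have hYt : Y ≤ 𝐂[t] := hY.trans (pcore_sub _ _)
  have hV : V ≤ 𝐂(Y) := (h.Vle _).2 ⟨sub_cent1.1 hYt, sub_cent1.1 hYs⟩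
  obtain ⟨n, hn, rn⟩ := h.rot_N r2 hR hY hYs h0 hB
  have h1 := h.cent_O (hY.trans (pcore_sub_Fitting r _)) (scf_le_norm _ Y) (cents_norm hV) hn rn
  let L := closure {a | ∃ g ∈ 𝐂(Y), ∃ v ∈ V, g * v * g⁻¹ = a}
  have LC : L ≤ 𝐂(Y) := (closure_le _).2 fun a ⟨g, hg, v, hv, e⟩ =>
    e ▸ mul_mem (mul_mem hg (hV hv)) (inv_mem hg)
  have nL : 𝐂(Y) ≤ 𝐍(L) := norms_gen fun a ha b ⟨g, hg, v, hv, e⟩ =>
    ⟨a * g, mul_mem ha hg, v, hv, by rw [← e]; group⟩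
  have VL : V ≤ L := fun v hv => subset_closure ⟨1, one_mem _, v, hv, by group⟩
  have hN := h.toSm.ne_top_odd (odd_p r2 pY) h0
  rcases h.tn_or L (fun e => hN (eq_top_iff.2 (e.ge.trans (LC.trans (cent_sub _))))) VL with tL | ⟨m, hm, rm⟩
  · refine absurd (axb (odd_pcore r2 _) (pcore_isPGroup r _) h.ss (pcore_norm _ _ (h.Vt h.sV)) pY hYs
      (hYt.trans (pcore_norm _ _)) ?_) hR
    have h2 : L ≤ 𝐂[s] := h.le_of_tn tL VL (((pcore_normal_le _ ⟨LC, nL⟩).trans (pcore_normal_le _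
      ⟨cent_sub _, cent_norm Y⟩)).trans (sub_cent1.2 (h1 h.sV))) (four_cent1 h.V4 h.sV)
    refine le_cent_of_comm (odd_of_le inf_le_left (odd_pcore r2 _)) h.ss
      (normsI (zpowers_le.2 (pcore_norm _ _ (h.Vt h.sV))) (normsG (zpowers_le.2 (hV h.sV))) (mem_zpowers s))
      (((commgSS inf_le_right (zpowers_le.2 (VL h.sV))).trans (commg_subr.2 nL)).trans h2)
  · refine ⟨m, LC hm, rm, fun N ht hs hn => (?_ : L ≤ N) hm⟩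
    exact (closure_le _).2 fun a ⟨g, hg, v, hv, e⟩ => e ▸ (memJ_norm (hn hg)).2 ((h.Vle N).2 ⟨ht, hs⟩ hv)

end KC2

theorem K4.Mn.c2 {P : K4 G} (m : P.Mn) (hc : IsCoatom 𝐂[P.t]) : KC2 P.V P.t P.s P.x where
  simp := m.simple
  nsol := fun hs => haveI := m.simple
    P.st (by rw [← P.xt, IsSimpleGroup.comm_iff_isSolvable.2 hs P.x P.t]; group)
  V4 := P.V4
  two := P.two
  l1' := fun p hp M Y v => m.l1 p M Y v hp.out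
  tt := P.tt
  ss := P.ss
  t1 := P.t1
  cm := P.cm
  rx := P.rt_x
  Vle := fun _ => P.V_le_iff
  syl := P.syl le_top
  max := hc
  tn := P.tnH
  tn_or := fun _ _ => P.tn_or

theorem k12 : K12Stmt.{u} := fun G _ _ P m hc => by
  refine ⟨fun r hr y hy _ ⟨hV, n, hn, rn⟩ => ?_, fun r hr hT Y h0 hY hB => ?_⟩ <;> haveI := Fact.mk hr
  · exact (m.c2 hc).cent_O (Y := zpowers y) (zpowers_le.2 (Fitting_normal_le P.U_nrm
      (pcore_sub_Fitting r _ hy.1))) (sup_le (zpowers_le.2 (cent1id y))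
        (inf_le_right.trans (cent_cycle y).le)) hV ((P.E_nrm (hV P.tV)).le hn) rn
  · have r2 : r ≠ 2 := by
      rintro rfl
      exact hT (by rw [K4.T, K4.U, core2_O]; exact commutator_bot_left _)
    have e : core {r} P.U = core {r} 𝐂[P.t] := core_O r2 _
    obtain ⟨n, hn, rn, h⟩ := (m.c2 hc).rot r2 (fun e' => hT (comm_bot.2 (e ▸ e'))) (e ▸ hY.trans inf_le_left)
      (hY.trans (inf_le_right.trans inf_le_right)) h0 hB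
    have hV : P.V ≤ 𝐂(Y) := centsC.1 (hY.trans (inf_le_right.trans P.B_V))
    exact ⟨hV, n, h _ P.t_mem_E (K4.Rt.V_E rn hn P.sV) (P.E_nrm (hV P.tV)).nz, rn⟩

end Cfsg.Agent.NR
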