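import Cfsg.Agent.Lib.GW.PGen

/-! Four-group case, step (4): the three configurations. -/

namespace Cfsg.Agent.NR

open Subgroup FT SF.GP SF.T TwoGrp GW

variable {G : Type*} [Group G]

/-- configuration (alpha): `Y = C_N(s)`, `⟨z⟩` normal in `C(t)` -/
structure Alpha (t s : G) (p : ℕ) (Y : Subgroup G) (y z : G) : Prop where
  YU : Y ≤ 𝐎(𝐂[t])
  Ys : Y ≤ 𝐂[s]
  BY : 𝐎(𝐂[t]) ⊓ 𝐂[s] ≤ 𝐍(Y)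
  yY : y ∈ Y
  oy : orderOf y = p
  oz : orderOf z = p
  zU : z ∈ 𝐎(𝐂[t])
  iv : Iv s z
  zY : z ∈ 𝐂(Y)
  nz : 𝐂[t] ≤ 𝐍(zpowers z)
  up : ∀ u ∈ 𝐎(𝐂[t]), ∃ b ∈ 𝐎(𝐂[t]) ⊓ 𝐂[s], ∃ w ∈ zpowers z, u * y * u⁻¹ = w * (b * y * b⁻¹)
  lo : ∀ y' ∈ Y, y' ≠ 1 → ∀ w ∈ zpowers z, ∃ u ∈ 𝐎(𝐂[t]), u * y' * u⁻¹ = w * y'

/-- configuration (beta1): `N = ⟨y⟩ × ⟨x⟩` of order `p²` -/
structure Beta1 (t s : G) (p : ℕ) (N : Subgroup G) (y x : G) : Prop where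
  NU : N ≤ 𝐎(𝐂[t])
  nN : 𝐂[t] ≤ 𝐍(N)
  card : #|N| = p ^ 2
  ab : IsMulCommutative N
  ex : ∀ a ∈ N, a ^ p = 1
  Y : N ⊓ 𝐂[s] = zpowers y
  oy : orderOf y = p
  xN : x ∈ N
  ox : orderOf x = p
  iv : Iv s x
  nn : ¬ 𝐂[t] ≤ 𝐍(zpowers y)

/-- configuration (beta2): `N = ⟨x, y⟩` extraspecial of order `p³` and exponent `p`, centre `⟨z⟩` -/
structure Beta2 (t s : G) (p : ℕ) (N : Subgroup G) (y x z : G) : Prop where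
  NU : N ≤ 𝐎(𝐂[t])
  nN : 𝐂[t] ≤ 𝐍(N)
  card : #|N| = p ^ 3
  ex : ∀ a ∈ N, a ^ p = 1
  Y : N ⊓ 𝐂[s] = zpowers y
  oy : orderOf y = p
  xN : x ∈ N
  ivx : Iv s x
  Z : 𝐙(N) = zpowers z
  oz : orderOf z = p
  ivz : Iv s z
  xy : x * y * x⁻¹ = z * y
  cm : ∀ a ∈ N, ∀ b ∈ N, a * b * a⁻¹ * b⁻¹ ∈ zpowers z
  cy : N ⊓ 𝐂[y] = zpowers y ⊔ zpowers z

end Cfsg.Agent.NR
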