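import Mathlib

/-! Arithmetic for the degree equations of blocks with four-group defect. -/

namespace Cfsg.Agent.NR

theorem ar_pp {a b c : ℚ} (ha : 5 ≤ a) (hb : 5 ≤ b) (h : 1 + a + b + c = 0) :
    5 / 7 < 1 + a⁻¹ + b⁻¹ + c⁻¹ ∧ 1 + a⁻¹ + b⁻¹ + c⁻¹ ≤ 72 / 55 := by
  obtain ⟨p, hp, rfl⟩ : ∃ p, 0 ≤ p ∧ a = 5 + p := ⟨a - 5, by linarith, by ring⟩
  obtain ⟨q, hq, rfl⟩ : ∃ q, 0 ≤ q ∧ b = 5 + q := ⟨b - 5, by linarith, by ring⟩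
  obtain rfl : c = -(11 + p + q) := by linarith
  have h1 : 0 < 5 + p := by linarith
  have h2 : 0 < 5 + q := by linarith
  have h3 : 0 < 11 + p + q := by linarith
  rw [inv_neg]
  constructor
  · have := inv_anti₀ h1 (show 5 + p ≤ 11 + p + q by linarith)
    have := inv_pos.2 h2
    linarith
  · rw [← sub_nonneg]
    have : 72 / 55 - (1 + (5 + p)⁻¹ + (5 + q)⁻¹ + -(11 + p + q)⁻¹) =
        (480 * p + 480 * q + 30 * p ^ 2 + 30 * q ^ 2 + 302 * p * q + 17 * p ^ 2 * q + 17 * p * q ^ 2) /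
          (55 * (5 + p) * (5 + q) * (11 + p + q)) := by field_simp; ring
    rw [this]; positivity

theorem ar_nn {a b c : ℚ} (hb : b ≤ -3) (hc : c ≤ -3) (h : 1 + a + b + c = 0) :
    (8 / 15 ≤ 1 + a⁻¹ + b⁻¹ + c⁻¹ ∧ 1 + a⁻¹ + b⁻¹ + c⁻¹ ≤ 72 / 55) ∧
      (b ≤ -7 → c ≤ -7 → 5 / 7 < 1 + a⁻¹ + b⁻¹ + c⁻¹) := by
  obtain ⟨p, hp, rfl⟩ : ∃ p, 0 ≤ p ∧ b = -(3 + p) := ⟨-b - 3, by linarith, by ring⟩
  obtain ⟨q, hq, rfl⟩ : ∃ q, 0 ≤ q ∧ c = -(3 + q) := ⟨-c - 3, by linarith, by ring⟩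
  obtain rfl : a = 5 + p + q := by linarith
  have h1 : 0 < 3 + p := by linarith
  have h2 : 0 < 3 + q := by linarith
  have h3 : 0 < 5 + p + q := by linarith
  rw [inv_neg, inv_neg]
  have i1 := inv_pos.2 h1
  have i2 := inv_pos.2 h2
  have i3 := inv_pos.2 h3
  refine ⟨⟨?_, ?_⟩, fun h4 h5 => ?_⟩
  · rw [← sub_nonneg]
    have : 1 + (5 + p + q)⁻¹ + -(3 + p)⁻¹ + -(3 + q)⁻¹ - 8 / 15 =
        (48 * p + 48 * q + 6 * p ^ 2 + 6 * q ^ 2 + 62 * p * q + 7 * p ^ 2 * q + 7 * p * q ^ 2) /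
          (15 * (3 + p) * (3 + q) * (5 + p + q)) := by field_simp; ring
    rw [this]; positivity
  · have := inv_anti₀ h1 (show 3 + p ≤ 5 + p + q by linarith)
    linarith
  · have e1 := inv_anti₀ (show (0 : ℚ) < 7 by norm_num) (show 7 ≤ 3 + p by linarith)
    have e2 := inv_anti₀ (show (0 : ℚ) < 7 by norm_num) (show 7 ≤ 3 + q by linarith)
    linarith

theorem ar_cases {a : ℤ} (h : a % 4 = 1) (h1 : a ≠ 1) :
    (5 : ℚ) ≤ a ∨ ((a : ℚ) ≤ -3 ∧ (a ≠ -3 → (a : ℚ) ≤ -7)) := by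
  rcases show 5 ≤ a ∨ a ≤ -3 by omega with h2 | h2
  · exact .inl (by exact_mod_cast h2)
  · exact .inr ⟨by exact_mod_cast h2, fun h3 => by exact_mod_cast (show a ≤ -7 by omega)⟩

theorem ar_principal {a b c : ℤ} (ha : a % 4 = 1) (hb : b % 4 = 1) (hc : c % 4 = 1) (a1 : a ≠ 1)
    (b1 : b ≠ 1) (c1 : c ≠ 1) (h : 1 + a + b + c = 0) {v : ℚ}
    (hv : v = 1 + (a : ℚ)⁻¹ + (b : ℚ)⁻¹ + (c : ℚ)⁻¹) :
    (8 / 15 ≤ v ∧ v ≤ 72 / 55) ∧ (a ≠ -3 → b ≠ -3 → c ≠ -3 → 5 / 7 < v) := by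
  have h' : (1 : ℚ) + a + b + c = 0 := by exact_mod_cast h
  rcases ar_cases ha a1 with pa | pa <;> rcases ar_cases hb b1 with pb | pb <;>
    rcases ar_cases hc c1 with pc | pc
  · linarith
  · have := ar_pp pa pb h'
    exact ⟨⟨by linarith, by linarith⟩, fun _ _ _ => by linarith⟩
  · have := ar_pp (c := b) pa pc (by linarith)
    exact ⟨⟨by linarith, by linarith⟩, fun _ _ _ => by linarith⟩
  · have := ar_nn pb.1 pc.1 h'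
    exact ⟨⟨by linarith, by linarith⟩, fun _ x y => by linarith [this.2 (pb.2 x) (pc.2 y)]⟩
  · have := ar_pp (c := a) pb pc (by linarith)
    exact ⟨⟨by linarith, by linarith⟩, fun _ _ _ => by linarith⟩
  · have := ar_nn (a := b) pa.1 pc.1 (by linarith)
    exact ⟨⟨by linarith, by linarith⟩, fun x _ y => by linarith [this.2 (pa.2 x) (pc.2 y)]⟩
  · have := ar_nn (a := c) pa.1 pb.1 (by linarith)
    exact ⟨⟨by linarith, by linarith⟩, fun x y _ => by linarith [this.2 (pa.2 x) (pb.2 y)]⟩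
  · linarith [pa.1, pb.1, pc.1]

theorem ar_inv_le {a : ℤ} (h : a % 4 = 1) (h1 : a ≠ 1) :
    (a : ℚ)⁻¹ ≤ 1 / 5 ∧ (a < 0 → (a : ℚ)⁻¹ < 0) := by
  refine ⟨?_, fun h2 => inv_lt_zero.2 (by exact_mod_cast h2)⟩
  rcases ar_cases h h1 with h2 | h2
  · simpa using inv_anti₀ (show (0 : ℚ) < 5 by norm_num) h2
  · have : (a : ℚ)⁻¹ < 0 := inv_lt_zero.2 (by linarith [h2.1])
    linarith

theorem ar_four {a b c d : ℤ} (ha : a % 4 = 1) (hb : b % 4 = 1) (hc : c % 4 = 1) (hd : d % 4 = 1)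
    (a1 : a ≠ 1) (b1 : b ≠ 1) (c1 : c ≠ 1) (d1 : d ≠ 1) (h : a + b + c + d = 0) :
    (a : ℚ)⁻¹ + (b : ℚ)⁻¹ + (c : ℚ)⁻¹ + (d : ℚ)⁻¹ < 3 / 5 := by
  have e1 := ar_inv_le ha a1
  have e2 := ar_inv_le hb b1
  have e3 := ar_inv_le hc c1
  have e4 := ar_inv_le hd d1
  rcases show a < 0 ∨ b < 0 ∨ c < 0 ∨ d < 0 by omega with h1 | h1 | h1 | h1
  exacts [by linarith [e1.2 h1, e2.1, e3.1, e4.1], by linarith [e2.2 h1, e1.1, e3.1, e4.1],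
    by linarith [e3.2 h1, e2.1, e1.1, e4.1], by linarith [e4.2 h1, e2.1, e3.1, e1.1]]

theorem ar_hadamard {p1 p2 p3 p4 q1 q2 q3 q4 g1 g2 g3 g4 : ℤ}
    (hp1 : p1 = 1 ∨ p1 = -1) (hp2 : p2 = 1 ∨ p2 = -1) (hp3 : p3 = 1 ∨ p3 = -1)
    (hp4 : p4 = 1 ∨ p4 = -1) (hq1 : q1 = 1 ∨ q1 = -1) (hq2 : q2 = 1 ∨ q2 = -1)
    (hq3 : q3 = 1 ∨ q3 = -1) (hq4 : q4 = 1 ∨ q4 = -1)
    (s1 : p1 + p2 + p3 + p4 = 0) (s2 : q1 + q2 + q3 + q4 = 0)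
    (s3 : p1 * q1 + p2 * q2 + p3 * q3 + p4 * q4 = 0) (t1 : g1 + g2 + g3 + g4 = 0)
    (t2 : p1 * g1 + p2 * g2 + p3 * g3 + p4 * g4 = 0) (t3 : q1 * g1 + q2 * g2 + q3 * g3 + q4 * g4 = 0)
    (m1 : (g1 - (1 + p1 + q1)) % 4 = 0) (m2 : (g2 - (1 + p2 + q2)) % 4 = 0)
    (m3 : (g3 - (1 + p3 + q3)) % 4 = 0) (m4 : (g4 - (1 + p4 + q4)) % 4 = 0) :
    ∃ g : ℤ, g % 4 = 3 ∧ ((1 + p1 + q1 : ℤ) : ℚ) ^ 2 / g1 + ((1 + p2 + q2 : ℤ) : ℚ) ^ 2 / g2 +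
      ((1 + p3 + q3 : ℤ) : ℚ) ^ 2 / g3 + ((1 + p4 + q4 : ℤ) : ℚ) ^ 2 / g4 = 8 / g := by
  have key : ∀ {g a p q : ℤ}, (p = 1 ∨ p = -1) → (q = 1 ∨ q = -1) → a = p * q * g →
      ((1 + p + q : ℤ) : ℚ) ^ 2 / a = (2 + 2 * p + 2 * q + 3 * p * q) / g := by
    rintro g a p q (rfl | rfl) (rfl | rfl) rfl <;> push_cast <;> ring
  have e : g2 = p2 * q2 * (p1 * q1 * g1) ∧ g3 = p3 * q3 * (p1 * q1 * g1) ∧
      g4 = p4 * q4 * (p1 * q1 * g1) ∧ g1 = p1 * q1 * (p1 * q1 * g1) ∧ (p1 * q1 * g1) % 4 = 3 := by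
    rcases hp1 with rfl | rfl <;> rcases hp2 with rfl | rfl <;> rcases hp3 with rfl | rfl <;>
      rcases hp4 with rfl | rfl <;> (try omega) <;> rcases hq1 with rfl | rfl <;>
      rcases hq2 with rfl | rfl <;> rcases hq3 with rfl | rfl <;> rcases hq4 with rfl | rfl <;> omega
  refine ⟨_, e.2.2.2.2, ?_⟩
  rw [key hp1 hq1 e.2.2.2.1, key hp2 hq2 e.1, key hp3 hq3 e.2.1, key hp4 hq4 e.2.2.1,
    ← add_div, ← add_div, ← add_div]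
  congr 1
  have s1' : (p1 : ℚ) + p2 + p3 + p4 = 0 := by exact_mod_cast s1
  have s2' : (q1 : ℚ) + q2 + q3 + q4 = 0 := by exact_mod_cast s2
  have s3' : (p1 : ℚ) * q1 + p2 * q2 + p3 * q3 + p4 * q4 = 0 := by exact_mod_cast s3
  linear_combination 2 * s1' + 2 * s2' + 3 * s3'

theorem supp_four {ι : Type*} [Fintype ι] [DecidableEq ι] (d : ι → ℤ) (h1 : ∀ i, d i ^ 2 < 4)
    (h2 : ∑ i, d i ^ 2 = 4) : (Finset.univ.filter fun i => d i ≠ 0).card = 4 ∧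
      ∀ i, d i ≠ 0 → d i = 1 ∨ d i = -1 := by
  have h3 : ∀ i, d i ≠ 0 → d i = 1 ∨ d i = -1 := fun i hi => by
    have := h1 i
    have a1 : d i < 2 := by nlinarith
    have a2 : -2 < d i := by nlinarith
    omega
  refine ⟨?_, h3⟩
  rw [← Finset.sum_filter_ne_zero, Finset.sum_congr
    (Finset.filter_congr (q := fun i => d i ≠ 0) fun i _ => by simp) (g := fun _ => 1)
    fun i hi => by rcases h3 i (Finset.mem_filter.1 hi).2 with h | h <;> simp [h]] at h2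
  exact_mod_cast (show ((Finset.univ.filter fun i => d i ≠ 0).card : ℤ) = 4 by simpa using h2)

end Cfsg.Agent.NR
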