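import Cfsg.Agent.Lib.GW.Ch3
import Cfsg.Agent.Lib.NR.Basic

/-! Groups with a four-group as Sylow 2-subgroup whose involutions are fused: basic facts. -/

set_option linter.unusedSectionVars false

namespace Cfsg.Agent.NR

open Subgroup Finset FT SF.GP TwoGrp Cfsg.Agent.Char GW
open scoped ComplexConjugate Classical

/-- a four-group `⟨t, s⟩` which is a Sylow subgroup, with a rotation `x` -/
structure KF (G : Type*) [Group G] where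
  t : G
  s : G
  x : G
  tt : t * t = 1
  ss : s * s = 1
  t1 : t ≠ 1
  s1 : s ≠ 1
  st : s ≠ t
  cm : t * s = s * t
  n8 : ¬ 8 ∣ Nat.card G
  xt : x * t * x⁻¹ = s
  xs : x * s * x⁻¹ = t * s

namespace KF

variable {G : Type*} [Group G] (P : KF G) {a b u v w g : G} {f φ χ : G → ℂ}

theorem tts (a : G) : P.t * (P.t * a) = a := by rw [← mul_assoc, P.tt, one_mul]
theorem sss (a : G) : P.s * (P.s * a) = a := by rw [← mul_assoc, P.ss, one_mul]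
theorem sts (a : G) : P.s * (P.t * a) = P.t * (P.s * a) := by rw [← mul_assoc, ← P.cm, mul_assoc]
theorem ti : P.t⁻¹ = P.t := inv_eq_of_mul_eq_one_right P.tt
theorem si : P.s⁻¹ = P.s := inv_eq_of_mul_eq_one_right P.ss
theorem rr : P.t * P.s * (P.t * P.s) = 1 := by simp [mul_assoc, P.sts, P.tt, P.ss]
theorem r1 : P.t * P.s ≠ 1 := fun h => P.st (by rw [← P.tts P.s, h, mul_one])
theorem rt : P.t * P.s ≠ P.t := fun h => P.s1 (by simpa using h)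
theorem rs : P.t * P.s ≠ P.s := fun h => P.t1 (by simpa using h)
theorem xr : P.x * (P.t * P.s) * P.x⁻¹ = P.t := by
  rw [← conj_mul, P.xt, P.xs, P.sts, P.ss, mul_one]

/-- the four-group -/
def V : Subgroup G where
  carrier := {a | a = 1 ∨ a = P.t ∨ a = P.s ∨ a = P.t * P.s}
  one_mem' := .inl rfl
  mul_mem' := by
    rintro _ _ (rfl | rfl | rfl | rfl) (rfl | rfl | rfl | rfl) <;>
      simp [mul_assoc, P.tts, P.sts, P.tt, P.ss, ← P.cm]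
  inv_mem' := by
    rintro _ (rfl | rfl | rfl | rfl) <;> simp [P.ti, P.si, ← P.cm]

theorem mem_V : a ∈ P.V ↔ a = 1 ∨ a = P.t ∨ a = P.s ∨ a = P.t * P.s := Iff.rfl
theorem tV : P.t ∈ P.V := .inr (.inl rfl)
theorem sV : P.s ∈ P.V := .inr (.inr (.inl rfl))
theorem rV : P.t * P.s ∈ P.V := .inr (.inr (.inr rfl))
theorem V_sq (h : a ∈ P.V) : a * a = 1 := by
  rcases h with rfl | rfl | rfl | rfl
  exacts [mul_one _, P.tt, P.ss, P.rr]
theorem V_comm (h : a ∈ P.V) (h' : b ∈ P.V) : a * b = b * a := by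
  rw [← inv_eq_of_mul_eq_one_right (P.V_sq (mul_mem h h')), mul_inv_rev,
    inv_eq_of_mul_eq_one_right (P.V_sq h), inv_eq_of_mul_eq_one_right (P.V_sq h')]
theorem card_V : #|P.V| = 4 := by
  have : (P.V : Set G) = ↑({1, P.t, P.s, P.t * P.s} : Finset G) := by
    ext a; simp [P.mem_V]
  rw [← SetLike.coe_sort_coe, this, Nat.card_coe_set_eq, Set.ncard_coe_finset, card_eq_four]
  exact ⟨_, _, _, _, P.t1.symm, P.s1.symm, P.r1.symm, P.st.symm, P.rt.symm, P.rs.symm, rfl⟩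
theorem V2 : IsPGroup 2 P.V := IsPGroup.of_card (n := 2) P.card_V
theorem V_cent (h : a ∈ P.V) : P.V ≤ 𝐂[a] := fun _ hb => mem_cent1.2 (P.V_comm hb h)
theorem tH : P.t ∈ 𝐂[P.t] := P.V_cent P.tV P.tV
theorem sH : P.s ∈ 𝐂[P.t] := P.V_cent P.tV P.sV
theorem rH : P.t * P.s ∈ 𝐂[P.t] := P.V_cent P.tV P.rV

def U : Subgroup G := 𝐎(𝐂[P.t])
def B : Subgroup G := P.U ⊓ 𝐂[P.s]
noncomputable def m : ℕ := P.B.relIndex P.U

theorem U_nrm : P.U ⊴ 𝐂[P.t] := pcore_normal _ _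
theorem U_le : P.U ≤ 𝐂[P.t] := P.U_nrm.le
theorem BU : P.B ≤ P.U := inf_le_left

variable [Finite G]

theorem syl : IsSylowIn 2 P.V ⊤ := ⟨le_top, P.V2, fun h => P.n8 (by
  rw [relIndex_top_right] at h
  rw [← P.V.card_mul_index, P.card_V]
  exact Nat.mul_dvd_mul_left 4 h)⟩
theorem sylH : IsSylowIn 2 P.V 𝐂[P.t] := P.syl.of_le (P.V_cent P.tV) le_top

theorem conj_V {X : Subgroup G} (hX : IsSylowIn 2 P.V X) (ha : a ∈ X) (h : IsPGroup 2 (zpowers a)) :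
    ∃ g ∈ X, ∃ v ∈ P.V, g * v * g⁻¹ = a := by
  obtain ⟨k, hk, h1⟩ := hX.exists_conj_le (zpowers_le.2 ha) h
  exact ⟨k, hk, _, Fit.mem_conj_smul.1 (h1 (mem_zpowers a)), by group⟩

include P in
theorem sq_of_two (h : IsPGroup 2 (zpowers a)) : a * a = 1 := by
  obtain ⟨g, -, v, hv, rfl⟩ := P.conj_V P.syl (mem_top a) h
  rw [conj_mul, P.V_sq hv]; simp

theorem pg_of_sq (h : a * a = 1) : IsPGroup 2 (zpowers a) :=
  isPGroup_zpowers_of_pow (k := 1) (by rw [pow_one, sq, h])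

theorem conj_t (h2 : u * u = 1) (h1 : u ≠ 1) : ∃ g, g * P.t * g⁻¹ = u := by
  obtain ⟨g, -, v, hv, rfl⟩ := P.conj_V P.syl (mem_top u) (pg_of_sq h2)
  rcases hv with rfl | rfl | rfl | rfl
  · simp at h1
  · exact ⟨g, rfl⟩
  · exact ⟨g * P.x, by rw [← P.xt]; group⟩
  · exact ⟨g * P.x⁻¹, by
      rw [show g * P.x⁻¹ * P.t * (g * P.x⁻¹)⁻¹ = g * (P.x⁻¹ * P.t * P.x) * g⁻¹ by group]
      conv_lhs => rw [← P.xr]
      group⟩

theorem cent_of_norm (hn : g ∈ 𝐍(P.V)) (ht : g ∈ 𝐂[P.t]) : g ∈ 𝐂[P.s] := by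
  obtain ⟨k, m, hm, he⟩ := Nat.exists_eq_two_pow_mul_odd (orderOf_pos g).ne'
  have h1 : g ^ m ∈ P.V := P.syl.le_of_normalizes le_top (isPGroup_zpowers_of_pow (k := k)
    (by rw [← pow_mul, mul_comm, ← he, pow_orderOf_eq_one])) (zpowers_le.2 (pow_mem hn m))
    (mem_zpowers _)
  have h3 := cent1_conj.1 ht
  have h2 : g * g ∈ 𝐂[P.s] := by
    rcases (memJ_norm hn).2 P.sV with h | h | h | h
    · exact absurd (conj_eq_one_iff.1 h) P.s1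
    · rw [← h3] at h; exact absurd (by simpa using h) P.st
    · exact mul_mem (cent1_conj.2 h) (cent1_conj.2 h)
    · refine cent1_conj.2 ?_
      rw [show g * g * P.s * (g * g)⁻¹ = g * (g * P.s * g⁻¹) * g⁻¹ by group, h, ← conj_mul, h3, h, P.tts]
  obtain ⟨j, rfl⟩ := hm
  have h4 := P.V_cent P.sV h1
  rwa [pow_succ, pow_mul, sq, mul_mem_cancel_left (pow_mem h2 j)] at h4

theorem tnH : TN 𝐂[P.t] := by
  obtain ⟨Q, hQ⟩ := P.sylH.exists_sylow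
  have hN : 𝐍((Q : Subgroup 𝐂[P.t])) ≤ 𝐂((Q : Subgroup 𝐂[P.t])) := fun n hn => by
    have h1 : (n : G) ∈ 𝐍(P.V) := hQ ▸ le_normalizer_map _ (mem_map_of_mem _ hn)
    have h2 := mem_cent1.1 (P.cent_of_norm h1 n.2)
    have h3 := mem_cent1.1 n.2
    refine mem_centralizer_iff.2 fun y hy => Subtype.ext ?_
    have h4 : (y : G) ∈ P.V := hQ ▸ mem_map_of_mem _ hy
    change (y : G) * n = n * y
    rcases h4 with h | h | h | h <;> rw [h]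
    exacts [by simp, h3.symm, h2.symm, by rw [mul_assoc, ← h2, ← mul_assoc, ← h3, mul_assoc]]
  exact tn_of_has ⟨Q, _, inferInstance, MonoidHom.ker_transferSylow_isComplement' Q hN⟩

theorem oddU : Odd #|P.U| := odd_core _
theorem oddB : Odd #|P.B| := P.oddU.of_dvd_nat (card_dvd_of_le P.BU)
theorem mem_U : u ∈ P.U ↔ u ∈ 𝐂[P.t] ∧ Odd (orderOf u) :=
  ⟨fun h => ⟨P.U_le h, odd_of_mem P.oddU h⟩, fun h => P.tnH.mem h.1 h.2⟩
theorem sdH : Sdprod P.U P.V 𝐂[P.t] := P.tnH.sdprod P.sylH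
theorem V_U (h : a ∈ P.V) (h' : a ∈ P.U) : a = 1 := eq_one_of_odd_sq P.oddU h' (P.V_sq h)
theorem card_H : #|𝐂[P.t]| = 4 * #|P.U| := by rw [← P.sdH.card, P.card_V, mul_comm]
theorem mem_B : b ∈ P.B ↔ b ∈ 𝐂[P.t] ∧ b ∈ 𝐂[P.s] ∧ Odd (orderOf b) := by
  rw [B, Subgroup.mem_inf, P.mem_U]; tauto
theorem B_cent (hv : v ∈ P.V) : P.B ≤ 𝐂[v] := fun b hb => by
  rcases hv with rfl | rfl | rfl | rfl
  exacts [mem_cent1.2 (by simp), P.U_le hb.1, hb.2, PG.cent_mul (P.U_le hb.1) hb.2]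

theorem x_B : P.x ∈ 𝐍(P.B) := mem_normalizer_fintype fun b hb => by
  refine P.mem_B.2 ⟨cent1_conj.2 ?_, cent1_conj.2 ?_, ?_⟩
  · conv_lhs => rw [← P.xr]
    conv_rhs => rw [← P.xr, ← cent1_conj.1 (P.B_cent P.rV hb)]
    group
  · conv_lhs => rw [← P.xt]
    conv_rhs => rw [← P.xt, ← cent1_conj.1 (P.B_cent P.tV hb)]
    group
  · rw [show P.x * b * P.x⁻¹ = MulAut.conj P.x b from rfl, MulEquiv.orderOf_eq]
    exact odd_of_mem P.oddB hb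

include P in
theorem odd_io (a : G) : Odd (orderOf (io a * a)) := by
  have := Fintype.ofFinite G
  exact odd_io_mul fun _ _ h => P.sq_of_two h

theorem io_shift (hv : v * v = 1) (h1 : v ≠ 1) (ha : v * a ∈ 𝐂[v]) (ho : Odd (orderOf (v * a))) :
    io a = v := by simpa [← mul_assoc, hv] using io_mul_odd hv h1 ho ha

theorem io_t : io a = P.t ↔ P.t * a ∈ P.U :=
  ⟨fun h => P.mem_U.2 ⟨mul_mem P.tH (h ▸ io_cent a), h ▸ P.odd_io a⟩,
    fun h => io_shift P.tt P.t1 (P.U_le h) (P.mem_U.1 h).2⟩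
theorem io_tU (hu : u ∈ P.U) : io (P.t * u) = P.t := P.io_t.2 (by rwa [P.tts])

theorem io_V (hv : v = P.s ∨ v = P.t * P.s) : a ∈ 𝐂[P.t] ∧ io a = v ↔ v * a ∈ P.B := by
  have hV : v ∈ P.V := .inr (.inr hv)
  have h1 : v ≠ 1 := by rcases hv with rfl | rfl; exacts [P.s1, P.r1]
  refine ⟨fun h => P.mem_B.2 ⟨mul_mem (P.V_cent P.tV hV) h.1, mul_mem (P.V_cent P.sV hV) ?_,
    h.2 ▸ P.odd_io a⟩, fun h => ⟨(mul_mem_cancel_left (P.V_cent P.tV hV)).1 (P.U_le h.1),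
      io_shift (P.V_sq hV) h1 (P.B_cent hV h) (odd_of_mem P.oddB h)⟩⟩
  have h2 : a ∈ 𝐂[v] := h.2 ▸ io_cent a
  rcases hv with rfl | rfl
  exacts [h2, P.tts P.s ▸ PG.cent_mul h.1 h2]

variable [Fintype G]

theorem mem_cl : u ∈ clX ⊤ P.t ↔ u * u = 1 ∧ u ≠ 1 :=
  ⟨fun h => ⟨clX_sq P.tt h, clX_ne P.t1 h⟩, fun h =>
    let ⟨g, e⟩ := P.conj_t h.1 h.2; mem_clX.2 ⟨g, trivial, e⟩⟩

theorem inv_H (hu : u ∈ 𝐂[P.t]) (h2 : u * u = 1) : ∃ v ∈ P.V, u ∈ clX 𝐂[P.t] v := by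
  obtain ⟨g, hg, v, hv, e⟩ := P.conj_V P.sylH hu (pg_of_sq h2)
  exact ⟨v, hv, mem_clX.2 ⟨g, hg, e⟩⟩

theorem cl_U (hv : v ∈ P.V) (hu : u ∈ clX 𝐂[P.t] v) : v * u ∈ P.U := by
  obtain ⟨a, ha, rfl⟩ := mem_clX.1 hu
  obtain ⟨d, hd, c, hc, rfl⟩ := P.sdH.exists ha
  rw [show v * (d * c * v * (d * c)⁻¹) = v * d * (c * v * c⁻¹) * d⁻¹ by group,
    P.V_comm hc hv, mul_inv_cancel_right]
  nth_rw 2 [← inv_eq_of_mul_eq_one_right (P.V_sq hv)]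
  exact mul_mem (P.U_nrm.conj_mem (P.V_cent P.tV hv) hd) (inv_mem hd)

theorem mul_U (hv : v ∈ P.V) (hw : w ∈ P.V) (ha : v * a ∈ P.U) (hb : w * b ∈ P.U) :
    v * w * (a * b) ∈ P.U := by
  have := mul_mem (P.U_nrm.conj_mem (P.V_cent P.tV hw) ha) hb
  rwa [show w * (v * a) * w⁻¹ * (w * b) = w * v * (a * b) by group, P.V_comm hw hv] at this

theorem io_H (ha : a ∈ 𝐂[P.t]) : io a = 1 ∨ io a = P.t ∨
    ∃ v, (v = P.s ∨ v = P.t * P.s) ∧ io a ∈ clX 𝐂[P.t] v := by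
  obtain ⟨v, hv, h⟩ := P.inv_H (io_mem_of ha) (io_sq a)
  rcases hv with rfl | rfl | hv
  · obtain ⟨y, -, e⟩ := mem_clX.1 h
    exact .inl (by rw [← e]; simp)
  · obtain ⟨y, hy, e⟩ := mem_clX.1 h
    exact .inr (.inl (by rw [← e, cent1_conj.1 hy]))
  · exact .inr (.inr ⟨v, hv, h⟩)

theorem card_cl (hv : v = P.s ∨ v = P.t * P.s) : (clX 𝐂[P.t] v).card = P.m := by
  have hV : v ∈ P.V := .inr (.inr hv)
  have h1 : clX 𝐂[P.t] v = clX P.U v := by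
    ext u
    refine ⟨fun h => ?_, clX_mono P.U_le⟩
    obtain ⟨a, ha, rfl⟩ := mem_clX.1 h
    obtain ⟨d, hd, c, hc, rfl⟩ := P.sdH.exists ha
    refine mem_clX.2 ⟨d, hd, ?_⟩
    rw [show d * c * v * (d * c)⁻¹ = d * (c * v * c⁻¹) * d⁻¹ by group, P.V_comm hc hV,
      mul_inv_cancel_right]
  rw [h1, card_clX, ← inf_relIndex_left, m]
  congr 1
  refine le_antisymm (fun a ha => ⟨ha.1, ?_⟩) fun a ha => ⟨ha.1, P.B_cent hV ha⟩
  rcases hv with rfl | rfl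
  exacts [ha.2, P.tts P.s ▸ PG.cent_mul (P.U_le ha.1) ha.2]

theorem card_I : (clX ⊤ P.t).card = 𝐂[P.t].index := by rw [card_clX, relIndex_top_right]

theorem sum_G (hf : IsClassFunction G f) : ∑ g, f g = SS (fun g => io g = 1) f +
    𝐂[P.t].index * sm P.U fun u => f (P.t * u) := by
  have h := isX (X := ⊤) (z := P.t) (cf_of_class hf ⊤)
  rw [P.card_I, SS_congr (p := fun g => g ∈ (⊤ : Subgroup G) ∧ io g = P.t) (q := fun g => P.t * g ∈ P.U)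
    (fun g => by simp [P.io_t]) (fun _ _ => rfl), SS_coset P.tt] at h
  rw [← h, ← SS_split (p := fun _ => True)]
  · simp [SS]
  · intro g; simp [P.mem_cl, io_sq, em]
  · intro g e h1; exact (P.mem_cl.1 h1.2).2 e

theorem pair_iff : io (u * v) = P.t ∧ u ∈ clX ⊤ P.t ∧ v ∈ clX ⊤ P.t ↔
    (u ∈ clX 𝐂[P.t] P.s ∧ v ∈ clX 𝐂[P.t] (P.t * P.s)) ∨
      (u ∈ clX 𝐂[P.t] (P.t * P.s) ∧ v ∈ clX 𝐂[P.t] P.s) := by
  constructor
  · rintro ⟨e, hu, hv⟩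
    obtain ⟨u2, u1⟩ := P.mem_cl.1 hu
    obtain ⟨v2, v1⟩ := P.mem_cl.1 hv
    have h1 : u ∈ 𝐂[P.t] := e ▸ io_cent_of_sq u2 v2
    have h2 : v ∈ 𝐂[P.t] := (mul_mem_cancel_left h1).1 (e ▸ io_cent _)
    obtain ⟨a, ha, h3⟩ := P.inv_H h1 u2
    obtain ⟨b, hb, h4⟩ := P.inv_H h2 v2
    have h5 := mul_mem (P.mul_U ha hb (P.cl_U ha h3) (P.cl_U hb h4)) (inv_mem (P.io_t.1 e))
    rw [show a * b * (u * v) * (P.t * (u * v))⁻¹ = a * b * P.t⁻¹ by group] at h5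
    have h6 := mul_inv_eq_one.1 (P.V_U (mul_mem (mul_mem ha hb) (inv_mem P.tV)) h5)
    have a1 : a ≠ 1 := by
      rintro rfl; obtain ⟨y, -, e⟩ := mem_clX.1 h3; exact u1 (by rw [← e]; simp)
    have b1 : b ≠ 1 := by
      rintro rfl; obtain ⟨y, -, e⟩ := mem_clX.1 h4; exact v1 (by rw [← e]; simp)
    rcases ha with rfl | rfl | rfl | rfl
    · exact absurd rfl a1
    · exact absurd (by simpa using h6) b1
    · obtain rfl : b = P.t * P.s := by rw [← P.sss b, h6, P.cm]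
      exact .inl ⟨h3, h4⟩
    · obtain rfl : b = P.s := by
        rw [mul_assoc, mul_eq_left] at h6
        rw [← P.sss b, h6, mul_one]
      exact .inr ⟨h3, h4⟩
  · rintro (⟨hu, hv⟩ | ⟨hu, hv⟩)
    · refine ⟨P.io_t.2 ?_, P.mem_cl.2 ⟨clX_sq P.ss hu, clX_ne P.s1 hu⟩,
        P.mem_cl.2 ⟨clX_sq P.rr hv, clX_ne P.r1 hv⟩⟩
      have := P.mul_U P.sV P.rV (P.cl_U P.sV hu) (P.cl_U P.rV hv)
      rwa [P.sts, P.ss, mul_one] at this
    · refine ⟨P.io_t.2 ?_, P.mem_cl.2 ⟨clX_sq P.rr hu, clX_ne P.r1 hu⟩,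
        P.mem_cl.2 ⟨clX_sq P.ss hv, clX_ne P.s1 hv⟩⟩
      have := P.mul_U P.rV P.sV (P.cl_U P.rV hu) (P.cl_U P.sV hv)
      rwa [mul_assoc P.t, P.ss, mul_one] at this

theorem cl_disj (hu : u ∈ clX 𝐂[P.t] P.s) : u ∉ clX 𝐂[P.t] (P.t * P.s) := fun h => by
  have := mul_mem (P.cl_U P.rV h) (inv_mem (P.cl_U P.sV hu))
  rw [show P.t * P.s * u * (P.s * u)⁻¹ = P.t by group] at this
  exact P.t1 (P.V_U P.tV this)

/-- the class product formula -/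
theorem class_prod (hf : IsClassFunction G f) (h0 : ∀ g, io g = 1 → f g = 0) :
    Bf2 ⊤ P.t P.t f = 𝐂[P.t].index * (2 * Bf2 𝐂[P.t] P.s (P.t * P.s) f) := by
  let F : G × G → ℂ := fun ω => if ω.1 ∈ clX ⊤ P.t ∧ ω.2 ∈ clX ⊤ P.t then f (ω.1 * ω.2) else 0
  have key := is_sum (X := ⊤) (z := P.t)
    (fun x => (MulAut.conj x).toEquiv.prodCongr (MulAut.conj x).toEquiv) (fun ω => io (ω.1 * ω.2))
    (fun x _ ω => by simp [← io_conj]) F fun x hx ω => by simp [F, conj_clX hx, hf _ x]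
  have e : ∑ ω with io (ω.1 * ω.2) = P.t, F ω = 2 * Bf2 𝐂[P.t] P.s (P.t * P.s) f := by
    rw [← sum_filter, filter_filter, show univ.filter (fun ω : G × G => io (ω.1 * ω.2) = P.t ∧
      ω.1 ∈ clX ⊤ P.t ∧ ω.2 ∈ clX ⊤ P.t) = clX 𝐂[P.t] P.s ×ˢ clX 𝐂[P.t] (P.t * P.s) ∪
        clX 𝐂[P.t] (P.t * P.s) ×ˢ clX 𝐂[P.t] P.s by ext ω; simp [P.pair_iff],
      sum_union (Finset.disjoint_left.2 fun ω h h' => P.cl_disj (mem_product.1 h).1 (mem_product.1 h').1),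
      sum_product, sum_product, two_mul, Bf2, add_right_inj, sum_comm]
    exact sum_congr rfl fun u _ => sum_congr rfl fun v _ => by rw [← hf _ u]; simp [mul_assoc]
  rw [← e, ← P.card_I, ← key, Bf2, ← sum_product', sum_filter, ← univ_inter (_ ×ˢ _), ← sum_ite_mem]
  refine sum_congr rfl fun ω _ => ?_
  simp only [mem_product, F]
  by_cases h : ω.1 ∈ clX ⊤ P.t ∧ ω.2 ∈ clX ⊤ P.t
  · rw [if_pos h]
    by_cases h2 : io (ω.1 * ω.2) = 1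
    · simp [h0 _ h2]
    · rw [if_pos (P.mem_cl.2 ⟨io_sq _, h2⟩)]
  · simp [h]

end KF

end Cfsg.Agent.NR
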