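import Cfsg.Agent.Lib.NR.KCh1

/-! Four-group Sylow subgroup: separation of constituents by the second main theorem. -/

set_option linter.unusedSectionVars false

namespace Cfsg.Agent.NR

open Subgroup Finset FT SF.GP TwoGrp Cfsg.Agent.Char Cfsg.Agent.Block MonoidAlgebra GW
open scoped ComplexConjugate Classical

namespace KF

variable {G : Type*} [Group G] [Fintype G] (P : KF G) {a b h u v g : G} {f φ χ ξ : G → ℂ} {c : ℂ}
variable {M : Ideal AlgInt} [hM : M.IsMaximal] [CharP (Res M) 2]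

/-- the class function supported on the conjugates of `tU` -/
noncomputable def zf (c : ℂ) (φ : G → ℂ) : G → ℂ := GW.ext ⊤ P.t fun g => EE P.U c φ (P.t * g)

theorem zi (hφ : CF 𝐂[P.t] φ) : ZI ⊤ P.t fun g => EE P.U c φ (P.t * g) := fun x _ hx g _ _ => by
  simp only
  rw [← EE_conj hφ P.U_nrm hx (a := P.t * g), ← conj_mul, cent1_conj.1 hx]

theorem zf_class (hφ : CF 𝐂[P.t] φ) : IsClassFunction G (P.zf c φ) := fun g x =>
  cf_ext (P.zi hφ) x trivial g trivial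

theorem zf_cen (hφ : CF 𝐂[P.t] φ) : Block.mk (P.zf c φ) ∈ cen ℂ G :=
  mk_mem_cen_of_isClass (P.zf_class hφ)

theorem zf_SG (hφ : GC 𝐂[P.t] φ) (hc : c ∈ locRing M) : Block.mk (P.zf c φ) ∈ SG G M :=
  mk_mem_SG fun g => by
    unfold zf GW.ext; split_ifs
    exacts [EE_loc (hφ.mono P.U_le) hc _, zero_mem _]

theorem zf_t (hφ : CF 𝐂[P.t] φ) (h : io a = P.t) : P.zf c φ a = EE P.U c φ (P.t * a) :=
  ext_self (P.zi hφ) trivial h

theorem zf_one (h : io a = 1) : P.zf c φ a = 0 := ext_zero fun h' => clX_ne P.t1 h' h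

theorem zf_tU (hφ : CF 𝐂[P.t] φ) (hu : u ∈ P.U) : P.zf c φ (P.t * u) = c * conj (φ u) := by
  rw [P.zf_t hφ (P.io_tU hu), P.tts, EE, if_pos hu]

theorem ir_t (h : IR 𝐂[P.t] ξ) : ∃ ε : ℂ, (ε = 1 ∨ ε = -1) ∧ ∀ b ∈ 𝐂[P.t], ξ (P.t * b) = ε * ξ b :=
  h.cen_inv P.tH P.tt fun x hx => by rw [cent1_conj.1 hx, mul_inv_cancel]

theorem cls_s (hf : IsClassFunction G f) (b : G) : f (P.s * b) = f (P.t * (P.x⁻¹ * b * P.x)) := by
  rw [← hf _ P.x⁻¹, ← P.xt]; congr 1; group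

theorem cls_r (hf : IsClassFunction G f) (b : G) :
    f (P.t * P.s * b) = f (P.t * (P.x * b * P.x⁻¹)) := by
  rw [← hf _ P.x, ← conj_mul, P.xr]

variable {P} (hφ : IR 𝐂[P.t] φ) (hc : c * (#|P.U| * ip P.U φ φ) = φ 1) (hcl : c ∈ locRing M)
  (hE : ∀ b ∈ P.B, φ (P.x * b * P.x⁻¹) = φ b)
include hφ hc hcl hE

theorem sepA (ξ : IrrCharacter 𝐂[P.t]) :
    om ξ.1 (trunc ℂ 𝐂[P.t].subtype (Block.mk (P.zf c φ))) - om ξ.1 (eE 𝐂[P.t] P.U c φ) ∈ locIdeal M := by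
  have cf := hφ.gc.cf
  set y : G → ℂ := fun g => P.zf c φ g - EE P.U c φ (P.t * g) with hy
  have yc : CF 𝐂[P.t] y := fun x hx g _ => by
    simp only [hy, P.zf_class cf g x]
    rw [← EE_conj cf P.U_nrm hx (a := P.t * g), ← conj_mul, cent1_conj.1 hx]
  have y0 : ∀ g ∈ 𝐂[P.t], io g = 1 ∨ io g = P.t → y g = 0 := by
    rintro g hg (e | e)
    · simp only [hy]
      rw [P.zf_one e, EE, if_neg fun h => P.t1 (P.V_U P.tV
        ((mul_mem_cancel_right (P.mem_U.2 ⟨hg, io_eq_one.1 e⟩)).1 h)), sub_zero]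
    · simp only [hy, P.zf_t cf e, sub_self]
  have y1 : ∀ v, v = P.s ∨ v = P.t * P.s → ∀ b ∈ P.B, y (v * b) = c * conj (φ b) := fun v hv b hb => by
    have b1 := (memJ_norm P.x_B).2 hb
    have b2 := (memJ_norm' P.x_B).2 hb
    simp only [hy]
    rw [EE, if_neg, sub_zero]
    · rcases hv with rfl | rfl
      · rw [P.cls_s (P.zf_class cf), P.zf_tU cf b2.1, ← hE _ b2]; congr 3; group
      · rw [P.cls_r (P.zf_class cf), P.zf_tU cf b1.1, hE _ hb]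
    · rw [← mul_assoc, mul_mem_cancel_right (P.BU hb)]
      rcases hv with rfl | rfl
      · exact fun h => P.r1 (P.V_U P.rV h)
      · rw [P.tts]; exact fun h => P.s1 (P.V_U P.sV h)
  have key : ∀ g ∈ 𝐂[P.t], y (P.t * g) - y g ∈ locIdeal M := fun g hg => by
    have hg' := mul_mem P.tH hg
    rcases P.io_H hg with e | e | ⟨v, hv, e⟩
    · simp [y0 g hg (.inl e), y0 _ hg' (.inr (P.io_tU (P.mem_U.2 ⟨hg, io_eq_one.1 e⟩)))]
    · rw [y0 g hg (.inr e), y0 _ hg' (.inl (io_odd (P.mem_U.1 (P.io_t.1 e)).2))]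
      simp
    · obtain ⟨h, hh, e⟩ := mem_clX.1 e
      have hV : v ∈ P.V := .inr (.inr hv)
      obtain ⟨b, hb, rfl⟩ : ∃ b ∈ P.B, g = h * (v * b) * h⁻¹ :=
        ⟨_, (P.io_V hv).1 ⟨mul_mem (mul_mem (inv_mem hh) hg) (inv_mem (inv_mem hh)), by
          rw [io_conj, ← e]; group⟩, by rw [← mul_assoc v, P.V_sq hV]; group⟩
      have h1 := mul_mem (P.V_cent P.tV hV) (P.U_le hb.1)
      conv => enter [2, 1, 1, 1]; rw [← cent1_conj.1 hh]
      rw [conj_mul, yc h hh _ h1, yc h hh _ (mul_mem P.tH h1), ← mul_assoc, y1 v hv b hb,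
        y1 _ (by rcases hv with rfl | rfl; exacts [.inr rfl, .inl (P.tts _)]) b hb, sub_self]
      exact zero_mem _
  have h1 := om_mem_of_inv (M := M) (mk_mem_cen_of_isClass yc.cls)
    (mk_mem_SG fun g => sub_mem (P.zf_SG hφ.gc hcl g) (EE_loc (hφ.gc.mono P.U_le) hcl _))
    (t := ⟨P.t, P.tH⟩) (fun g => Subtype.ext (mem_cent1.1 g.2)) (Subtype.ext P.tt)
    (fun e => P.t1 (congrArg Subtype.val e)) (fun g => key g g.2) ξ
  have h2 := om_mem_locRing (M := M) ξ (eE_cen (c := c) cf P.U_nrm) (eE_SG (hφ.gc.mono P.U_le) hcl)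
  obtain ⟨ξ, hξ, rfl⟩ := irr_cases ξ
  obtain ⟨ε, hε, e⟩ := P.ir_t hξ
  have h3 : trunc ℂ 𝐂[P.t].subtype (Block.mk (P.zf c φ)) = Block.mk fun g : 𝐂[P.t] => P.zf c φ g := rfl
  simp only [h3, eE, PG.om_mk] at h1 h2 ⊢
  simp only [hy, sub_mul, sm_sub] at h1
  rw [← sm_mul_left (f := fun g => EE P.U c φ (P.t * g) * ξ g) P.tH, sm_congr
    (f := fun g => EE P.U c φ (P.t * (P.t * g)) * ξ (P.t * g)) (g := fun g => ε * (EE P.U c φ g * ξ g))
    fun g hg => by rw [e g hg, ← mul_assoc P.t, P.tt, one_mul]; ring, sm_mul] at h1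
  rcases hε with rfl | rfl
  · convert h1 using 1; ring
  · convert sub_mem h1 (two_mul_mem h2) using 1; ring

theorem sepB (hχ : IsIrrCharacter G χ) (h1 : om χ (Block.mk (P.zf c φ)) ∉ locIdeal M) (hu : u ∈ P.U) :
    φ 1 * χ (P.t * u) = χ P.t * φ u := by
  have ec := eE_cen (c := c) hφ.gc.cf P.U_nrm
  have key : ∀ u ∈ P.U, φ 1 * χ (P.t * u) = (∑ ξ : IrrCharacter 𝐂[P.t],
      classInner (fun y : 𝐂[P.t] => χ y) ξ * om ξ.1 (eE _ P.U c φ) * ξ.1 ⟨P.t, P.tH⟩) * φ u := by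
    intro u hu
    have := GW.s0 (mul_mem P.tH (P.U_le hu)) (by rw [P.io_tU hu]) (sub_mem (one_mem _) ec)
      (sub_mem (one_mem _) (eE_SG (hφ.gc.mono P.U_le) hcl))
      (IsIdempotentElem.one_sub (eE_idem hφ P.U_nrm hc)) hχ (P.zf_cen hφ.gc.cf) (P.zf_SG hφ.gc hcl) h1
      fun ξ => by
        have h2 := sepA hφ hc hcl hE ξ
        rw [om_mul_cen ξ (sub_mem (one_mem _) ec), map_sub, om_one]
        obtain ⟨ξ, hξ, rfl⟩ := irr_cases ξ
        rcases idm hφ P.U_nrm hc hξ with e | ⟨e, -⟩ <;> simp only [e] at h2 ⊢ <;> simp_all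
    rw [sub_mul, one_mul, map_sub, ev_single, one_mul, sub_eq_zero,
      ev_eq_sum_irr (isClass_restrict (isClass_of_isIrr hχ) _)] at this
    rw [this, mul_sum, sum_mul]
    refine sum_congr rfl fun ξ _ => ?_
    rw [ev_cen_mul ξ ec, ev_single]
    obtain ⟨ξ, hξ, rfl⟩ := irr_cases ξ
    obtain ⟨ε, -, e⟩ := P.ir_t hξ
    have e1 := e 1 (one_mem _)
    rw [mul_one] at e1
    rcases idm hφ P.U_nrm hc hξ with e' | ⟨e', e''⟩ <;> simp only [e']
    · simp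
    · rw [e u (P.U_le hu), e1]
      linear_combination (classInner (fun y : 𝐂[P.t] => χ y) fun y : 𝐂[P.t] => ξ y) * ε * e'' u hu
  have h2 := key 1 (one_mem _)
  rw [mul_one, mul_comm] at h2
  rw [key u hu, mul_right_cancel₀ hφ.one_ne h2]

theorem sepC (hχ : IsIrrCharacter G χ) (h0 : ip P.U (fun u => χ (P.t * u)) φ ≠ 0) :
    om χ (Block.mk (P.zf c φ)) ∉ locIdeal M := by
  have ec := eE_cen (c := c) hφ.gc.cf P.U_nrm
  refine GW.s1 P.tH (by rw [io_self P.tt]) ec (eE_SG (hφ.gc.mono P.U_le) hcl) (eE_idem hφ P.U_nrm hc) hχ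
    (P.zf_cen hφ.gc.cf) (P.zf_SG hφ.gc hcl) (one_mem _) one_notMem_locIdeal (fun ξ => ?_) ?_
  · have h2 := sepA hφ hc hcl hE ξ
    obtain ⟨ξ, hξ, rfl⟩ := irr_cases ξ
    rcases idm hφ P.U_nrm hc hξ with e | ⟨e, -⟩ <;> simp only [e] at h2 ⊢ <;> simp_all
  · rw [ev_eE P.U_le, sm_congr (g := fun u => χ (P.t * u) * conj (φ u)) fun u hu => by
      rw [mem_cent1.1 (P.U_le hu)], sm_ip (f := fun u => χ (P.t * u))]
    refine mul_ne_zero (fun h => hφ.one_ne ?_) (mul_ne_zero (cX _) h0)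
    rw [← hc, h, zero_mul]

omit hc hcl in
/-- separation: a constituent over an invariant character sees only that character -/
theorem sep (hU : IR P.U φ) (hχ : IsIrrCharacter G χ) (h0 : ip P.U (fun u => χ (P.t * u)) φ ≠ 0)
    (hu : u ∈ P.U) : χ (P.t * u) = ip P.U (fun u => χ (P.t * u)) φ * φ u := by
  obtain ⟨M, hM⟩ := exists_isPModular 2
  have := hM.2.1
  have := charP_res hM
  obtain ⟨m, -, hm⟩ := hφ.nat
  have hc : φ 1 * (#|P.U| : ℂ)⁻¹ * (#|P.U| * ip P.U φ φ) = φ 1 := by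
    rw [hU.norm, mul_one, inv_mul_cancel_right₀ (cX _)]
  have l1 : φ 1 * (#|P.U| : ℂ)⁻¹ ∈ locRing M := mul_mem (hm ▸ natCast_mem _ m)
    (inv_natCast_mem_locRing (p := 2) (Nat.two_dvd_ne_zero.2 (Nat.odd_iff.1 P.oddU)))
  have h2 := fun u => sepB hφ hc l1 hE hχ (sepC hφ hc l1 hE hχ h0) (u := u)
  have h3 : φ 1 * ip P.U (fun u => χ (P.t * u)) φ = χ P.t := by
    rw [← ip_mul_left, ip_congr h2 fun _ _ => rfl, ip_mul_left, hU.norm, mul_one]
  refine mul_left_cancel₀ hφ.one_ne ?_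
  rw [h2 u hu, ← h3, mul_assoc]

end KF

end Cfsg.Agent.NR
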