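import Cfsg.Agent.Lib.NR.KCh0
import Cfsg.Agent.Lib.NR.KCh2

/-! Four-group Sylow subgroup: generalized decomposition numbers and the order formula. -/

set_option linter.unusedSectionVars false

namespace Cfsg.Agent.NR

open Subgroup Finset FT SF.GP TwoGrp Cfsg.Agent.Char GW
open scoped ComplexConjugate Classical

namespace KF

variable {G : Type*} [Group G] [Fintype G] (P : KF G) {a b h u v g : G} {f f' φ ψ χ ξ : G → ℂ}

theorem card_G : (Nat.card G : ℂ) = 𝐂[P.t].index * (4 * #|P.U|) := by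
  rw [← 𝐂[P.t].index_mul_card, P.card_H]; push_cast; ring

theorem i0 : (𝐂[P.t].index : ℂ) ≠ 0 := Nat.cast_ne_zero.2 index_ne_zero_of_finite

theorem ipG' (hf : IsClassFunction G f) (hg : IsClassFunction G f') :
    Nat.card G * classInner f f' = SS (fun g => io g = 1) (fun g => f g * conj (f' g)) +
      𝐂[P.t].index * (#|P.U| * ip P.U (fun u => f (P.t * u)) fun u => f' (P.t * u)) := by
  rw [← sm_ip, ← P.sum_G (f := fun g => f g * conj (f' g)) fun g x => by simp only [hf g x, hg g x],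
    classInner, mul_inv_cancel_left₀ (Nat.cast_ne_zero.2 Nat.card_pos.ne')]

theorem ipG (hf : IsClassFunction G f) (hg : IsClassFunction G f') (h0 : ∀ g, io g = 1 → f g = 0) :
    4 * classInner f f' = ip P.U (fun u => f (P.t * u)) fun u => f' (P.t * u) := by
  have h := P.ipG' hf hg
  rw [SS_zero fun g e => by rw [h0 g e, zero_mul], zero_add, P.card_G] at h
  exact mul_left_cancel₀ (mul_ne_zero P.i0 (cX P.U)) (by linear_combination h)

theorem gc_t (hχ : IsGeneralizedCharacter G χ) : GC 𝐂[P.t] fun u => χ (P.t * u) :=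
  (gc_of hχ ⊤).shift le_top trivial P.tt le_rfl

theorem norm_lt (hχ : IsIrrCharacter G χ) :
    ∃ n : ℤ, n < 4 ∧ ip P.U (fun u => χ (P.t * u)) (fun u => χ (P.t * u)) = n := by
  have hg := (P.gc_t (isGen_of_isIrr hχ)).mono P.U_le
  obtain ⟨n, hn⟩ := hg.int hg
  refine ⟨n, ?_, hn⟩
  have h := P.ipG' (isClass_of_isIrr hχ) (isClass_of_isIrr hχ)
  rw [inner_self_of_isIrr hχ, SS_nq, hn, P.card_G] at h
  have h1 : ((𝐂[P.t].index : ℝ) * (4 * #|P.U|) * 1) = nq (fun g => io g = 1) χ +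
      𝐂[P.t].index * (#|P.U| * n) := by exact_mod_cast h
  have h2 : 0 < nq (fun g => io g = 1) χ := lt_of_not_ge fun h2 =>
    apply_one_ne_zero_of_isIrr hχ (nq_eq_zero h2 (io_self (one_mul 1)))
  have h3 : (0 : ℝ) < 𝐂[P.t].index * #|P.U| := by
    have := Nat.pos_of_ne_zero (index_ne_zero_of_finite (H := 𝐂[P.t]))
    have : 0 < #|P.U| := Nat.card_pos
    positivity
  have : (n : ℝ) < 4 := lt_of_mul_lt_mul_left (by linarith) h3.le
  exact_mod_cast this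

/-- the class function with values `4 φ(u)` on `t u` -/
noncomputable def F (φ : G → ℂ) : G → ℂ := P.zf 4 fun g => conj (φ g)

theorem F_class (hφ : CF 𝐂[P.t] φ) : IsClassFunction G (P.F φ) := P.zf_class hφ.conj
theorem F_one (h : io a = 1) : P.F φ a = 0 := P.zf_one h
theorem F_tU (hφ : CF 𝐂[P.t] φ) (hu : u ∈ P.U) : P.F φ (P.t * u) = 4 * φ u := by
  rw [F, P.zf_tU hφ.conj hu, Complex.conj_conj]

/-- generalized decomposition numbers -/
noncomputable def d (φ : G → ℂ) (χ : IrrCharacter G) : ℤ :=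
  if h : ∃ n : ℤ, ip P.U (fun u => χ.1 (P.t * u)) φ = n then h.choose else 0

theorem d_eq (hφ : GC 𝐂[P.t] φ) (χ : IrrCharacter G) :
    ip P.U (fun u => χ.1 (P.t * u)) φ = P.d φ χ := by
  have h := ((P.gc_t (isGen_of_isIrr χ.2)).mono P.U_le).int (hφ.mono P.U_le)
  rw [d, dif_pos h]; exact h.choose_spec

theorem inner_F (hφ : GC 𝐂[P.t] φ) (χ : IrrCharacter G) : classInner (P.F φ) χ.1 = P.d φ χ := by
  have h := P.ipG (P.F_class hφ.cf) (isClass_irr χ) fun _ => P.F_one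
  rw [ip_congr (fun u hu => P.F_tU hφ.cf hu) fun _ _ => rfl, ip_mul_left,
    (hφ.mono P.U_le).comm ((P.gc_t (isGen_of_isIrr χ.2)).mono P.U_le), P.d_eq hφ] at h
  exact mul_left_cancel₀ (by norm_num) h

theorem d_orth (hφ : GC 𝐂[P.t] φ) (hψ : GC 𝐂[P.t] ψ) :
    ((∑ χ, P.d φ χ * P.d ψ χ : ℤ) : ℂ) = 4 * ip P.U φ ψ := by
  have h := P.ipG (P.F_class hφ.cf) (P.F_class hψ.cf) fun _ => P.F_one
  rw [ip_congr (fun u hu => P.F_tU hφ.cf hu) fun u hu => P.F_tU hψ.cf hu, ip_mul_left, ip_mul_right,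
    inner_eq_sum_irr (P.F_class hφ.cf), map_ofNat,
    sum_congr rfl (g := fun χ => ((P.d φ χ * P.d ψ χ : ℤ) : ℂ)) fun χ _ => by
      rw [P.inner_F hφ, ← ip_top, ← conj_ip, ip_top, P.inner_F hψ]; simp] at h
  push_cast at h ⊢
  exact mul_left_cancel₀ (by norm_num) h

theorem d_deg (hφ : GC 𝐂[P.t] φ) : ∑ χ, P.d φ χ * χ.1 1 = 0 := by
  have h := apply_eq_sum_inner_mul (P.F_class hφ.cf) 1
  rw [P.F_one (io_self (one_mul 1))] at h
  simpa only [P.inner_F hφ] using h.symm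

theorem d_prod (hφ : IR 𝐂[P.t] φ) (ht : φ P.t = φ 1) :
    𝐂[P.t].index * ∑ χ, P.d φ χ * (χ.1 P.t * χ.1 P.t / χ.1 1) = 8 * P.m ^ 2 * (φ P.s ^ 2 / φ 1) := by
  have h := P.class_prod (P.F_class hφ.gc.cf) fun _ => P.F_one
  have h1 : Bf2 𝐂[P.t] P.s (P.t * P.s) (P.F φ) = 4 * Bf2 𝐂[P.t] P.s (P.t * P.s) φ := by
    simp only [Bf2, mul_sum]
    refine sum_congr rfl fun u hu => sum_congr rfl fun v hv => ?_
    have := P.io_t.1 (P.pair_iff.2 (.inl ⟨hu, hv⟩)).1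
    rw [← P.tts (u * v), P.F_tU hφ.gc.cf this, hφ.ch.ker' P.tH ht (P.U_le this)]
  have h2 : Bf2 ⊤ P.t P.t (P.F φ) = ∑ χ, P.d φ χ * Bf2 ⊤ P.t P.t χ.1 := by
    simp only [Bf2, mul_sum]
    rw [sum_comm (s := univ)]
    refine sum_congr rfl fun u _ => ?_
    rw [sum_comm (s := univ)]
    refine sum_congr rfl fun v _ => ?_
    rw [apply_eq_sum_inner_mul (P.F_class hφ.gc.cf)]
    simp only [P.inner_F hφ.gc]
  rw [h1, h2, hφ.bf P.sH P.rH, P.card_cl (.inl rfl), P.card_cl (.inr rfl), hφ.ch.ker' P.tH ht P.sH,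
    sum_congr rfl fun χ _ => by
      rw [IR.bf (X := ⊤) (Ind.isIrr_comp_equiv χ.2 topEquiv) trivial trivial, P.card_I]] at h
  refine mul_left_cancel₀ P.i0 ?_
  rw [mul_sum, mul_sum]
  exact (sum_congr rfl fun χ _ => by ring).trans (h.trans (by ring))

theorem d_sq_lt (hφ : GC 𝐂[P.t] φ) (hU : IR P.U φ) (χ : IrrCharacter G) : P.d φ χ ^ 2 < 4 := by
  obtain ⟨n, hn, e⟩ := P.norm_lt χ.2
  have hg := (P.gc_t (isGen_of_isIrr χ.2)).mono P.U_le
  have h := ip_nq (X := P.U) (f := fun u => χ.1 (P.t * u) - P.d φ χ * φ u)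
  rw [ip_sub_left, ip_sub_right, ip_sub_right, ip_mul_left, ip_mul_left, ip_mul_right, ip_mul_right,
    e, hU.norm, hU.gc.comm hg, P.d_eq hφ, map_intCast] at h
  have h1 : (#|P.U| : ℝ) * (n - P.d φ χ * P.d φ χ - (P.d φ χ * P.d φ χ - P.d φ χ * (P.d φ χ * 1))) =
    nq (· ∈ P.U) fun u => χ.1 (P.t * u) - P.d φ χ * φ u := by exact_mod_cast h
  have h2 : (0 : ℝ) < #|P.U| := by exact_mod_cast Nat.card_pos
  have h3 := nonneg_of_mul_nonneg_right (h1 ▸ nq_nonneg) h2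
  have : ((P.d φ χ : ℝ)) ^ 2 ≤ n := by linarith
  have : P.d φ χ ^ 2 ≤ n := by exact_mod_cast this
  omega

theorem quarter (hχ : IsCharacter G χ) :
    CH P.B fun b => (χ b - χ (P.t * b) - χ (P.s * b) + χ (P.t * P.s * b)) / 4 :=
  (((ch_of hχ ⊤).half le_top trivial P.tt le_rfl).half (P.BU.trans P.U_le) P.sH P.ss
    (P.B_cent P.sV)).congr fun b _ => by rw [mul_assoc]; ring

theorem deg_mod (hχ : IsCharacter G χ) : ∃ n : ℕ, χ 1 - χ P.t = 4 * n := by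
  obtain ⟨n, hn⟩ := (P.quarter hχ).nat
  rw [P.cls_s (isClass_of_isChar hχ), P.cls_r (isClass_of_isChar hχ)] at hn
  simp only [mul_one, inv_mul_cancel, mul_inv_cancel] at hn
  exact ⟨n, by linear_combination 4 * hn⟩

/-- the four characters over an invariant linear character -/
theorem inv_four (hφ : IR 𝐂[P.t] φ) (h1 : φ 1 = 1) (ht : φ P.t = 1) (hs : φ P.s = 1)
    (hE : ∀ b ∈ P.B, φ (P.x * b * P.x⁻¹) = φ b) :
    ∃ S : Finset (IrrCharacter G), S.card = 4 ∧ (∀ χ, P.d φ χ ≠ 0 → χ ∈ S) ∧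
      ∃ A : IrrCharacter G → ℤ, (∀ χ ∈ S, A χ % 4 = 1 ∧ ∃ ε : ℤ, (ε = 1 ∨ ε = -1) ∧
        χ.1 1 = ε * A χ ∧ ∀ u ∈ P.U, χ.1 (P.t * u) = ε * φ u) ∧ ∑ χ ∈ S, A χ = 0 ∧
        (𝐂[P.t].index : ℚ) * ∑ χ ∈ S, (A χ : ℚ)⁻¹ = 8 * P.m ^ 2 := by
  have hU : IR P.U φ := ir_lin h1 fun a ha b hb => hφ.ch.lin h1 (P.U_le ha) (P.U_le hb)
  have h4 := P.d_orth hφ.gc hφ.gc
  rw [hU.norm, mul_one] at h4
  obtain ⟨hS, hd⟩ := supp_four (P.d φ) (P.d_sq_lt hφ.gc hU) (by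
    simp only [sq]; exact_mod_cast h4)
  choose n hn using fun χ : IrrCharacter G => exists_nat_of_isChar (isChar_of_isIrr χ.2)
  have hv : ∀ χ, P.d φ χ ≠ 0 → ∀ u ∈ P.U, χ.1 (P.t * u) = P.d φ χ * φ u := fun χ h u hu => by
    rw [← P.d_eq hφ.gc]
    exact sep hφ hE hU χ.2 (by rw [P.d_eq hφ.gc]; exact_mod_cast h) hu
  have hv1 : ∀ χ, P.d φ χ ≠ 0 → χ.1 P.t = P.d φ χ := fun χ h => by
    simpa [h1] using hv χ h 1 (one_mem _)
  refine ⟨_, hS, fun χ h => mem_filter.2 ⟨mem_univ _, h⟩, fun χ => P.d φ χ * n χ, fun χ h => ?_, ?_, ?_⟩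
  · have h := (mem_filter.1 h).2
    obtain ⟨k, hk⟩ := P.deg_mod (isChar_of_isIrr χ.2)
    rw [hv1 χ h, hn] at hk
    have hk' : (n χ : ℤ) - P.d φ χ = 4 * k := by exact_mod_cast hk
    refine ⟨by rcases hd χ h with e | e <;> simp only [e] at hk' ⊢ <;> omega, _, hd χ h, ?_, hv χ h⟩
    rcases hd χ h with e | e <;> simp [e, hn]
  · have h := P.d_deg hφ.gc
    simp only [hn] at h
    rw [sum_filter_of_ne fun χ _ h => left_ne_zero_of_mul h]
    exact_mod_cast h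
  · have h := P.d_prod hφ (ht.trans h1.symm)
    rw [hs, h1, ← sum_filter_of_ne (p := fun χ => P.d φ χ ≠ 0)
      fun χ _ h => by exact_mod_cast left_ne_zero_of_mul h,
      sum_congr rfl (g := fun χ => (((P.d φ χ * n χ : ℤ) : ℂ))⁻¹) fun χ h => by
        have h := (mem_filter.1 h).2
        rw [hv1 χ h, hn]
        rcases hd χ h with e | e <;> simp [e, div_eq_mul_inv]] at h
    have h' : (((𝐂[P.t].index : ℚ) * ∑ χ with P.d φ χ ≠ 0, ((P.d φ χ * n χ : ℤ) : ℚ)⁻¹ : ℚ) : ℂ) =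
        ((8 * P.m ^ 2 : ℚ) : ℂ) := by push_cast at h ⊢; simpa using h
    exact_mod_cast h'

/-- the principal block -/
theorem principal (hN : ∀ N : Subgroup G, N.Normal → 𝐂[P.t] ≤ N → N = ⊤) :
    ∃ v : ℚ, 𝐂[P.t].index * v = 8 * P.m ^ 2 ∧ (8 / 15 ≤ v ∧ v ≤ 72 / 55) ∧
      ((∀ χ, IsIrrCharacter G χ → χ 1 = 3 → (∀ u ∈ P.U, χ (P.t * u) = -1) → False) → 5 / 7 < v) := by
  obtain ⟨S, hS, hm, A, hA, h0, hv⟩ := P.inv_four (φ := fun _ => 1) ir_one rfl rfl rfl fun _ _ => rfl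
  let χ0 : IrrCharacter G := ⟨fun _ => 1, isIrr_one⟩
  have h1 : χ0 ∈ S := hm χ0 (by
    have := P.d_eq (φ := fun _ => 1) gc_one χ0
    rw [show ip P.U (fun u => χ0.1 (P.t * u)) (fun _ => 1) = 1 from ir_one.norm] at this
    intro h; rw [h] at this; simp at this)
  have pos : ∀ χ : IrrCharacter G, ∀ {ε a : ℤ}, χ.1 1 = ε * a → 0 < ε * a := fun χ ε a e => by
    obtain ⟨n, hn, e'⟩ := exists_pos_nat_of_isIrr χ.2
    rw [e'] at e
    have : (n : ℤ) = ε * a := by exact_mod_cast e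
    omega
  have h2 : A χ0 = 1 := by
    obtain ⟨-, ε, -, e1, e2⟩ := hA χ0 h1
    have e3 : (1 : ℂ) = ε * 1 := e2 1 (one_mem _)
    have e4 : (1 : ℂ) = ε * A χ0 := e1
    rw [mul_one] at e3
    rw [← e3, one_mul] at e4
    exact_mod_cast e4.symm
  have h3 : ∀ χ ∈ S.erase χ0, A χ % 4 = 1 ∧ A χ ≠ 1 ∧ (A χ = -3 →
      χ.1 1 = 3 ∧ ∀ u ∈ P.U, χ.1 (P.t * u) = -1) := fun χ hχ => by
    obtain ⟨e0, ε, hε, e1, e2⟩ := hA χ (mem_of_mem_erase hχ)
    have hp := pos χ e1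
    refine ⟨e0, fun h => ne_of_mem_erase hχ ?_, fun h => ?_⟩
    · obtain rfl : ε = 1 := by rw [h] at hp; omega
      simp only [h, Int.cast_one, mul_one] at e1 e2
      have hc := isChar_of_isIrr χ.2
      have k1 : P.t ∈ charKer hc := (mem_charKer hc).2 (by simpa [e1] using e2 1 (one_mem _))
      have k2 : P.s ∈ charKer hc := P.xt ▸ (charKer_normal hc).conj_mem _ k1 _
      have k3 := hN _ (charKer_normal hc) fun g hg => by
        obtain ⟨u, hu, c, hc', rfl⟩ := P.sdH.exists hg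
        refine mul_mem ((mul_mem_cancel_left k1).1 ((mem_charKer hc).2 (by rw [e2 u hu, e1]))) ?_
        rcases hc' with rfl | rfl | rfl | rfl
        exacts [one_mem _, k1, k2, mul_mem k1 k2]
      exact Subtype.ext (funext fun g => ((mem_charKer hc).1 (k3 ▸ mem_top g)).trans e1)
    · obtain rfl : ε = -1 := by rw [h] at hp; omega
      exact ⟨by rw [e1, h]; norm_num, fun u hu => by rw [e2 u hu]; simp⟩
  obtain ⟨a, b, c, ab, ac, bc, e⟩ := card_eq_three.1 (show (S.erase χ0).card = 3 by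
    rw [card_erase_of_mem h1, hS])
  rw [← add_sum_erase _ _ h1, e, sum_insert (by simp [ab, ac]), sum_pair bc, h2] at h0 hv
  obtain ⟨a1, a2, a3⟩ := h3 a (by simp [e])
  obtain ⟨b1, b2, b3⟩ := h3 b (by simp [e])
  obtain ⟨c1, c2, c3⟩ := h3 c (by simp [e])
  have := ar_principal a1 b1 c1 a2 b2 c2 (by omega) rfl
  refine ⟨_, by rw [← hv]; simp [add_assoc], this.1, fun h => this.2
    (fun e => h _ a.2 (a3 e).1 (a3 e).2) (fun e => h _ b.2 (b3 e).1 (b3 e).2)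
    fun e => h _ c.2 (c3 e).1 (c3 e).2⟩

end KF

/-- **Order formula**: bounds for the number of involutions. -/
theorem of_bound {G : Type*} [Group G] [Finite G] {t s x : G} (tt : t * t = 1) (ss : s * s = 1)
    (t1 : t ≠ 1) (s1 : s ≠ 1) (st : s ≠ t) (cm : t * s = s * t) (h8 : ¬ 8 ∣ Nat.card G)
    (xt : x * t * x⁻¹ = s) (xs : x * s * x⁻¹ = t * s)
    (hN : ∀ N : Subgroup G, N.Normal → 𝐂[t] ≤ N → N = ⊤) :
    55 * ((𝐎(𝐂[t]) ⊓ 𝐂[s]).relIndex 𝐎(𝐂[t])) ^ 2 ≤ 9 * 𝐂[t].index ∧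
      𝐂[t].index ≤ 15 * ((𝐎(𝐂[t]) ⊓ 𝐂[s]).relIndex 𝐎(𝐂[t])) ^ 2 := by
  have := Fintype.ofFinite G
  let P : KF G := ⟨t, s, x, tt, ss, t1, s1, st, cm, h8, xt, xs⟩
  obtain ⟨v, hv, ⟨h1, h2⟩, -⟩ := P.principal hN
  change 55 * P.m ^ 2 ≤ 9 * 𝐂[P.t].index ∧ 𝐂[P.t].index ≤ 15 * P.m ^ 2
  have h3 : (0 : ℚ) ≤ 𝐂[P.t].index := Nat.cast_nonneg _
  have e1 := mul_le_mul_of_nonneg_left h1 h3
  have e2 := mul_le_mul_of_nonneg_left h2 h3
  constructor
  · exact_mod_cast (show (55 : ℚ) * P.m ^ 2 ≤ 9 * 𝐂[P.t].index by linarith)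
  · exact_mod_cast (show (𝐂[P.t].index : ℚ) ≤ 15 * P.m ^ 2 by linarith)

end Cfsg.Agent.NR
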