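import Cfsg.Agent.Lib.GW.PGen
import Cfsg.Agent.Lib.GW.BSW4

/-! Four-group case: step (5) and the final application of the Brauer–Suzuki–Wall theorem. -/

namespace Cfsg.Agent.NR

open Subgroup FT SF.GP SF.T TwoGrp GW
open scoped MatrixGroups

universe u

variable {G : Type u} [Group G] [Finite G] {U V : Subgroup G} {s t : G}

/-- step (5): if `s` centralizes or inverts every `O_p([U, s])`, then `s` inverts `[U, s]` -/
theorem iv_of_cores (ho : Odd #|U|) (ss : s * s = 1) (hn : s ∈ 𝐍(U))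
    (h : ∀ p, p.Prime → core {p} ⁅U, zpowers s⁆ ≤ 𝐂[s] ∨ core {p} ⁅U, zpowers s⁆ ⊓ 𝐂[s] = ⊥) :
    ∀ x ∈ ⁅U, zpowers s⁆, Iv s x := by
  have oW : Odd #|⁅U, zpowers s⁆| := odd_of_le (comm_le hn) ho
  have sW : zpowers s ≤ 𝐍(⁅U, zpowers s⁆) := commg_normr _ _
  have h1 : fit ⁅U, zpowers s⁆ ≤ 𝐂(⁅U, zpowers s⁆) := Fitting_le_of_pcore_le fun p hp => by
    have sY : zpowers s ≤ 𝐍(core {p} ⁅U, zpowers s⁆) := norms_pcore _ sW
    have UY : U ≤ 𝐍(core {p} ⁅U, zpowers s⁆) := norms_pcore _ (commg_norml _ _)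
    refine centsC.1 (comm_le_of_iv ho ss hn (norms_cycle.1 (norms_cent sY)) fun x hx hi => ?_)
    rcases h p hp with e | e
    · exact hi.cent ss (odd_of_mem ho hx) (UY hx) (sub_cent1.1 e)
    · obtain ⟨l, hl, e'⟩ := hi.comm ss (odd_of_mem ho hx)
      have lU : l ∈ U := zpowers_le.2 hx hl
      have iv : ∀ a ∈ core {p} ⁅U, zpowers s⁆, Iv s a := fun a ha =>
        inv_of_fpf ss (norms_cycle.1 sY) e ha
      intro a ha
      have h2 := (iv _ ((memJ_norm' (UY lU)).2 ha)).conj l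
      rw [show l * (l⁻¹ * a * l) * l⁻¹ = a by group] at h2
      rw [e', inv_eq_of_sq ss]
      exact (mem_cent1.1 (h2.mul (iv a ha))).symm
  have h2 : ⁅U, zpowers s⁆ ≤ 𝐂(⁅U, zpowers s⁆) :=
    (le_inf le_rfl (centsC.1 h1)).trans ((cent_sub_Fitting (odd_sol oW)).trans h1)
  have h3 := coprime_abel_cent_TI sW (cop_zp oW ss) (abelianP.2 (centsP.1 h2))
  rw [comm_id ho ss hn, cent_cycle] at h3
  exact fun x hx => inv_of_fpf ss (norms_cycle.1 sW) h3 hx

theorem le_comm_sup (ho : Odd #|U|) (ss : s * s = 1) (hn : s ∈ 𝐍(U)) :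
    U ≤ ⁅U, zpowers s⁆ ⊔ U ⊓ 𝐂[s] := le_of_comm ho ss hn le_sup_left le_sup_right

section Four
variable (V4 : IsKleinFour V) (hS : IsSylowIn 2 V ⊤) (tV : t ∈ V) (sV : s ∈ V) (t1 : t ≠ 1)
  (s1 : s ≠ 1) (st : s ≠ t) (hT : TN 𝐂[t])
include V4 hS tV sV t1 s1 st hT

theorem dec_H {g : G} (hg : g ∈ 𝐂[t]) : ∃ u ∈ 𝐎(𝐂[t]), ∃ v, (v = 1 ∨ v = t ∨ v = s ∨ v = t * s) ∧
    g = u * v := by
  obtain ⟨u, hu, v, hv, e⟩ := (hT.sdprod (Sylow_subl (four_cent1 V4 tV) le_top hS)).exists hg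
  exact ⟨u, hu, v, (kleinFour_mem_iff V4 tV sV t1 s1 st.symm v).1 hv, e.symm⟩

theorem H_le {X : Subgroup G} (hU : 𝐎(𝐂[t]) ≤ X) (ht : t ∈ X) (hs : s ∈ X) : 𝐂[t] ≤ X := by
  intro g hg
  obtain ⟨u, hu, v, hv, rfl⟩ := dec_H V4 hS tV sV t1 s1 st hT hg
  refine mul_mem (hU hu) ?_
  rcases hv with rfl | rfl | rfl | rfl
  exacts [one_mem _, ht, hs, mul_mem ht hs]

theorem H_norm_W : 𝐂[t] ≤ 𝐍(⁅𝐎(𝐂[t]), zpowers s⁆) :=
  H_le V4 hS tV sV t1 s1 st hT (commg_norml _ _)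
    (cent_sub _ (sub_cent1.1 ((comm_le (pcore_norm _ _ (four_cent1 V4 tV sV))).trans (pcore_sub _ _))))
    (norms_cycle.1 (commg_normr _ _))

/-- the end of the four-group case -/
theorem fin_bsw [IsSimpleGroup G] (hM : IsCoatom 𝐂[t]) (hB : 𝐎(𝐂[t]) ⊓ 𝐂[s] = ⊥) :
    ∃ (F : Type) (_ : Field F) (_ : Fintype F), Odd (Fintype.card F) ∧ Nonempty (G ≃* PSL(2, F)) := by
  have tt := kleinFour_mul_self V4 tV
  have ss := kleinFour_mul_self V4 sV
  have cm := kleinFour_comm V4 tV sV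
  have sH : s ∈ 𝐂[t] := four_cent1 V4 tV sV
  have ho := odd_core 𝐂[t]
  have iv : ∀ u ∈ 𝐎(𝐂[t]), Iv s u := fun u hu => inv_of_fpf ss (pcore_norm _ _ sH) hB hu
  have Ut : ∀ u ∈ 𝐎(𝐂[t]), u * t = t * u := fun u hu => mem_cent1.1 (pcore_sub _ _ hu)
  have nU : ∀ v, v * v = 1 → v ∈ 𝐎(𝐂[t]) → v = 1 := fun v vv hv =>
    eq_one_of_odd ho (pg_zp vv) hv (mem_zpowers v)
  let K : Subgroup G :=
    { carrier := {k | k ∈ 𝐎(𝐂[t]) ∨ k * t ∈ 𝐎(𝐂[t])}
      one_mem' := .inl (one_mem _)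
      mul_mem' := by
        rintro a b (ha | ha) (hb | hb)
        · exact .inl (mul_mem ha hb)
        · exact .inr (by rw [mul_assoc]; exact mul_mem ha hb)
        · exact .inr (by rw [mul_assoc, Ut b hb, ← mul_assoc]; exact mul_mem ha hb)
        · refine .inl ?_
          have := mul_mem ha hb
          rwa [mul_assoc, ← Ut _ hb, mul_assoc b, tt, mul_one] at this
      inv_mem' := by
        rintro a (ha | ha)
        · exact .inl (inv_mem ha)
        · refine .inr ?_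
          have h1 := Ut _ ha
          rw [mul_assoc, tt, mul_one] at h1
          have h2 : a⁻¹ * t = (a * t)⁻¹ := by
            rw [eq_inv_iff_mul_eq_one, mul_assoc, ← h1, inv_mul_cancel]
          rw [h2]; exact inv_mem ha }
  have mK : ∀ {k}, k ∈ K ↔ k ∈ 𝐎(𝐂[t]) ∨ k * t ∈ 𝐎(𝐂[t]) := Iff.rfl
  have HK : ∀ g ∈ 𝐂[t], g ∈ K ∨ s * g ∈ K := fun g hg => by
    obtain ⟨u, hu, v, hv, rfl⟩ := dec_H V4 hS tV sV t1 s1 st hT hg
    have h1 : s * u * s⁻¹ ∈ 𝐎(𝐂[t]) := (iv u hu).symm ▸ inv_mem hu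
    rw [inv_eq_of_sq ss] at h1
    rcases hv with rfl | h | h | h
    · exact .inl (.inl (by simpa using hu))
    · exact .inl (.inr (by rwa [h, mul_assoc, tt, mul_one]))
    · exact .inr (.inl (by rwa [h, ← mul_assoc]))
    · refine .inr (.inr ?_)
      rwa [h, cm, show s * (u * (s * t)) * t = s * u * s * (t * t) by group, tt, mul_one]
  obtain ⟨e⟩ : Nonempty (V ≃* DihedralGroup 2) := IsKleinFour.nonempty_mulEquiv
  obtain ⟨n, -, ⟨D⟩⟩ := exists_Dih hS.pgroup le_rfl e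
  refine bsw (hS.pgroup.toSylow (relIndex_top_right V ▸ hS.not_dvd)) D (K := K) (s := s)
    (orderOf_eq_prime (by rw [sq, tt]) t1) (.inr (tt.symm ▸ one_mem _)) ?_ ss ?_ ?_
  · rintro (h | h)
    · exact s1 (nU s ss h)
    · refine st ?_
      have := nU _ (by rw [← cm]; exact kleinFour_mul_self V4 (mul_mem tV sV)) h
      rw [eq_inv_of_mul_eq_one_left this, inv_eq_of_sq tt]
  · rintro k (h | h)
    · exact iv k h
    · have h1 : Iv s (k * t) := iv _ h
      have h2 : Commute (k * t) t := Ut _ h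
      have h3 : s * t * s⁻¹ = t := by rw [← cm, mul_inv_cancel_right]
      have h4 : k = k * t * t := by rw [mul_assoc, tt, mul_one]
      rw [h4, show s * (k * t * t) * s⁻¹ = s * (k * t) * s⁻¹ * (s * t * s⁻¹) by group, h1, h3,
        h2.mul_inv, inv_eq_of_sq tt]
  · intro x hx x1 g hg
    refine HK g ?_
    rcases hx with h | h
    · have h1 : 𝐂[t] ≤ 𝐍(zpowers x) := by
        refine H_le V4 hS tV sV t1 s1 st hT ?_ (cent_sub _ (cent_cycle x ▸ cent1C.1 (pcore_sub _ _ h)))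
          (iv x h).nz
        exact cents_norm ((centsP.2 (abelianP.1 (Frob.isMulCommutative_of_inverted iv))).trans
          (centS (zpowers_le.2 h)))
      have h2 : 𝐍(zpowers x) ≠ ⊤ := fun e => by
        rcases (normalizer_eq_top_iff.1 e).eq_bot_or_eq_top with e' | e'
        · exact x1 (zpowers_eq_bot.1 e')
        · exact t1 (nU t tt (zpowers_le.2 h (e' ▸ mem_top t)))
      rw [hM.le_iff.1 h1 |>.resolve_left h2 |>.symm]
      exact cent_sub _ (cent_cycle x ▸ mem_cent1.2 hg)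
    · obtain ⟨m, hm⟩ := odd_of_mem ho h
      have h1 : Commute (x * t) t := Ut _ h
      have h2 : x ^ (2 * m + 1) = t := by
        have := h1.mul_pow (2 * m + 1)
        rw [mul_assoc, tt, mul_one, ← hm, pow_orderOf_eq_one, one_mul, hm, pow_succ t, pow_mul,
          sq, tt, one_pow, one_mul] at this
        exact this
      rw [mem_cent1, ← h2]
      exact (Commute.pow_right hg _ : _)

end Four

end Cfsg.Agent.NR
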