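import Cfsg.Agent.Lib.NR.KFin
import Cfsg.Agent.Lib.NR.KDefs

/-! Four-group case: the rows `K5Stmt` and `KFinStmt`. -/

namespace Cfsg.Agent.NR

open Subgroup FT SF.GP SF.T TwoGrp GW
open scoped MatrixGroups

universe u

variable {G : Type u} [Group G] [Finite G] {U Y : Subgroup G} {s : G}

theorem comm_le_cent_of_iv (ho : Odd #|U|) (ss : s * s = 1) (hn : s ∈ 𝐍(U)) (sY : s ∈ 𝐍(Y))
    (UY : U ≤ 𝐍(Y)) (iv : ∀ a ∈ Y, Iv s a) : ⁅U, zpowers s⁆ ≤ 𝐂(Y) := by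
  refine comm_le_of_iv ho ss hn (norms_cycle.1 (norms_cent (norms_cycle.2 sY))) fun x hx hi => ?_
  obtain ⟨l, hl, e'⟩ := hi.comm ss (odd_of_mem ho hx)
  intro a ha
  have h2 := (iv _ ((memJ_norm' (UY (zpowers_le.2 hx hl))).2 ha)).conj l
  rw [show l * (l⁻¹ * a * l) * l⁻¹ = a by group] at h2
  rw [e', inv_eq_of_sq ss]
  exact (mem_cent1.1 (h2.mul (iv a ha))).symm

theorem iv_of_D (ho : Odd #|U|) (ss : s * s = 1) (hn : s ∈ 𝐍(U))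
    (h : ∀ p, p.Prime → ⁅core {p} U, ⁅U, zpowers s⁆ ⊔ zpowers s⁆ ⊓ 𝐂[s] = ⊥) :
    ∀ x ∈ ⁅U, zpowers s⁆, Iv s x := by
  have WU : ⁅U, zpowers s⁆ ≤ U := comm_le hn
  have oW : Odd #|⁅U, zpowers s⁆| := odd_of_le WU ho
  have sW : zpowers s ≤ 𝐍(⁅U, zpowers s⁆) := commg_normr _ _
  have UW : U ≤ 𝐍(⁅U, zpowers s⁆) := commg_norml _ _
  have id := comm_id ho ss hn
  have AU : ⁅U, zpowers s⁆ ⊔ zpowers s ≤ 𝐍(U) := sup_le (normsG WU) (norms_cycle.2 hn)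
  have UA : U ≤ 𝐍(⁅U, zpowers s⁆ ⊔ zpowers s) := commg_subl.1
    ((commMG_le (normG _) (commg_subl.2 UW) (commGC _ _).le sW).trans le_sup_left)
  have cD : ∀ p : Nat.Primes, ⁅U, zpowers s⁆ ≤ 𝐂(⁅core {(p : ℕ)} U, ⁅U, zpowers s⁆ ⊔ zpowers s⁆) :=
    fun p => by
      have sD : s ∈ 𝐍(⁅core {(p : ℕ)} U, ⁅U, zpowers s⁆ ⊔ zpowers s⁆) :=
        commg_normr _ _ (mem_sup_right (mem_zpowers s))
      exact comm_le_cent_of_iv ho ss hn sD (normsR (pcore_norm _ _) UA) fun a ha =>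
        inv_of_fpf ss sD (h p p.2) ha
  generalize ⁅U, zpowers s⁆ = W at *
  have h1 : ⁅fit U, W ⊔ zpowers s⁆ ≤ 𝐂(W) := by
    rw [FittingEgen]
    exact commg_iSup_le (fun p => (pcore_sub _ _).trans (norms_cent UW))
      (norms_cent (sup_le (normG _) sW)) fun p => centsC.1 (cD p)
  have h2 : ⁅⁅fit U, W⁆, W⁆ = ⊥ := commG1P.2 ((commgS _ le_sup_left).trans h1)
  have h3 : ⁅W, W⁆ ≤ fit U := (le_inf ((der_sub W).trans WU) (commG1P.1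
    (three_subgroup (commGC (fit U) W ▸ h2) h2))).trans (cent_sub_Fitting (odd_sol ho))
  have h4 : W ≤ fit U := Fitting_max ⟨WU, UW⟩ ((isNilpotent_iff_lowerCentralSeries W).2
    ⟨3, eq_bot_iff.2 ((commSg _ (commSg _ h3)).trans h2.le)⟩)
  have h5 : W ≤ 𝐂(W) := id.ge.trans ((commgSS h4 le_sup_right).trans h1)
  have h6 := coprime_abel_cent_TI sW (cop_zp oW ss) (abelianP.2 (centsP.1 h5))
  rw [id, cent_cycle] at h6
  exact fun x hx => inv_of_fpf ss (norms_cycle.1 sW) h6 hx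

theorem k5 : K5Stmt.{u} := fun G _ _ P h => by
  have sU : P.s ∈ 𝐍(P.U) := P.V_nU P.sV
  refine ⟨P.W, ⟨(comm_le sU).trans P.U_le,
    H_norm_W P.V4 (P.syl le_top) P.tV P.sV P.t1 P.s1 P.st P.tnH⟩, comm_le sU,
    iv_of_D P.oddU P.ss sU fun p hp => ?_, le_comm_sup P.oddU P.ss sU⟩
  have h1 : P.D p ≤ P.U := (commg_subl.2 (norms_pcore _ (sup_le (normsG (comm_le sU))
    (norms_cycle.2 sU)))).trans (pcore_sub _ _)
  have h2 := h p hp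
  rwa [K4.B, ← inf_assoc, inf_eq_left.2 h1] at h2

theorem kfin : KFinStmt.{u} := fun G _ _ P h hM hB => by
  haveI := h.simple
  obtain ⟨F, _, _, -, e⟩ := fin_bsw P.V4 (P.syl le_top) P.tV P.sV P.t1 P.s1 P.st P.tnH hM hB
  exact ⟨F, inferInstance, inferInstance, e⟩

end Cfsg.Agent.NR
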