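import Cfsg.Agent.Lib.NR.KMax1

/-! The centralizer of an involution is maximal. -/

namespace Cfsg.Agent.NR

open Subgroup FT SF.GP SF.T TwoGrp GW

universe u

variable {G : Type u} [Group G] [Finite G] {V M L K X Y : Subgroup G} {a b c x z g t v w : G}
  {p r s u : ℕ}

theorem Good.conj (h : Good V v u M) (hg : g ∈ 𝐍(V)) : Good V (g * v * g⁻¹) u (cj g M) :=
  have e : ⁅core {u} (cj g M), zpowers (g * v * g⁻¹)⁆ = cj g ⁅core {u} M, zpowers v⁆ := by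
    rw [Tr.cj_commutator, Tr.cj_zpowers, pcoreJ]
  ⟨h.V4, Tr.conj_mem_of_mem_normalizer hg h.mem, fun e => h.ne1 (by simpa using e), h.prime, h.odd,
    coatom_cj h.max _, h.tn.cj _, cent1J g v ▸ Tr.cj_mono _ h.le,
    by rw [e, Ne, Tr.cj_eq_bot]; exact h.ne, by rw [e, Tr.normalizer_cj]; exact Tr.cj_mono _ h.nz⟩

theorem Good.iv (hc : Good V v u M) (h : OB v p u M L) (hv : v ∈ L) : ∀ x ∈ pF p L, Iv v x := fun _ =>
  inv_of_fpf (sq_of_ab (four_abelem hc.V4) hc.mem) ((pF_nrm p L).nz hv)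
    (eq_bot_iff.2 ((inf_le_inf_left _ hc.le).trans h.ti.le))

theorem Good.oddF (hc : Good V v u M) (h : OB v p u M L) (hv : v ∈ L) : Odd #|pF p L| :=
  odd_of_fpf (sq_of_ab (four_abelem hc.V4) hc.mem) ((pF_nrm p L).nz hv)
    (eq_bot_iff.2 ((inf_le_inf_left _ hc.le).trans h.ti.le))

namespace Bn

variable (h : Bn V)
include h

omit [Finite G] in
theorem V_nz (hv : v ∈ V) : V ≤ 𝐍(zpowers v) :=
  cents_norm ((four_cent1 h.V4 hv).trans (cent_cycle v).ge)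

omit [Finite G] in
theorem V_nc (hv : v ∈ V) : V ≤ 𝐍(𝐂[v]) := norms_cent1 (four_cent1 h.V4 hv)

theorem zl (hc : Good V t p M) (ob : OB t p p M L) (hV : V ≤ L) (hw : w ∈ V)
    (ht : w ∈ 𝐂(pF p L)) [Fact s.Prime] (hs : s ≠ p) (ho : Odd #|X|)
    (htX : t ∈ 𝐍(X)) (hB : ∀ Z, Odd #|Z| → Z ≤ 𝐂[w] → Z ≤ X) (hX : core {s} L ≤ X) :
    core {s} L ≤ core {s} X := by
  haveI := Fact.mk hc.prime
  have tt := h.V_sq hc.mem
  by_cases h0 : core {s} L = ⊥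
  · exact h0.le.trans bot_le
  have hsF := core_le_pF hs L
  have nZ : Ohm1 p 𝐙(core {p} M) ⊴ M := Ohm_normal_trans p (pcore_normal _ M).center
  have cZ : fit M ≤ 𝐂(Ohm1 p 𝐙(core {p} M)) :=
    centsC.1 ((Ohm_sub _ _).trans ((zp_cent p M).trans inf_le_right))
  have oZ : Odd #|Ohm1 p 𝐙(core {p} M)| :=
    odd_of_le ((Ohm_sub _ _).trans inf_le_left) (odd_pcore hc.odd M)
  have ZL := (Ohm_sub p _).trans ob.z
  have ab := Ohm1_center_abelem p (core {p} M)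
  have Z0 := Ohm1_center_ne_bot (pcore_isPGroup p M) hc.core_ne
  generalize Ohm1 p 𝐙(core {p} M) = Z at *
  have k1 : ∀ Y, Y ≤ Z → V ≤ 𝐍(Y) → Y ≠ ⊥ → core {s} L ⊓ 𝐂(Y) = ⊥ := fun Y h1 h2 h3 =>
    eq_bot_iff.2 ((inf_le_inf hsF ((cent_sub _).trans (h.eight' hc (h1.trans nZ.le) h3
      (cents_norm (cZ.trans (centS h1))) h2))).trans ob.ti.le)
  have k2 : ∀ v ∈ V, ⁅Z, zpowers v⁆ ≤ 𝐂(pF p L) → Z ≤ 𝐂[v] := fun v hv e => by
    by_contra h1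
    exact h0 (by rw [← k1 _ (comm_le (nZ.nz (hc.hV hv))) (normsR (hc.hV.trans nZ.nz) (h.V_nz hv))
      (mt comm_bot.1 h1), inf_eq_left.2 (hsF.trans (centsC.1 e))])
  have k3 : ∀ v ∈ 𝐂(pF p L), ⁅Z, zpowers v⁆ ≤ 𝐂(pF p L) := fun v hv =>
    (commgS _ (zpowers_le.2 hv)).trans (commg_subr.2 (norms_cent (ZL.trans (pF_nrm p L).nz)))
  have h1 := k2 _ hc.mem (comm_cent_of_inv tt (hc.iv ob (hV hc.mem)) (ZL.trans (pF_nrm p L).nz))
  exact HH hs.symm ho tt htX (le_inf (hB Z oZ (k2 _ hw (k3 _ ht))) h1) ab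
    ((inf_le_right.trans hc.le).trans nZ.nz) hX
    (pcore_isPGroup s L) (fun x hx => hc.iv ob (hV hc.mem) x (hsF hx)) (ZL.trans (pcore_norm _ L))
    (k1 Z le_rfl (hc.hV.trans nZ.nz) Z0)

theorem cj_ne (hS : IsSylowIn 2 V ⊤) (hc : Good V v u M) (hg : g ∈ 𝐍(V)) (e : cj g M = M) :
    g * v * g⁻¹ = v := by
  have h1 : g ∈ M := h.toSm.norm_le hc.max (normG M) hc.tn.sol
    (ne_bot_of_le_ne_bot (four_ne_bot h.V4) hc.hV) (Tr.cj_eq_iff.1 e)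
  obtain ⟨a, ha, e'⟩ := hc.tn.fusion (Sylow_subl hc.hV le_top hS) h1 hc.mem
    (Tr.conj_mem_of_mem_normalizer hg hc.mem)
  rw [e', cent1_conj.1 (four_cent1 h.V4 hc.mem ha)]

/-- `C(t)` is a maximal subgroup. -/
theorem coatom (hS : IsSylowIn 2 V ⊤) (ht : t ∈ V) (t1 : t ≠ 1)
    (hx : ∀ v ∈ V, v ≠ 1 → ∃ g ∈ 𝐍(V), g * t * g⁻¹ = v)
    (hC : ∀ M, M ≠ ⊤ → V ≤ M → ChF M ∨ V ≤ 𝐂(𝐎(M)))
    (hT : ∀ M, 𝐂[t] ≤ M → M ≠ ⊤ → TN M) : IsCoatom 𝐂[t] := by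
  by_contra hH
  have tt := h.V_sq ht
  have Vt := four_cent1 h.V4 ht
  have H0 : 𝐂[t] ≠ ⊤ := fun e => by
    obtain ⟨v, hv, v1, vt⟩ := kleinFour_exists_ne h.V4 t
    obtain ⟨g, -, e'⟩ := hx v hv v1
    exact vt (e'.symm.trans (cent1_conj.1 (e ▸ mem_top g)))
  obtain ⟨p, M, hc⟩ := h.exists_good ht t1 hH H0 fun M h1 h2 =>
    ⟨hT M h1 h2, V, Sylow_subl (Vt.trans h1) le_top hS, Vt⟩
  haveI := Fact.mk hc.prime
  have p2 := hc.odd
  have oR := odd_pcore p2 M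
  have VR := hc.hV.trans (pcore_norm {p} M)
  obtain ⟨v, hv, v1, X0⟩ : ∃ v ∈ V, v ≠ 1 ∧ ⁅core {p} M ⊓ 𝐂[v], zpowers t⁆ ≠ ⊥ := by
    by_contra! e
    exact hc.ne (le_bot_iff.1 (gen_comm (odd_sol oR) h.V4 (pg_zp tt) oR VR (zpowers_le.2 (VR ht))
      fun f hf f1 => (e f hf f1).le))
  have vt : v ≠ t := by
    rintro rfl
    exact X0 (le_bot_iff.1 comm_self)
  obtain ⟨g, hg, rfl⟩ := hx v hv v1
  have hc' := hc.conj hg
  have hne : cj g M ≠ M := fun e => vt (h.cj_ne hS hc hg e)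
  have eJ : ∀ (g : G) (r : ℕ), core {r} (cj g M) = ⊥ ↔ core {r} M = ⊥ := fun g r => by
    rw [pcoreJ, Tr.cj_eq_bot]
  generalize g * t * g⁻¹ = v at *
  have hn := normsI VR (h.V_nc hv) ht
  have K1 : ∀ {X : Subgroup G}, X ≠ ⊤ → V ≤ X → ⁅core {p} M ⊓ 𝐂[v], zpowers t⁆ ≤ X →
      ⁅core {p} M ⊓ 𝐂[v], zpowers t⁆ ≤ core {p} X := h.lemK p2 ht t1 hc.le inf_le_left hn
  have h1 := le_inf ((comm_le hn).trans inf_le_left)
    (K1 hc'.max.1 hc'.hV ((comm_le hn).trans (inf_le_right.trans hc'.le)))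
  have h2 := ne_bot_of_le_ne_bot X0 h1
  have V0 := normsI VR (hc'.hV.trans (pcore_norm {p} _))
  obtain ⟨L, hL, hN⟩ := (eq_top_or_exists_le_coatom _).resolve_left
    (h.toSm.ne_top_odd (odd_of_le inf_le_left oR) h2)
  have VL := V0.trans hN
  have h3 := K1 hL.1 VL (h1.trans ((normG _).trans hN))
  have rL := ne_bot_of_le_ne_bot X0 h3
  have cL := (hC L hL.1 VL).resolve_right fun e => X0 (by
    rw [← comm_id (odd_of_le inf_le_left oR) tt hn, comm_bot]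
    exact h3.trans ((core_O p2 L).ge.trans ((pcore_sub _ _).trans (sub_cent1.2 (e ht)))))
  have d1 := h.DI p2 hc hL h2 inf_le_left V0 hN rL
  have d2 := h.DI p2 hc' hL h2 inf_le_right V0 hN rL
  by_cases e1 : L = M
  · subst e1
    have ob := d2 hne.symm
    exact ob.ne cL (eq_bot_iff.2 (pF_le fun s hs hsp => ((ob.disj s hs hsp).elim (eJ g s).1 id).le))
  have ob := d1 e1
  by_cases e2 : L = cj g M
  · subst e2
    exact ob.ne cL (eq_bot_iff.2 (pF_le fun s hs hsp => ((ob.disj s hs hsp).elim (eJ g s).2 id).le))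
  have ob' := d2 e2
  obtain ⟨s, hs, hsp, h8⟩ : ∃ s, s.Prime ∧ s ≠ p ∧ core {s} L ≠ ⊥ := by
    by_contra! e; exact ob.ne cL (eq_bot_iff.2 (pF_le fun s hs hne => (e s hs hne).le))
  haveI := Fact.mk hs
  have h4 : pF p L ≤ 𝐂[t * v] := fun x hx =>
    cent1C.1 ((hc.iv ob (VL ht) x hx).mul (hc'.iv ob' (VL hv) x hx))
  have hw := mul_mem ht hv
  obtain ⟨k, hk, ek⟩ := hx (t * v) hw fun e => vt (by rw [← inv_eq_of_sq tt, inv_eq_of_mul_eq_one_right e])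
  have hc'' := hc.conj hk
  rw [ek] at hc''
  have hB : ∀ Z, Odd #|Z| → Z ≤ 𝐂[t * v] → Z ≤ 𝐎(cj k M) := fun Z h1 h2 =>
    hc''.tn.le (h2.trans hc''.le) h1
  have h6 := (h.zl hc ob VL hw (sub_cent1.1 h4) hsp (odd_core _) (pcore_norm _ _ (hc''.hV ht)) hB
    ((core_le_pF hsp L).trans (hB _ (hc.oddF ob (VL ht)) h4))).trans
    (pcore_normal_le _ (pcore_normal _ _))
  exact h8 ((ob.disj s hs hsp).resolve_left fun e => h8 (le_bot_iff.1 (h6.trans ((eJ k s).2 e).le)))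

end Bn

end Cfsg.Agent.NR
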