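import Cfsg.Agent.Lib.NR.KDefs
import Cfsg.Agent.Lib.NR.KMax2
import Cfsg.Agent.Lib.NR.KB2a
import Cfsg.Agent.Lib.GW.Cyc
import Cfsg.Agent.Lib.GO.Ree1

/-! Four-group case: the local facts which come from the induction. -/

namespace Cfsg.Agent.NR

open Subgroup FT SF.GP SF.T TwoGrp GW Matrix
open scoped MatrixGroups

universe u

/-- a subgroup of odd order of `PSL₂` centralizing an involution is cyclic -/
theorem psl_cyc {F : Type*} [Field F] [Finite F] (h3 : (3 : F) = 0) {K : Subgroup PSL(2, F)}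
    {t : PSL(2, F)} (tt : t * t = 1) (t1 : t ≠ 1) (ho : Odd (Nat.card K)) (hK : K ≤ 𝐂[t]) :
    IsCyclic K := by
  have h2 := two_ne h3
  obtain ⟨τ, rfl⟩ := pr_surj t
  have hk : ∀ m : SL(2, F), pr m = 1 → m = 1 ∨ m = -1 := fun m h =>
    (QGrp.mem_center_SL h2).1 ((QuotientGroup.eq_one_iff _).1 h)
  have n1 : pr (-1 : SL(2, F)) = 1 := (QuotientGroup.eq_one_iff _).2 ((QGrp.mem_center_SL h2).2 (.inr rfl))
  have e : τ * τ = -1 := (hk _ (by rw [map_mul, tt])).resolve_left fun e => t1 (by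
    rcases QGrp.sq_eq_one h2 e with e | e <;> rw [e]
    exacts [map_one _, n1])
  have hc : IsCyclic (K.comap pr) := isCyclic_of_comm h2 (x := τ) (fun y hy => by
    have h1 := mem_cent1.1 (hK hy)
    rcases hk (y * τ * (τ * y)⁻¹) (by rw [map_mul, map_inv, map_mul, map_mul, h1, mul_inv_cancel]) with e1 | e1
    · exact mul_inv_eq_one.1 e1
    · exfalso
      have e2 : τ * y * τ⁻¹ = -y := by
        rw [mul_inv_eq_iff_eq_mul] at e1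
        rw [mul_inv_eq_iff_eq_mul, neg_mul, e1]; simp
      have ho' := odd_of_mem ho hy
      have e3 : τ * y ^ orderOf (pr y) * τ⁻¹ = -(y ^ orderOf (pr y)) := by
        rw [← conj_pow, e2, ho'.neg_pow]
      rcases hk (y ^ orderOf (pr y)) (by rw [map_pow, pow_orderOf_eq_one]) with e4 | e4
      · exact QGrp.neg_one_ne h2 (by simpa [e4] using e3.symm)
      · exact QGrp.neg_one_ne h2 (by simpa [e4] using e3)) (by
    obtain ⟨e1, -, -, e4⟩ := QGrp.ents e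
    have e5 := QGrp.det2 τ
    simp only [QGrp.mul_ent] at e1 e4
    simp at e1 e4
    intro e6
    exact h2 (by linear_combination 2 * (e1 + e4 + 2 * e5 - e6) - 2 * h3))
  rw [← map_comap_eq_self_of_surjective pr_surj K]
  exact isCyclic_of_surjective _ (pr.subgroupMap_surjective (K.comap pr))

namespace K4

variable {G : Type u} [Group G] [Finite G] {P : K4 G} {X Y M Q : Subgroup G} {g v y : G} {p : ℕ}

theorem even_inv (h : ¬ Odd #|Y|) : ∃ y ∈ Y, y * y = 1 ∧ y ≠ 1 := by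
  obtain ⟨⟨x, hx⟩, e⟩ := exists_prime_orderOf_dvd_card' 2 (even_iff_two_dvd.1 (Nat.not_odd_iff_even.1 h))
  rw [← orderOf_coe] at e
  exact ⟨x, hx, sq_of_ord e, fun h => by simp [h] at e⟩

theorem Rt.E_le (h : P.Rt g) (hg : g ∈ X) (hX : P.V ≤ X) (hn : Y ⊴ X) (hY : ¬ Y ≤ 𝐎(X)) : P.E X ≤ Y := by
  obtain ⟨y, hy, h2, h1⟩ := even_inv fun ho => hY (le_core ho hn)
  obtain ⟨a, ha, rfl⟩ := h.conj_t hg hX (hn.le hy) h2 h1
  exact P.E_min (by simpa [mul_assoc] using hn.conj_mem' ha hy) hn.nz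

theorem chf_or (P : K4 G) (hV : P.V ≤ M) : ChF M ∨ P.V ≤ 𝐂(𝐎(M)) := by
  rcases P.tn_or hV with h | ⟨g, hg, e⟩
  · exact .inl h.chf
  by_cases hO : M ⊓ 𝐂(fit M) ≤ 𝐎(M)
  · exact .inl (chf_of_sol (odd_sol (odd_of_le hO (odd_core M))))
  · have h1 := (e.V_E hg).trans (e.E_le hg hV (Fitting_normal M).cent hO)
    exact .inr fun v hv => sub_cent1.1 (cent_of_fit (odd_core M) (P.V_sq hv) (pcore_norm _ M (hV hv))
      (centS (Fitting_normal_le (pcore_normal _ M)) (h1 hv).2))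

theorem Rt.se (h : P.Rt g) (hg : g ∈ M) (hM : 𝐂[P.t] ≤ M) (h0 : M ≠ ⊤) : IsStronglyEmbedded M := by
  have hV := P.V_t.trans hM
  refine ⟨h0, even_iff_two_dvd.2 ((show 2 ∣ #|P.V| by rw [P.card_V]; norm_num).trans (cardSg hV)),
    fun a ha => by_contra fun ho => ha ?_⟩
  obtain ⟨y, ⟨hy, z, hz, e⟩, h2, h1⟩ := even_inv ho
  have e : a * z * a⁻¹ = y := e
  obtain ⟨b, hb, e1⟩ := h.conj_t hg hV hy h2 h1
  obtain ⟨c, hc, e2⟩ := h.conj_t hg hV hz (sq_conj.1 (e ▸ h2)) (fun e' => h1 (by simp [← e, e']))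
  have : b⁻¹ * a * c ∈ M := hM (cent1_conj.2 (by
    rw [show b⁻¹ * a * c * P.t * (b⁻¹ * a * c)⁻¹ = b⁻¹ * (a * (c * P.t * c⁻¹) * a⁻¹) * b by group, e2, e, ← e1]
    group))
  simpa [mul_assoc] using M.mul_mem (M.mul_mem hb this) (M.inv_mem hc)

theorem Rt.three (h : P.Rt g) : 3 ∣ orderOf g := by
  by_contra h3
  obtain ⟨m, hm⟩ := exists_pow_eq_self_of_coprime (x := g) ((Nat.Prime.coprime_iff_not_dvd Nat.prime_three).2 h3)
  refine h.ncent P.tV P.t1 (hm ▸ pow_mem (cent1_conj.2 ?_) m)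
  rw [show g ^ 3 * P.t * (g ^ 3)⁻¹ = g * (g * (g * P.t * g⁻¹) * g⁻¹) * g⁻¹ by
    simp only [pow_three, _root_.mul_inv_rev, mul_assoc], h.1, h.2, h.ts]

/-- the image in `X / O(X)` -/
noncomputable def bar (h : P.Rt g) (hg : g ∈ X) (hX : P.V ≤ X) : K4 (Bar X) where
  t := br X P.t
  s := br X P.s
  x := br X g
  tt := by rw [← br_mul (hX P.tV) (hX P.tV), P.tt]; exact (br_one (one_mem _)).2 (one_mem _)
  ss := by rw [← br_mul (hX P.sV) (hX P.sV), P.ss]; exact (br_one (one_mem _)).2 (one_mem _)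
  t1 := fun e => P.t1 (eq_one_of_odd_sq (odd_core X) ((br_one (hX P.tV)).1 e) P.tt)
  s1 := fun e => P.s1 (eq_one_of_odd_sq (odd_core X) ((br_one (hX P.sV)).1 e) P.ss)
  st := fun e => P.ts1 (eq_one_of_odd_sq (odd_core X) (by
    simpa [P.s_inv] using (br_eq_iff (hX P.tV) (hX P.sV)).1 e.symm) P.tsts)
  cm := by rw [← br_mul (hX P.tV) (hX P.sV), ← br_mul (hX P.sV) (hX P.tV), P.cm]
  h8 := fun e => P.h8 (e.trans ((card_quotient_dvd_card _).trans (card_subgroup_dvd_card X)))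
  xt := by rw [← br_conj hg (hX P.tV), h.1]
  xs := by rw [← br_conj hg (hX P.sV), h.2, br_mul (hX P.tV) (hX P.sV)]

theorem bar_V (h : P.Rt g) (hg : g ∈ X) (hX : P.V ≤ X) (hv : v ∈ P.V) : br X v ∈ (bar h hg hX).V := by
  rcases P.mem_V.1 hv with rfl | rfl | rfl | rfl
  · rw [(br_one (one_mem _)).2 (one_mem _)]; exact one_mem _
  exacts [(bar h hg hX).tV, (bar h hg hX).sV, br_mul (hX P.tV) (hX P.sV) ▸ (bar h hg hX).tsV]

theorem bar_E (h : P.Rt g) (hg : g ∈ X) (hX : P.V ≤ X) : (bar h hg hX).E ⊤ = bq X (P.E X) := by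
  have n := P.E_nrm (hX P.tV)
  refine le_antisymm ((closure_le _).2 ?_) fun y hy => ?_
  · rintro _ ⟨m, -, rfl⟩
    obtain ⟨m, hm, rfl⟩ := br_surj m
    exact mem_bq.2 ⟨_, P.conj_mem_E hm, n.le (P.conj_mem_E hm), br_conj hm (hX P.tV)⟩
  · obtain ⟨z, hz, -, rfl⟩ := mem_bq.1 hy
    clear hy
    induction hz using closure_induction with
    | mem _ hx => obtain ⟨m, hm, rfl⟩ := hx
                  rw [br_conj hm (hX P.tV)]; exact (bar h hg hX).conj_mem_E (mem_top _)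
    | one => rw [(br_one (one_mem _)).2 (one_mem _)]; exact one_mem _
    | mul a b ha hb h1 h2 => rw [br_mul (n.le ha) (n.le hb)]; exact mul_mem h1 h2
    | inv a ha h1 => rw [br_inv (n.le ha)]; exact inv_mem h1

theorem bar_O (X : Subgroup G) : 𝐎((⊤ : Subgroup (Bar X))) = ⊥ := by
  refine eq_bot_iff.2 fun y hy => ?_
  obtain ⟨y, hyX, rfl⟩ := br_surj y
  let K : Subgroup G := (𝐎((⊤ : Subgroup (Bar X))).comap (QuotientGroup.mk' _)).map X.subtype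
  have hK : ∀ {a}, a ∈ X → (a ∈ K ↔ br X a ∈ 𝐎((⊤ : Subgroup (Bar X)))) := fun {a} ha =>
    ⟨fun ⟨b, hb, e⟩ => by obtain rfl : (b : G) = a := e
                          rw [br_eq ha]; exact hb, fun h => ⟨⟨a, ha⟩, by rwa [br_eq ha] at h, rfl⟩⟩
  have KX : K ≤ X := map_subtype_le _
  have h1 : K ≤ 𝐎(X) := le_core (by_contra fun ho => by
    obtain ⟨z, hz, h2, h1⟩ := even_inv ho
    exact h1 (eq_one_of_odd_sq (X := zpowers z) (by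
      rw [Nat.card_zpowers]; exact br_odd (KX hz) (odd_of_mem (odd_core _) ((hK (KX hz)).1 hz)))
      (mem_zpowers z) h2))
    ⟨KX, norms_of_conj_mem fun a ha b hb => (hK (mul_mem (mul_mem ha (KX hb)) (inv_mem ha))).2 (by
      rw [br_conj ha (KX hb)]; exact (pcore_normal _ _).conj_mem (mem_top _) ((hK (KX hb)).1 hb))⟩
  exact (br_one hyX).2 (h1 ((hK hyX).2 hy))

section top
variable (hO : 𝐎((⊤ : Subgroup G)) = ⊥)
include hO

theorem O_E (P : K4 G) : 𝐎(P.E ⊤) = ⊥ :=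
  eq_bot_iff.2 ((pcore_normal_le _ (P.E_nrm (mem_top _))).trans hO.le)

theorem Rot.l2 (h : P.Rot ⊤) (hS : SimpleLe.{u} (Nat.card G)) (hn : NoReal G) : IsL2 (P.E ⊤) := by
  obtain ⟨g, hg, e⟩ := h.2
  have hV := e.V_E (mem_top g)
  have : Nontrivial (P.E ⊤) := ⟨⟨⟨_, P.t_mem_E⟩, 1, fun e => P.t1 (congrArg Subtype.val e)⟩⟩
  have : IsSimpleGroup (P.E ⊤) := ⟨fun N hN => by
    by_cases h0 : N.map (P.E ⊤).subtype ≤ 𝐎(P.E ⊤)
    · exact .inl ((map_eq_bot_iff_of_injective _ (subtype_injective _)).1 (eq_bot_iff.2 (h0.trans (P.O_E hO).le)))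
    · have h1 := e.E_le hg hV (nrm_map_subtype N) h0
      refine .inr (eq_top_iff.2 fun a _ => ?_)
      obtain ⟨b, hb, e⟩ := h1 ((closure_le (P.E (P.E ⊤))).2 (by
        rintro _ ⟨m, hm, rfl⟩
        obtain ⟨a, ha, e⟩ := h.dec hm
        exact e ▸ P.conj_mem_E ha) a.2)
      exact Subtype.ext e ▸ hb⟩
  refine hS _ (card_le_card_group _) (hn.subgroup _) (e.three.trans (orderOf_dvd_natCard _ hg)) fun hc => ?_
  exact e.ncent P.tV P.t1 (mem_cent1.2 (congrArg Subtype.val (hc.1.1 ⟨g, hg⟩ ⟨_, P.t_mem_E⟩)))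

theorem l1_top (hP : P.Rot ⊤ → Ree.PL (P.E ⊤)) [Fact (p : ℕ).Prime] (hv : v ∈ P.V) (v1 : v ≠ 1)
    (ho : Odd #|Y|) (hp : IsPGroup p Y) (hn : 𝐂[v] ≤ 𝐍(Y)) : Y ≤ 𝐂[v] := by
  have hV := P.rt_x.V_E (mem_top _)
  have nE := P.E_nrm (mem_top P.t)
  have hvY := hn (cent1id v)
  have h1 : ⁅Y, zpowers v⁆ ≤ Y ⊓ P.E ⊤ := le_inf (comm_le hvY)
    ((commgS _ (zpowers_le.2 (hV hv))).trans (commg_subr.2 (le_top.trans nE.nz)))
  refine le_cent_of_comm ho (P.V_sq hv) hvY (h1.trans ?_)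
  rcases P.tn_or hV with hT | ⟨g, hg, e⟩
  · have := (hT.sdprod (P.syl hV)).sup
    rw [P.O_E hO, bot_sup_eq] at this
    exact inf_le_right.trans (this.ge.trans (P.V_c hv))
  have L := hP ⟨le_top, g, hg, e⟩
  have n0 : 𝐂[v] ≤ 𝐍(Y ⊓ P.E ⊤) := normsI hn (le_top.trans nE.nz)
  have o0 : Odd #|Y ⊓ P.E ⊤| := odd_of_le inf_le_left ho
  have p0 : IsPGroup p ↥(Y ⊓ P.E ⊤) := pgroup_sub inf_le_left hp
  have Y0 : Y ⊓ P.E ⊤ ≤ P.E ⊤ := inf_le_right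
  generalize Y ⊓ P.E ⊤ = Y at *
  refine gen4 P.V4 o0 ((P.V_c hv).trans n0) fun d hd d1 y hy => by_contra fun hc => ?_
  have y1 : y ≠ 1 := fun e => hc (e ▸ one_mem _)
  obtain ⟨z, hz, z1⟩ := trivgPn.1 (center_pgroup_ne_bot p0 (trivgPn.2 ⟨y, hy.1, y1⟩))
  have od := four_order P.V4 hd d1
  have c1 : ∀ a ∈ Y, Commute a y := fun a ha => (L.odd z (Y0 hz.1) z1 (odd_of_mem o0 hz.1) a (Y0 ha) y
    (Y0 hy.1) (mem_cent.1 hz.2 a ha) (mem_cent.1 hz.2 y hy.1)).1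
  have c2 := fun a ha b hb => L.odd y (Y0 hy.1) y1 (odd_of_mem o0 hy.1) a ha b hb
  have dy : Commute d y := (mem_cent1.1 hy.2).symm
  have c3 : d ∈ 𝐂(Y) := mem_cent.2 fun a ha => (c2 a (Y0 ha) d (hV hd) (c1 a ha) dy).1
  have h2 : P.E ⊤ ⊓ 𝐂[v] ≤ P.E ⊤ ⊓ 𝐂[d] := fun a ha => ⟨ha.1, cent1_conj.2 ((c2 _
    (nE.conj_mem (mem_top a) (hV hd)) d (hV hd) (mem_cent.1 (Tr.conj_mem_of_mem_normalizer
      (norms_cent n0 ha.2) c3) y hy.1).symm dy).2 (((MulAut.conj a).orderOf_eq d).trans od) od)⟩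
  have h3 : ∀ d ∈ P.V, d ≠ 1 → #|P.E ⊤ ⊓ 𝐂[d]| = #|P.E ⊤ ⊓ 𝐂[P.t]| := fun d hd d1 => by
    obtain ⟨a, -, rfl⟩ := e.conj_t (mem_top g) le_top (mem_top d) (P.V_sq hd) d1
    rw [← Tr.card_cj a (P.E ⊤ ⊓ 𝐂[P.t]), Tr.cj_inf, ← cent1J, nE.cj_eq (mem_top a)]
  exact hc ((eq_of_le_of_card_ge h2 (by rw [h3 d hd d1, h3 v hv v1])).ge ⟨Y0 hy.1, hy.2⟩).2

end top

section ih
variable (hS : SimpleLe.{u} (Nat.card G - 1)) (hn : NoReal G)
include hS hn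

theorem bar_l2 (hX : X ≠ ⊤) (h : P.Rt g) (hg : g ∈ X) (hV : P.V ≤ X) (hR : (bar h hg hV).Rot ⊤) :
    IsL2 ((bar h hg hV).E ⊤) :=
  hR.l2 (bar_O X) (fun H _ _ _ hc => hS H (hc.trans ((Nat.le_of_dvd (cardG_gt0 X) (card_quotient_dvd_card _)).trans
    (Nat.le_sub_one_of_lt (by simpa using proper_card (lt_top_iff_ne_top.2 hX)))))) ((hn.subgroup X).quotient _)

omit hS hn in
theorem pl_of_l2 (h : IsL2 Y) : Ree.PL Y := by
  obtain ⟨f, -, ⟨e⟩⟩ := h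
  have := Fintype.ofFinite (GaloisField 3 (2 * f + 1))
  refine Ree.PL.of_iso (F := GaloisField 3 (2 * f + 1)) ?_ e
  rw [← Nat.card_eq_fintype_card, GaloisField.card 3 _ (by omega)]
  exact Odd.pow (by decide)

omit hS hn in
theorem Rot.bar (h : P.Rt g) (hg : g ∈ P.E X) (hV : P.V ≤ X) (hg' : g ∈ X) : (bar h hg' hV).Rot ⊤ :=
  ⟨le_top, br X g, bar_E h hg' hV ▸ mem_bq.2 ⟨g, hg, hg', rfl⟩, (K4.bar h hg' hV).rt_x⟩

theorem Rot.isL2 (hX : X ≠ ⊤) (h : P.Rot X) : IsL2 (bq X (P.E X)) := by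
  obtain ⟨g, hg, e⟩ := h.2
  exact bar_E e (h.EX hg) h.1 ▸ bar_l2 hS hn hX e (h.EX hg) h.1 (Rot.bar e hg h.1 _)

theorem l1_ih [hp : Fact (p : ℕ).Prime] (hM : M ≠ ⊤) (hV : P.V ≤ M) (hv : v ∈ P.V) (v1 : v ≠ 1) (hY : Y ≤ M)
    (ho : Odd #|Y|) (hp : IsPGroup p Y) (hN : M ⊓ 𝐂[v] ≤ 𝐍(Y)) : ⁅Y, zpowers v⁆ ≤ core {p} M := by
  have hvM := hV hv
  refine l1_of_le (P.V_sq hv) hvM hp hN ?_
  rcases P.tn_or hV with hT | ⟨g, hg, e⟩
  · exact (comm_le (hN ⟨hvM, cent1id v⟩)).trans (hT.le hY ho)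
  have hp' : IsPGroup p (bq M Y) := (hp.comap_subtype).map _
  have h1 : bq M Y ≤ 𝐂[br M v] := l1_top (bar_O M) (fun hR => pl_of_l2 (bar_l2 hS hn hM e hg hV hR))
    (bar_V e hg hV hv) (fun e => v1 (eq_one_of_odd_sq (odd_core M) ((br_one hvM).1 e) (P.V_sq hv)))
    (ho.of_dvd_nat ((card_map_dvd _ _).trans (card_comap_dvd_of_injective _ _ M.subtype_injective)))
    hp' (norms_of_conj_mem fun d hd y hy => by
      obtain ⟨d, hd', rfl⟩ := br_lift1 (P.V_sq hv) hvM hd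
      obtain ⟨y, hy', hyM, rfl⟩ := mem_bq.1 hy
      have := Tr.conj_mem_of_mem_normalizer (hN hd') hy'
      exact mem_bq.2 ⟨_, this, hY this, br_conj hd'.1 hyM⟩)
  rw [commGC]
  refine comm_zpowers_le (pcore_norm _ M hvM) fun r hr => ?_
  rw [← br_one (mul_mem (mul_mem (mul_mem hvM (hY hr)) (inv_mem hvM)) (inv_mem (hY hr))),
    br_comm hvM (hY hr), cent1_conj'.1 (h1 (mem_bq.2 ⟨r, hr, hY hr, rfl⟩)), mul_inv_cancel]

theorem cyc_ih (hX : X ≠ ⊤) (h : P.Rot X) (hc : P.V ≤ 𝐂(𝐎(X))) (hQ : Q ≤ P.U ⊓ X) (hs : P.s ∈ 𝐍(Q))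
    (e : ⁅Q, zpowers P.s⁆ = Q) : IsCyclic Q := by
  obtain ⟨f, -, ⟨φ⟩⟩ := h.isL2 hS hn hX
  obtain ⟨g, hg, er⟩ := h.2
  have QX := hQ.trans inf_le_right
  have nE := P.E_nrm (h.1 P.tV)
  have oQ := odd_of_le (hQ.trans inf_le_left) P.oddU
  have QE : Q ≤ P.E X := e.ge.trans ((commgS _ (zpowers_le.2 (er.V_E (h.EX hg) P.sV))).trans
    (commg_subr.2 (QX.trans nE.nz)))
  have QO : Q ≤ 𝐂(𝐎(X)) := QE.trans (P.E_min (hc P.tV) (norms_cent (pcore_norm _ X)))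
  let ψ0 : Q →* bq X (P.E X) := MonoidHom.mk' (fun a => ⟨br X a, mem_bq.2 ⟨a, QE a.2, QX a.2, rfl⟩⟩)
    fun a b => Subtype.ext (br_mul (QX a.2) (QX b.2))
  let ψ := φ.toMonoidHom.comp ψ0
  have tE : br X P.t ∈ bq X (P.E X) := mem_bq.2 ⟨_, P.t_mem_E, h.1 P.tV, rfl⟩
  have h1 : IsCyclic ψ.range := psl_cyc (galois_facts f).1 (t := φ ⟨_, tE⟩)
    (by rw [← map_mul, map_eq_one_iff _ φ.injective]; exact Subtype.ext (K4.bar er (h.EX hg) h.1).tt)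
    (fun e => (K4.bar er (h.EX hg) h.1).t1 (congrArg Subtype.val ((map_eq_one_iff _ φ.injective).1 e)))
    (oQ.of_dvd_nat (card_range_dvd ψ)) (by
      rintro _ ⟨a, rfl⟩
      refine mem_cent1.2 ?_
      change φ (ψ0 a) * _ = _ * φ (ψ0 a)
      rw [← map_mul, ← map_mul]
      exact congrArg φ (Subtype.ext (mem_cent1.1 (br_cent (QX a.2) (h.1 P.tV) (P.U_le (hQ a.2).1)))))
  have hk : ∀ a : Q, ψ a = 1 → (a : G) ∈ 𝐎(X) := fun a ha =>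
    (br_one (QX a.2)).1 (congrArg Subtype.val ((map_eq_one_iff _ φ.injective).1 ha))
  have h2 : Q ≤ 𝐂(Q) := fun a ha => mem_cent.2 fun b hb => congrArg Subtype.val
    (commutative_of_cyclic_center_quotient ψ.rangeRestrict (fun c hc => mem_center_iff.2 fun d =>
      Subtype.ext (mem_cent.1 (QO d.2) _ (hk c (congrArg Subtype.val hc))).symm) ⟨b, hb⟩ ⟨a, ha⟩)
  have h3 : Q ⊓ 𝐂[P.s] = ⊥ := by
    have := coprime_abel_cent_TI (norms_cycle.2 hs) (cop2 oQ (pg_zp P.ss)) (abelianE.2 h2)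
    rwa [e, cent_cycle] at this
  exact isCyclic_of_injective ψ.rangeRestrict ((injective_iff_map_eq_one _).2 fun a ha => Subtype.ext
    (mem_bot.1 (h3 ▸ ⟨a.2, sub_cent1.2 (hc P.sV) (hk a (congrArg Subtype.val ha))⟩)))

/-- `E(X)` maps onto `PSL₂(3^(2f+1))` with kernel `E(X) ∩ O(X)` -/
theorem Rot.hom (hX : X ≠ ⊤) (h : P.Rot X) : ∃ f, 1 ≤ f ∧ ∃ ψ : P.E X →* PSL(2, GaloisField 3 (2 * f + 1)),
    Function.Surjective ψ ∧ ∀ a, ψ a = 1 ↔ (a : G) ∈ 𝐎(X) := by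
  obtain ⟨f, hf, ⟨φ⟩⟩ := h.isL2 hS hn hX
  let ψ0 : P.E X →* bq X (P.E X) := MonoidHom.mk' (fun a => ⟨br X a, mem_bq.2 ⟨a, a.2, h.EX a.2, rfl⟩⟩)
    fun a b => Subtype.ext (br_mul (h.EX a.2) (h.EX b.2))
  refine ⟨f, hf, φ.toMonoidHom.comp ψ0, φ.surjective.comp fun y => ?_, fun a =>
    (map_eq_one_iff _ φ.injective).trans (Subtype.ext_iff.trans (br_one (h.EX a.2)))⟩
  obtain ⟨a, ha, -, e⟩ := mem_bq.1 y.2
  exact ⟨⟨a, ha⟩, Subtype.ext e⟩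

theorem oc_ih {z : G} (hX : X ≠ ⊤) (h : P.Rot X) (hc : P.V ≤ 𝐂(𝐎(X))) (hY : Y ≤ P.E X) (ho : Odd #|Y|)
    (hz : z ∈ Y ⊓ 𝐂[P.t]) (z1 : z ≠ 1) (hi : Iv P.s z) : Y ≤ 𝐂[P.t] := fun y hy => by
  obtain ⟨f, -, ψ, -, hk⟩ := h.hom hS hn hX
  have tE : P.t ∈ P.E X := P.t_mem_E
  have h1 := b2_odd_cent (galois_facts f).2 (X := (Y.subgroupOf (P.E X)).map ψ) (t := ψ ⟨_, tE⟩)
    (z := ψ ⟨z, hY hz.1⟩) (x := ψ ⟨y, hY hy⟩)
    (ho.of_dvd_nat ((card_map_dvd _ _).trans (card_comap_dvd_of_injective _ _ (subtype_injective _))))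
    (Tr.orderOf_eq_two (by rw [← map_mul, ← map_one ψ]; exact congrArg ψ (Subtype.ext P.tt))
      fun e => P.t1 (eq_one_of_odd_sq (odd_core X) ((hk _).1 e) P.tt)) ⟨_, hz.1, rfl⟩
    (fun e => z1 (hi.eq_one (odd_of_mem ho hz.1) (cent_le_cent1 ((hk _).1 e) (hc P.sV))))
    ((show Commute (⟨_, tE⟩ : P.E X) ⟨z, hY hz.1⟩ from Subtype.ext (mem_cent1.1 hz.2).symm).map ψ)
    ⟨_, hy, rfl⟩
  have h2 : y * P.t * y⁻¹ * P.t⁻¹ ∈ 𝐎(X) := (hk (⟨y, hY hy⟩ * ⟨_, tE⟩ * ⟨y, hY hy⟩⁻¹ * ⟨_, tE⟩⁻¹)).1 (by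
    rw [map_mul, map_mul, map_mul, map_inv, map_inv, h1.eq]; group)
  have h3 := mem_cent.1 (hc P.tV) _ h2
  refine cent1_conj.2 (mul_inv_eq_one.1 (eq_one_of_odd_sq (odd_core X) h2 ?_))
  have h4 : y * P.t * y⁻¹ * (y * P.t * y⁻¹) = 1 := sq_conj.2 P.tt
  rw [P.t_inv] at h3 ⊢
  generalize y * P.t * y⁻¹ = w at *
  rw [mul_assoc, ← mul_assoc P.t, mul_assoc P.t, ← h3, mul_assoc w, P.tt, mul_one, h4]

end ih

theorem Mn.sm (h : P.Mn) : Sm G := ⟨h.simple, fun hs => by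
  haveI := h.simple
  have := IsSimpleGroup.comm_iff_isSolvable.2 hs
  exact P.rt_x.ncent P.tV P.t1 (mem_cent1.2 (this _ _))⟩

theorem Mn.bn (h : P.Mn) : Bn P.V :=
  { h.sm with
    V4 := P.V4
    two := P.two
    l1' := fun p hp M Y v => h.l1 p M Y v hp.out }

end K4

theorem kmax : KMaxStmt.{u} := fun _ _ _ P h => h.bn.coatom (P.syl le_top) P.tV P.t1
  (fun v hv v1 => by
    rcases P.mem_V.1 hv with rfl | rfl | rfl | rfl
    exacts [absurd rfl v1, ⟨1, one_mem _, by simp⟩, ⟨_, P.rt_x.nV, P.xt⟩, ⟨_, inv_mem P.rt_x.nV, P.swap.xt⟩])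
  h.chf h.tn

theorem kloc : KLocStmt.{u} := fun _ _ _ _ P hS hn hse =>
  { simple := inferInstance
    nr := hn
    tn := fun M h1 h2 => (P.tn_or (P.V_t.trans h1)).resolve_right fun ⟨_, hg, e⟩ => hse ⟨M, e.se hg h1 h2⟩
    l1 := fun p _ _ _ hp h1 h2 h3 h4 h5 h6 h7 h8 => haveI := Fact.mk hp
      K4.l1_ih hS hn h1 h2 h3 h4 h5 h6 h7 h8
    chf := fun _ _ h => P.chf_or h
    cyc := fun _ _ h1 h2 h3 h4 h5 h6 => K4.cyc_ih hS hn h1 h2 h3 h4 h5 h6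
    oc := fun _ _ h1 h2 h3 h4 h5 _ h6 h7 h8 => K4.oc_ih hS hn h1 h2 h3 h4 h5 h6 h7 h8 }

end Cfsg.Agent.NR
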