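import Cfsg.Agent.Lib.GW.PNm1

/-! Bender's lemmas on maximal subgroups of a simple group with a four-subgroup `V`. -/

namespace Cfsg.Agent.NR

open Subgroup FT SF.GP SF.T TwoGrp GW

universe u

variable {G : Type u} [Group G] [Finite G] {V M L K X Y : Subgroup G} {a b c x z g v : G}
  {p r s u : ℕ}

/-- `G` is simple and not solvable -/
structure Sm (G : Type u) [Group G] : Prop where
  simp : IsSimpleGroup G
  nsol : ¬ Group.IsSolvable G

namespace Sm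

variable (h : Sm G)
include h

omit [Finite G] in
theorem ne_top' (h1 : X ≠ ⊥) (h2 : X ≠ ⊤) : 𝐍(X) ≠ ⊤ := fun e =>
  haveI := h.simp
  ((normalizer_eq_top_iff.1 e).eq_bot_or_eq_top).elim h1 h2

omit [Finite G] in
theorem sol_ne (hs : Group.IsSolvable X) : X ≠ ⊤ := fun e => h.nsol (by
  subst e
  exact Group.isSolvable_of_surjective (f := (⊤ : Subgroup G).subtype) fun x => ⟨⟨x, mem_top x⟩, rfl⟩)

omit [Finite G] in
theorem ne_top (hs : Group.IsSolvable X) (h1 : X ≠ ⊥) : 𝐍(X) ≠ ⊤ := h.ne_top' h1 (h.sol_ne hs)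

theorem ne_top_odd (ho : Odd #|X|) (h1 : X ≠ ⊥) : 𝐍(X) ≠ ⊤ := h.ne_top (odd_sol ho) h1

omit [Finite G] in
theorem norm_eq (hM : IsCoatom M) (hX : X ⊴ M) (hs : Group.IsSolvable X) (h1 : X ≠ ⊥) : 𝐍(X) = M :=
  ((hM.le_iff.1 hX.nz).resolve_left (h.ne_top hs h1))

omit [Finite G] in
theorem norm_le (hM : IsCoatom M) (hX : M ≤ 𝐍(X)) (hs : Group.IsSolvable X) (h1 : X ≠ ⊥) : 𝐍(X) ≤ M :=
  ((hM.le_iff.1 hX).resolve_left (h.ne_top hs h1)).le

theorem ben_b [Fact r.Prime] (hM : IsCoatom M) (hK : SCF M K) (hX : K ≤ X) (h1 : core {r} M ≠ ⊥) :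
    core {r} X ≤ 𝐂(K ⊓ pF r M) := by
  have hZ := (zp_cent r M).trans (hK.zf.trans hX)
  have pZ : IsPGroup r ↥(𝐙(core {r} M)) := pgroup_sub inf_le_left (pcore_isPGroup r M)
  have hN := h.norm_eq hM (pcore_normal {r} M).center (solvableS inf_le_left (sol_core r M))
    (center_pgroup_ne_bot (pcore_isPGroup r M) h1)
  have p' : PiG {r}ᶜ (pF r M) := pcore_pgroup _ _
  refine pxq_lemma pZ ((p'nat_iff_coprime Fact.out).1 (p'.inf_right K)) ((centSS inf_le_left inf_le_right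
    (centsC.1 (pF_cent r M)))) (pcore_isPGroup r X) (hZ.trans (pcore_norm _ X))
    ((inf_le_left.trans hX).trans (pcore_norm _ X)) ?_
  rw [← commG1P, eq_bot_iff, ← TI_pgroup_p'group (pcore_isPGroup r X) p']
  exact le_inf ((commSg _ inf_le_left).trans (commg_subl.2 ((inf_le_left.trans hX).trans (pcore_norm _ X))))
    ((commgS _ inf_le_right).trans (commg_subr.2 (((inf_le_right.trans (cent_sub _)).trans hN.le).trans
      (pF_nrm r M).nz)))

theorem ben_b' [Fact r.Prime] (hM : IsCoatom M) (hK : SCF M K) (hX : K ≤ X) (h1 : core {r} M ≠ ⊥)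
    (h2 : pF r M ≠ ⊥) : core {r} X ≤ M :=
  (h.ben_b hM hK hX h1).trans ((centS (le_inf ((zpF_cent r M).trans hK.zf) inf_le_left)).trans
    ((cent_sub _).trans (h.norm_eq hM (pF_nrm r M).center (solvableS inf_le_left (sol_pF r M))
      fun e => h2 ((center_nil_eq1 (pF_nil r M)).1 e)).le))

theorem ben_eq [Fact r.Prime] (hM : IsCoatom M) (hL : IsCoatom L) (cM : ChF M) (cL : ChF L)
    (h1 : fit M ≤ L) (h2 : fit L ≤ M) (h3 : core {r} M ≠ ⊥) (h4 : pF r M ≠ ⊥) :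
    L = M := by
  have e0 : ∀ {M L : Subgroup G}, ChF M → fit M ≤ L → fit L ≤ M → ∀ s, s.Prime →
      core {s} M = ⊥ → core {s} L = ⊥ := fun {M L} cM h1 h2 s hs e => by
    haveI := Fact.mk hs
    rw [← ben_a cM (scf_fit M) h1 e, inf_eq_left.2 ((pcore_sub_Fitting s L).trans h2)]
  have e1 : ∀ {M L : Subgroup G}, IsCoatom M → ChF M → fit M ≤ L → fit L ≤ M → ∀ s, s.Prime → s ≠ r →
      core {s} L ≤ 𝐂(pF s M) := fun {M L} hM cM h1 h2 s hs _ => by
    haveI := Fact.mk hs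
    by_cases e : core {s} M = ⊥
    · rw [e0 cM h1 h2 s hs e]; exact bot_le
    · exact (h.ben_b hM (scf_fit M) h1 e).trans (centS (le_inf (pcore_sub _ _) le_rfl))
  have h5 : pF r L ≠ ⊥ := fun e => h4 (eq_bot_iff.2 (pF_le fun s hs hne => (e0 cL h2 h1 s hs (by
    haveI := Fact.mk hs
    exact eq_bot_iff.2 ((core_le_pF hne L).trans e.le))).le))
  have nM := (cent_sub _).trans (h.norm_eq hM (pF_nrm r M) (sol_pF r M) h4).le
  have nL := (cent_sub _).trans (h.norm_eq hL (pF_nrm r L) (sol_pF r L) h5).le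
  let Q : Subgroup G → Subgroup G := fun M => Subgroup.closure {x | IsPGroup r (zpowers x) ∧ x ∈ 𝐂(pF r M)}
  have nQ : ∀ M, M ≤ 𝐍(Q M) := fun M => norms_gen fun a ha x hx =>
    ⟨Tr.cj_zpowers a x ▸ Tr.isPGroup_cj a hx.1,
      Tr.conj_mem_of_mem_normalizer (norms_cent (pF_nrm r M).nz ha) hx.2⟩
  have e : Q M = Q L := congrArg Subgroup.closure (Set.ext fun x => and_congr_right fun px =>
    ⟨fun hx => ben_q cM h2 ⟨nM hx, hx⟩ px (e1 hM cM h1 h2), fun hx => ben_q cL h1 ⟨nL hx, hx⟩ px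
      (e1 hL cL h2 h1)⟩)
  by_contra hne
  refine h.ne_top' (X := Q M) (ne_bot_of_le_ne_bot h3 fun x hx =>
      subset_closure ⟨pgroup_sub (zpowers_le.2 hx) (pcore_isPGroup r M), centsC.1 (pF_cent r M) hx⟩)
    (fun e' => hM.1 (eq_top_iff.2 (e'.ge.trans ((closure_le _).2 fun x hx => nM hx.2))))
    (eq_top_iff.2 ((hM.sup_eq_top_of_ne hL (Ne.symm hne)).ge.trans (sup_le (nQ M) (e ▸ nQ L))))

end Sm

/-- the hypotheses of Bender's method for the four-group `V` -/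
structure Bn (V : Subgroup G) : Prop extends Sm G where
  V4 : IsKleinFour V
  two : Two G
  l1' : ∀ (p : ℕ) [Fact p.Prime] (M Y : Subgroup G) (v : G), M ≠ ⊤ → V ≤ M → v ∈ V → v ≠ 1 → Y ≤ M →
    Odd #|Y| → IsPGroup p Y → M ⊓ 𝐂[v] ≤ 𝐍(Y) → ⁅Y, zpowers v⁆ ≤ core {p} M

/-- `M` is a good maximal overgroup of `C(v)` -/
structure Good (V : Subgroup G) (v : G) (u : ℕ) (M : Subgroup G) : Prop where
  V4 : IsKleinFour V
  mem : v ∈ V
  ne1 : v ≠ 1
  prime : u.Prime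
  odd : u ≠ 2
  max : IsCoatom M
  tn : TN M
  le : 𝐂[v] ≤ M
  ne : ⁅core {u} M, zpowers v⁆ ≠ ⊥
  nz : 𝐍(⁅core {u} M, zpowers v⁆) ≤ M

theorem Good.hV (h : Good V v u M) : V ≤ M := (four_cent1 h.V4 h.mem).trans h.le

theorem Good.core_ne (h : Good V v u M) : core {u} M ≠ ⊥ := fun e => h.ne (by
  rw [e]; exact commutator_bot_left _)

namespace Bn

variable (h : Bn V)
include h

omit [Finite G] in
theorem V2 : IsPGroup 2 V := abelem_pgroup (four_abelem h.V4)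

omit [Finite G] in
theorem V_sq (ha : a ∈ V) : a * a = 1 := sq_of_ab (four_abelem h.V4) ha

omit [Finite G] in
theorem l1 [Fact p.Prime] (hM : M ≠ ⊤) (hV : V ≤ M) (hv : v ∈ V) (v1 : v ≠ 1)
    (hY : Y ≤ M) (ho : Odd #|Y|) (hp : IsPGroup p Y) (hn : M ⊓ 𝐂[v] ≤ 𝐍(Y)) :
    ⁅Y, zpowers v⁆ ≤ core {p} M := h.l1' p M Y v hM hV hv v1 hY ho hp hn

/-- the characteristic `p` case -/
theorem charp [hp : Fact p.Prime] (p2 : p ≠ 2) (hM : IsCoatom M) (tM : TN M) (hV : V ≤ M)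
    (h0 : pF p M = ⊥) (hK : SCF M K) (hKV : V ≤ 𝐍(K))
    (hZ : ∀ R, K ≤ R → R ≤ M → IsPGroup p R → V ≤ 𝐍(R) → 𝐂(core {p} 𝐍(ZJ.ZJ R)) ≤ M)
    (hX : K ≤ X) (hVX : V ≤ X) (cX : ChF X) (h1 : pF p X = ⊥) : X ≤ M := by
  have eF : ∀ X : Subgroup G, pF p X = ⊥ → fit X = core {p} X := fun X e =>
    le_antisymm (fit_le_of le_rfl (e.le.trans bot_le)) (pcore_sub_Fitting p X)
  have pK : IsPGroup p K := pgroup_sub (hK.le.trans (eF M h0).le) (pcore_isPGroup p M)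
  have K0 : K ≠ ⊥ := ne_bot_of_le_ne_bot (fun e => Fitting_ne_bot tM.sol (ne_bot_of_le_ne_bot
    (four_ne_bot h.V4) hV) ((center_nil_eq1 (Fitting_nil M)).1 e)) hK.zf
  have hKM := hK.le.trans (Fitting_sub M)
  have zj : ∀ {X R : Subgroup G}, ChF X → pF p X = ⊥ → IsSylowIn p R X → X ≤ 𝐍(ZJ.ZJ R) :=
    fun {X R} cX h1 hR => (ZJ_normal_two p2 h.two hR (eF X h1 ▸ cX)).nz
  have syl : ∀ {X R : Subgroup G}, V ≤ X → R ≤ X → R ≤ M → IsPGroup p R → V ≤ 𝐍(R) →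
      ∃ R1, IsSylowIn p R1 (M ⊓ X) ∧ V ≤ 𝐍(R1) ∧ R ≤ R1 := fun {X R} hVX h1 h2 pR nR => by
    obtain ⟨R1, h3, h4, h5⟩ := syl_inv (odd_of_le inf_le_left (odd_core M)) h.V2
      (normsI (hV.trans (pcore_norm _ M)) (normsG hVX)) (le_inf (tM.le h2 (odd_p p2 pR)) h1) pR nR
    exact ⟨R1, max_pgroup_Sylow (h3.le.trans (inf_le_inf_right _ (pcore_sub _ _))) h3.pgroup
      fun U h6 h7 h8 => (sub_Sylow h3 h8 h6 (le_inf (tM.le (h7.trans inf_le_left) (odd_p p2 h8))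
        (h7.trans inf_le_right))).le, h4, h5⟩
  have step : ∀ {X R : Subgroup G}, ChF X → pF p X = ⊥ → IsSylowIn p R (M ⊓ X) → 𝐍(ZJ.ZJ R) ≤ M →
      X ≤ M := fun {X R} cX h1 hR hn => (zj cX h1 (Sylow_of_norm_le hR (hR.le.trans inf_le_right)
    (le_inf (inf_le_right.trans ((ZJ.normalizer_le_normalizer_ZJ R).trans hn)) inf_le_left))).trans hn
  have key : ∀ R, K ≤ R → R ≤ M → IsPGroup p R → V ≤ 𝐍(R) → 𝐍(ZJ.ZJ R) ≤ M := fun R => by
    induction R using WellFoundedGT.induction with | _ R ih => ?_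
    intro h1 h2 pR nR
    have n1 := ZJ.normalizer_le_normalizer_ZJ R
    obtain ⟨R1, h3, h4, h5⟩ := syl (nR.trans n1) ((normG R).trans n1) h2 pR nR
    rcases h5.eq_or_lt with rfl | h6
    · exact h.toSm.norm_le hM (zj tM.chf h0 (Sylow_of_norm_le h3 h2 (inf_le_inf_left _ n1)))
        (solvableS ((ZJ.ZJ_le R).trans h2) tM.sol) (ZJ.ZJ_ne_bot pR (ne_bot_of_le_ne_bot K0 h1))
    have h7 := hZ R h1 h2 pR nR
    refine step (chf_of_sol (solvableS (inf_le_right.trans ((centS (pcore_sub_Fitting p _)).trans h7))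
      tM.sol)) (eq_bot_iff.2 (pF_le fun s hs hne => ?_)) h3
      (ih R1 h6 (h1.trans h5) (h3.le.trans inf_le_left) h3.pgroup h4)
    haveI := Fact.mk hs
    rw [← ben_a tM.chf hK (h1.trans ((normG R).trans n1)) (eq_bot_iff.2 ((core_le_pF hne M).trans h0.le))]
    exact le_inf le_rfl (((core_le_pF hne _).trans (pF_cent p _)).trans h7)
  obtain ⟨R1, h3, h4, h5⟩ := syl hVX hX hKM pK hKV
  exact step cX h1 h3 (key R1 h5 (h3.le.trans inf_le_left) h3.pgroup h4)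

theorem lemK [Fact p.Prime] (p2 : p ≠ 2) (hv : v ∈ V) (v1 : v ≠ 1) (hM : 𝐂[v] ≤ M) (hY : Y ≤ core {p} M)
    (hn : v ∈ 𝐍(Y)) (hX : X ≠ ⊤) (hV : V ≤ X) (hle : ⁅Y, zpowers v⁆ ≤ X) :
    ⁅Y, zpowers v⁆ ≤ core {p} X := by
  have h1 := h.l1 (Y := core {p} M ⊓ X) hX hV hv v1 inf_le_right
    (odd_of_le inf_le_left (odd_pcore p2 M)) (pgroup_sub inf_le_left (pcore_isPGroup p M))
    (normsI ((inf_le_right.trans hM).trans (pcore_norm _ M)) (normsG inf_le_left))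
  rw [← comm_id (odd_of_le hY (odd_pcore p2 M)) (h.V_sq hv) hn]
  exact (commSg _ (le_inf ((comm_le hn).trans hY) hle)).trans h1

theorem exists_good (hv : v ∈ V) (v1 : v ≠ 1) (hc : ¬ IsCoatom 𝐂[v]) (h0 : 𝐂[v] ≠ ⊤)
    (hT : ∀ M, 𝐂[v] ≤ M → M ≠ ⊤ → TN M ∧ ∃ R, IsSylowIn 2 R M ∧ R ≤ 𝐂[v]) : ∃ u M, Good V v u M := by
  have v2 := h.V_sq hv
  have hV := four_cent1 h.V4 hv
  let s : Set (Subgroup G) := {W | ∃ u M, u.Prime ∧ u ≠ 2 ∧ IsCoatom M ∧ 𝐂[v] ≤ M ∧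
    W = ⁅core {u} M, zpowers v⁆ ∧ W ≠ ⊥}
  have hs : ∃ W, W ∈ s := by
    obtain ⟨M, hM, hle⟩ := (eq_top_or_exists_le_coatom 𝐂[v]).resolve_left h0
    by_contra hs
    obtain ⟨tM, R, hR, hRv⟩ := hT M hle hM.1
    have h1 : zpowers v ≤ 𝐂(fit 𝐎(M)) := cents_Fitting_of_pcore fun u hu => by
      haveI := Fact.mk hu
      by_cases u2 : u = 2
      · rw [u2, core2_O, cent1T]; exact le_top
      by_contra hne
      rw [core_O u2] at hne
      exact hs ⟨_, u, M, hu, u2, hM, hle, rfl, fun e => hne (centsC.1 (commG1P.1 e))⟩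
    have h2 := cent_of_fit (odd_core M) v2 (pcore_norm _ M (hle (cent1id v))) (h1 (mem_zpowers v))
    exact hc (le_antisymm ((tM.sdprod hR).sup.ge.trans (sup_le h2 hRv)) hle ▸ hM)
  obtain ⟨W0, hW0⟩ := hs
  obtain ⟨W, -, hW⟩ := Finite.exists_le_maximal (p := (· ∈ s)) hW0
  obtain ⟨u, M, hu, u2, hM, hle, rfl, h1⟩ := hW.prop
  haveI := Fact.mk hu
  have hn := pcore_norm {u} M (hle (cent1id v))
  obtain ⟨L, hL, hNL⟩ := (eq_top_or_exists_le_coatom _).resolve_left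
    (h.toSm.ne_top_odd (odd_of_le (comm_le hn) (odd_pcore u2 M)) h1)
  have h2 : 𝐂[v] ≤ L := (normsR (hle.trans (pcore_norm _ M)) (cents_norm (cent_cycle v).ge)).trans hNL
  have h3 : ⁅core {u} M, zpowers v⁆ ≤ ⁅core {u} L, zpowers v⁆ := by
    rw [← comm_id (odd_pcore u2 M) v2 hn]
    exact commSg _ (h.lemK u2 hv v1 hle le_rfl hn hL.1 (hV.trans h2) ((normG _).trans hNL))
  have h4 := ne_bot_of_le_ne_bot h1 h3
  have h5 := le_antisymm h3 (hW.le_of_ge ⟨u, L, hu, u2, hL, h2, rfl, h4⟩ h3)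
  exact ⟨u, L, h.V4, hv, v1, hu, u2, hL, (hT L h2 hL.1).1, h2, h4, h5 ▸ hNL⟩

theorem eight (hc : Good V v u M) (hX : X ≠ ⊤) (h1 : fit M ≤ X) (hV : V ≤ X) : X ≤ M := by
  haveI := Fact.mk hc.prime
  have hn := pcore_norm {u} M (hc.hV hc.mem)
  have hW : ∀ {X : Subgroup G}, X ≠ ⊤ → fit M ≤ X → V ≤ X → 𝐂(core {u} X) ≤ M := fun hX h1 hV =>
    (centS (h.lemK hc.odd hc.mem hc.ne1 hc.le le_rfl hn hX hV
      ((comm_le hn).trans ((pcore_sub_Fitting u M).trans h1)))).trans ((cent_sub _).trans hc.nz)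
  obtain ⟨L, hL, hXL⟩ := (eq_top_or_exists_le_coatom _).resolve_left hX
  replace h1 := h1.trans hXL
  replace hV := hV.trans hXL
  have h2 := hW hL.1 h1 hV
  have h3 : pF u L ≤ M := (pF_cent u L).trans h2
  have cL := chf_of_sol (solvableS (inf_le_right.trans ((centS (pcore_sub_Fitting u L)).trans h2)) hc.tn.sol)
  refine hXL.trans ?_
  by_cases h0 : pF u M = ⊥
  · refine h.charp hc.odd hc.max hc.tn hc.hV h0 (scf_fit M) (hc.hV.trans (Fitting_norm M))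
      (fun R e1 e2 pR nR => hW (h.toSm.ne_top (solvableS ((ZJ.ZJ_le R).trans e2) hc.tn.sol) (ZJ.ZJ_ne_bot pR
        (ne_bot_of_le_ne_bot hc.core_ne ((pcore_sub_Fitting u M).trans e1))))
        (e1.trans ((normG R).trans (ZJ.normalizer_le_normalizer_ZJ R)))
        (nR.trans (ZJ.normalizer_le_normalizer_ZJ R))) h1 hV cL (eq_bot_iff.2 (pF_le fun s hs hne => ?_))
    haveI := Fact.mk hs
    rw [← ben_a hc.tn.chf (scf_fit M) h1 (eq_bot_iff.2 ((core_le_pF hne M).trans h0.le))]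
    exact le_inf le_rfl ((core_le_pF hne L).trans h3)
  · exact (h.toSm.ben_eq hc.max hL hc.tn.chf cL h1 (fit_le_of (h.toSm.ben_b' hc.max (scf_fit M) h1 hc.core_ne h0) h3)
      hc.core_ne h0).le

theorem eight' (hc : Good V v u M) (hY : Y ≤ M) (h0 : Y ≠ ⊥) (h1 : fit M ≤ 𝐍(Y)) (hV : V ≤ 𝐍(Y)) :
    𝐍(Y) ≤ M := h.eight hc (h.toSm.ne_top (solvableS hY hc.tn.sol) h0) h1 hV

theorem DI [hp : Fact p.Prime] (p2 : p ≠ 2) (hc : Good V v u M) (hL : IsCoatom L) (h0 : Y ≠ ⊥)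
    (hM : Y ≤ core {p} M) (hV : V ≤ 𝐍(Y)) (hN : 𝐍(Y) ≤ L) (pL : core {p} L ≠ ⊥) (hne : L ≠ M) :
    OB v p u M L := by
  haveI := Fact.mk hc.prime
  have hYF : Y ≤ fit M := hM.trans (pcore_sub_Fitting p M)
  have hK := scf_of hYF
  have hKL := (scf_le_norm M Y).trans hN
  have hVL := hV.trans hN
  have nle : ¬ L ≤ M := fun e => hne ((hL.le_iff.1 e).resolve_left hc.max.1).symm
  have pM := ne_bot_of_le_ne_bot h0 hM
  have g1 : pF p M ≤ L :=
    (le_inf (pcore_sub _ _) ((pF_cent p M).trans (centS hM))).trans (le_sup_right.trans hKL)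
  have h3 : ∀ r, r.Prime → r ≠ p → core {r} M = ⊥ ∨ core {r} L = ⊥ := by
    by_contra! h3
    obtain ⟨r, hr, hne, rM, rL⟩ := h3
    haveI := Fact.mk hr
    have e1 := h.toSm.ben_b' hc.max hK hKL pM (ne_bot_of_le_ne_bot rM (core_le_pF hne M))
    have e2 := h.toSm.ben_b' hc.max hK hKL rM (ne_bot_of_le_ne_bot pM (core_le_pF hne.symm M))
    have e3 : core {r} L ≤ core {p}ᶜ M := (pcore_max (pgroup_p'group (pcore_isPGroup r L) hne)
      (normalS (le_inf e2 ((core_le_pF hne L).trans (pF_cent p L))) (inf_le_right.trans ((cent_sub _).trans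
        (h.toSm.norm_eq hL (pcore_normal _ L) (sol_core p L) pL).le)) (pcore_normal _ L))).trans
      (BG1P.p'core_cent_pgroup e1 (pcore_isPGroup p L) hc.tn.sol)
    exact nle (h.eight hc hL.1 (fit_le_of (((pcore_cent_p'core _ M).trans (centS e3)).trans
      ((cent_sub _).trans (h.toSm.norm_eq hL (pcore_normal _ L) (sol_core r L) rL).le)) g1) hVL)
  have ti : pF p L ⊓ M = ⊥ := by
    refine eq_bot_iff.2 (nilpotent_le_of_pcore_le (nilpotentS inf_le_left (pF_nil p L)) fun r hr hd => ?_)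
    haveI := Fact.mk hr
    have hne : r ≠ p := ((pcore_pgroup {p}ᶜ (fit L)).inf_left M).mem hr hd
    have h4 : core {r} (pF p L ⊓ M) ≤ core {r} L :=
      sub_Fitting_pcore ((pcore_sub _ _).trans (inf_le_left.trans (pcore_sub _ _))) (pcore_pgroup _ _)
    rcases h3 r hr hne with e | e
    · rw [← ben_a hc.tn.chf hK hKL e]
      exact le_inf h4 ((pcore_sub _ _).trans inf_le_right)
    · exact h4.trans e.le
  have ne : ChF L → pF p L ≠ ⊥ := fun cL h1 => by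
    by_cases h2 : pF p M = ⊥
    · refine nle (h.charp p2 hc.max hc.tn hc.hV h2 hK (normsY hV (norms_subcent (hc.hV.trans (Fitting_norm M)) hV))
        (fun R e1 e2 pR nR => ?_) hKL hVL cL h1)
      have hZ := (zp_cent p M).trans (hK.zf.trans e1)
      have n0 := (pcore_normal {p} M).center.nz
      refine (centS (le_trans (inf_le_right.trans (ZJ.Zc_le_ZJ R)) (pcore_max (piG_of_isPGroup
        (pgroup_sub (ZJ.ZJ_le R) pR)) ⟨normG _, le_rfl⟩))).trans ((cent_sub _).trans (h.eight' hc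
          (Y := 𝐙(core {p} M) ⊓ 𝐙(R)) (inf_le_right.trans (inf_le_left.trans e2))
          (meet_center_pgroup pR ⟨hZ, e2.trans n0⟩ (center_pgroup_ne_bot (pcore_isPGroup p M) pM))
          (cents_norm (centsC.1 (inf_le_left.trans ((zp_cent p M).trans inf_le_right))))
          (normsI (hc.hV.trans n0) (norms_center nR))))
    · have e1 := fit_le_of (h.toSm.ben_b' hc.max hK hKL pM h2) (h1.le.trans bot_le)
      refine h2 (eq_bot_iff.2 (pF_le fun s hs hne => ?_))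
      haveI := Fact.mk hs
      rw [← ben_a cL (scf_fit L) e1 (eq_bot_iff.2 ((core_le_pF hne L).trans h1.le))]
      exact le_inf le_rfl ((core_le_pF hne M).trans g1)
  have hn := pcore_norm {u} M (hc.hV hc.mem)
  have hW : ⁅core {u} M, zpowers v⁆ ≤ L → ⁅core {u} M, zpowers v⁆ ≤ core {u} L :=
    h.lemK hc.odd hc.mem hc.ne1 hc.le le_rfl hn hL.1 hVL
  have eq : u = p := by
    by_contra hu
    exact hc.ne (eq_bot_iff.2 ((hW ((comm_le hn).trans ((core_le_pF hu M).trans g1))).trans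
      ((h3 u hc.prime hu).resolve_left hc.core_ne).le))
  refine ⟨h3, ne, ti, g1, (zp_cent p M).trans (hK.zf.trans hKL), eq, fun e => ?_⟩
  subst eq
  have h2 : 𝐂(core {u} L) ≤ M := (centS (hW e)).trans ((cent_sub _).trans hc.nz)
  exact ne (chf_of_sol (solvableS (inf_le_right.trans ((centS (pcore_sub_Fitting u L)).trans h2)) hc.tn.sol))
    (by rw [← ti, inf_eq_left.2 ((pF_cent u L).trans h2)])

end Bn

end Cfsg.Agent.NR
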