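import Cfsg.Agent.Lib.NR.KC4

/-! Four-group case: the order formula for subgroups, index identities. -/

namespace Cfsg.Agent.NR

open Subgroup FT SF.GP SF.T TwoGrp GW

universe u

/-- the bounds given by the order formula -/
def OFStmt : Prop := ∀ (G : Type u) [Group G] [Finite G] (t s x : G), t * t = 1 → s * s = 1 → t ≠ 1 →
  s ≠ 1 → s ≠ t → t * s = s * t → ¬ 8 ∣ Nat.card G → x * t * x⁻¹ = s → x * s * x⁻¹ = t * s →
  (∀ N : Subgroup G, N.Normal → 𝐂[t] ≤ N → N = ⊤) →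
    55 * ((𝐎(𝐂[t]) ⊓ 𝐂[s]).relIndex 𝐎(𝐂[t])) ^ 2 ≤ 9 * 𝐂[t].index ∧
      𝐂[t].index ≤ 15 * ((𝐎(𝐂[t]) ⊓ 𝐂[s]).relIndex 𝐎(𝐂[t])) ^ 2

/-- a Sylow four-group `⟨t, s⟩` -/
structure F4 {G : Type*} [Group G] (t s : G) : Prop where
  tt : t * t = 1
  ss : s * s = 1
  t1 : t ≠ 1
  s1 : s ≠ 1
  st : s ≠ t
  cm : t * s = s * t
  h8 : ¬ 8 ∣ Nat.card G
  tn : TN 𝐂[t]

variable {G : Type u} [Group G] [Finite G] {t s n v y z : G} {X M : Subgroup G}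

namespace F4

variable (h : F4 t s)
include h

omit [Finite G] in
theorem sH : s ∈ 𝐂[t] := mem_cent1.2 h.cm.symm

omit [Finite G] in
theorem memV (hv : v ∈ zpowers t ⊔ zpowers s) : v = 1 ∨ v = t ∨ v = s ∨ v = t * s := by
  obtain ⟨a, ha, b, hb, rfl⟩ := (mem_join_norm (norms_cycle.2 (cent_sub _ (cent_cycle t ▸ h.sH)))).1 hv
  rcases mem_zp h.tt ha with rfl | rfl <;> rcases mem_zp h.ss hb with rfl | rfl <;> simp

theorem cardV : #|zpowers t ⊔ zpowers s| = 4 := by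
  have : Fact (Nat.Prime 2) := ⟨Nat.prime_two⟩
  rw [TI_cardMg (norms_cycle.2 (cent_sub _ (cent_cycle t ▸ h.sH))) (eq_bot_iff.2 fun a ha => by
    rcases mem_zp h.tt ha.1 with e | e
    · exact e
    rcases mem_zp h.ss ha.2 with e' | e'
    · exact e'
    exact absurd (e'.symm.trans e) h.st), card_cycle, card_cycle,
    orderOf_eq_prime (by rw [sq, h.tt]) h.t1, orderOf_eq_prime (by rw [sq, h.ss]) h.s1]

theorem sylV (ht : t ∈ X) (hs : s ∈ X) : IsSylowIn 2 (zpowers t ⊔ zpowers s) X := by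
  refine max_pgroup_Sylow (sup_le (zpowers_le.2 ht) (zpowers_le.2 hs))
    (pgroup_of_card (n := 2) h.cardV) fun R h1 _ h3 => (eq_of_le_card h1 ?_).ge
  obtain ⟨m, hm⟩ := card_pgroup h3
  rw [hm, h.cardV]
  refine Nat.pow_le_pow_right two_pos (show m ≤ 2 from ?_)
  by_contra hc
  exact h.h8 ((Nat.pow_dvd_pow 2 (show 3 ≤ m by omega)).trans (hm ▸ card_subgroup_dvd_card R))

theorem conj_inv (ht : t ∈ X) (hs : s ∈ X) (hv : v ∈ X) (v2 : v * v = 1) (v1 : v ≠ 1) :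
    ∃ g ∈ X, g * v * g⁻¹ = t ∨ g * v * g⁻¹ = s ∨ g * v * g⁻¹ = t * s := by
  obtain ⟨g, hg, e⟩ := Sylow_Jsub (h.sylV ht hs) (zpowers_le.2 hv) (pg_zp v2)
  rw [Tr.cj_zpowers, zpowers_le] at e
  exact ⟨g, hg, (h.memV e).resolve_left (by simpa using v1)⟩

theorem hH (X : Subgroup G) (h1 : 𝐎(𝐂[t]) ≤ X) (h2 : t ∈ X) (h3 : s ∈ X) : 𝐂[t] ≤ X :=
  (h.tn.sdprod (h.sylV (cent1id t) h.sH)).sup.ge.trans
    (sup_le h1 (sup_le (zpowers_le.2 h2) (zpowers_le.2 h3)))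

theorem O_inf (X : Subgroup G) : 𝐎(𝐂[t] ⊓ X) = 𝐎(𝐂[t]) ⊓ X := by
  rw [← h.tn.inf inf_le_left, ← inf_assoc, inf_eq_left.2 (pcore_sub _ _)]

theorem card_inf (ht : t ∈ X) (hs : s ∈ X) : #|𝐂[t] ⊓ X| = #|𝐎(𝐂[t]) ⊓ X| * 4 := by
  rw [← ((h.tn.sub inf_le_left).sdprod (h.sylV (X := 𝐂[t] ⊓ X) ⟨cent1id t, ht⟩ ⟨h.sH, hs⟩)).card,
    h.O_inf, h.cardV]

theorem rel_H (ht : t ∈ M) (hs : s ∈ M) : M.relIndex 𝐂[t] = M.relIndex 𝐎(𝐂[t]) := by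
  have e1 := h.card_inf (X := ⊤) trivial trivial
  rw [inf_top_eq, inf_top_eq, ← LagrangeI' 𝐂[t] M, ← LagrangeI' 𝐎(𝐂[t]) M, h.card_inf ht hs] at e1
  exact Nat.eq_of_mul_eq_mul_left (Nat.mul_pos (cardG_gt0 (𝐎(𝐂[t]) ⊓ M)) four_pos) (by rw [e1]; ring)

/-- `|G : M| g_M = g |U : U ∩ M|` -/
theorem idx (ht : t ∈ M) (hs : s ∈ M) :
    M.index * 𝐂[t].relIndex M = 𝐂[t].index * M.relIndex 𝐎(𝐂[t]) := by
  rw [← h.rel_H ht hs, mul_comm, ← indexgI, relIndex_mul_index inf_le_left, mul_comm, ← indexgI',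
    relIndex_mul_index inf_le_right]

omit h in
/-- `k |B : B ∩ M| = |U : U ∩ M| k_M` -/
theorem kk (U C M : Subgroup G) :
    C.relIndex U * M.relIndex (U ⊓ C) = M.relIndex U * C.relIndex (U ⊓ M) := by
  have e1 := LagrangeI' U C
  have e2 := LagrangeI' U M
  have e3 := LagrangeI' (U ⊓ C) M
  have e4 := LagrangeI' (U ⊓ M) C
  rw [inf_right_comm] at e4
  refine Nat.eq_of_mul_eq_mul_left (cardG_gt0 (U ⊓ C ⊓ M)) ?_
  calc _ = #|U ⊓ C ⊓ M| * M.relIndex (U ⊓ C) * C.relIndex U := by ring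
    _ = #|U ⊓ C ⊓ M| * C.relIndex (U ⊓ M) * M.relIndex U := by rw [e3, e4, e1, e2]
    _ = _ := by ring

/-- the only involution centralizing `z` is `t` -/
theorem eq_t (oz : Odd (orderOf z)) (z1 : z ≠ 1) (iz : Iv s z) (hz : z ∈ 𝐂[t])
    (n1 : 𝐍(zpowers z) = 𝐂[t]) (hv : v ∈ 𝐂[z]) (v2 : v * v = 1) (v1 : v ≠ 1) : v = t := by
  have vH : v ∈ 𝐂[t] := n1 ▸ cent_sub _ (cent_cycle z ▸ hv)
  obtain ⟨g, hg, e⟩ := h.conj_inv (cent1id t) h.sH vH v2 v1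
  have h1 : g * z * g⁻¹ ∈ zpowers z := (memJ_norm (n1 ▸ hg)).2 (mem_zpowers z)
  have h2 : g * v * g⁻¹ ∈ 𝐂[g * z * g⁻¹] := by rw [cent1J]; exact Tr.conj_mem_cj.2 hv
  have h3 : ∀ c, Iv c z → g * v * g⁻¹ ≠ c := fun c hc e => z1 (by
    simpa using (hc.zp h1).eq_one (by rwa [ord_conj]) (e ▸ h2))
  rcases e with e | e | e
  · rw [← cent1_conj.1 (inv_mem hg), ← e]; group
  · exact absurd e (h3 _ iz)
  · exact absurd e (h3 _ (iz.mul_cent (cent1C.1 hz)))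

theorem of_sub (OF : OFStmt.{u}) (ht : t ∈ X) (hs : s ∈ X) (hn : n ∈ X) (nt : n * t * n⁻¹ = s)
    (ns : n * s * n⁻¹ = t * s) (hR : ∀ N : Subgroup G, t ∈ N → s ∈ N → X ≤ 𝐍(N) → n ∈ N) :
    55 * (𝐂[s].relIndex (𝐎(𝐂[t]) ⊓ X)) ^ 2 ≤ 9 * 𝐂[t].relIndex X ∧
      𝐂[t].relIndex X ≤ 15 * (𝐂[s].relIndex (𝐎(𝐂[t]) ⊓ X)) ^ 2 := by
  have := OF X ⟨t, ht⟩ ⟨s, hs⟩ ⟨n, hn⟩ (Subtype.ext h.tt) (Subtype.ext h.ss)
    (fun e => h.t1 (congrArg Subtype.val e)) (fun e => h.s1 (congrArg Subtype.val e))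
    (fun e => h.st (congrArg Subtype.val e)) (Subtype.ext h.cm)
    (fun e => h.h8 (e.trans (card_subgroup_dvd_card X))) (Subtype.ext nt) (Subtype.ext ns) fun N hN hC => by
      have h1 : ∀ a (ha : a ∈ X), a ∈ 𝐂[t] → a ∈ N.map X.subtype := fun a ha e =>
        ⟨⟨a, ha⟩, hC (mem_cent1.2 (Subtype.ext (mem_cent1.1 e))), rfl⟩
      have h2 := nrm_map_subtype N
      have h3 := hR _ (h1 t ht (cent1id t)) (h1 s hs h.sH) h2.nz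
      refine eq_top_iff.2 fun x _ => ?_
      obtain ⟨g, hg, e⟩ := h.conj_inv (h1 t ht (cent1id t)) (h1 s hs h.sH)
        ((memJ_norm (h2.nz x.2)).2 (h1 t ht (cent1id t))) (sq_conj.2 h.tt) (by simpa using h.t1)
      obtain ⟨g', hg', e'⟩ : ∃ g' ∈ N.map X.subtype, g' * x * t * (g' * x)⁻¹ = t := by
        rcases e with e | e | e
        · exact ⟨g, hg, by rw [← e]; nth_rw 1 [e]; group⟩
        · refine ⟨n⁻¹ * g, mul_mem (inv_mem h3) hg, ?_⟩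
          rw [show n⁻¹ * g * x * t * (n⁻¹ * g * x)⁻¹ = n⁻¹ * (g * (x * t * (x : G)⁻¹) * g⁻¹) * n by group,
            e, ← nt]; group
        · refine ⟨n⁻¹ * n⁻¹ * g, mul_mem (mul_mem (inv_mem h3) (inv_mem h3)) hg, ?_⟩
          rw [show n⁻¹ * n⁻¹ * g * x * t * (n⁻¹ * n⁻¹ * g * x)⁻¹ =
            n⁻¹ * (n⁻¹ * (g * (x * t * (x : G)⁻¹) * g⁻¹) * n) * n by simp [mul_assoc], e, ← ns,
            show n⁻¹ * (n * s * n⁻¹) * n = s by group, ← nt]; group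
      obtain ⟨x', hx', e''⟩ := (mul_mem_cancel_left hg').1
        (h1 _ (mul_mem (h2.le hg') x.2) (cent1_conj.2 e'))
      exact (Subtype.ext e'' : x' = x) ▸ hx'
  rwa [PG.PT.cent1_sub, PG.PT.cent1_sub, inf_relIndex_left, ← inf_subgroupOf_right 𝐂[t],
    pcore_subgroupOf _ inf_le_right, h.O_inf, PG.PT.rel_sub, inf_assoc, inf_idem, inf_subgroupOf_right] at this

end F4

end Cfsg.Agent.NR
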