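import Cfsg.Agent.Lib.NR.KAl
import Cfsg.Agent.Lib.NR.KB1c
import Cfsg.Agent.Lib.NR.KDefs
import Cfsg.Agent.Lib.NR.KCh3

/-! Four-group case: the order formula for subgroups and step (4). -/

namespace Cfsg.Agent.NR

open Subgroup FT SF.GP SF.T TwoGrp GW

universe u

theorem ofStmt : OFStmt.{u} := fun _ _ _ _ _ _ tt ss t1 s1 st cm h8 xt xs hN =>
  of_bound tt ss t1 s1 st cm h8 xt xs hN

theorem K4.f4 {G : Type u} [Group G] [Finite G] (P : K4 G) : F4 P.t P.s :=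
  ⟨P.tt, P.ss, P.t1, P.s1, P.st, P.cm, P.h8, P.tnH⟩

theorem kof : KOFStmt.{u} := fun _ _ _ P _ h => by
  obtain ⟨g, hg, e⟩ := h.2
  exact P.f4.of_sub ofStmt (h.1 P.tV) (h.1 P.sV) (h.EX hg) e.1 e.2 fun _ h1 _ h3 => P.E_min h1 h3 hg

/-- configuration (beta2) does not occur -/
def B2Stmt : Prop := ∀ (G : Type u) [Group G] [Finite G] (P : K4 G), P.Mn → IsCoatom 𝐂[P.t] → P.OF →
  ∀ (p : ℕ) (N : Subgroup G) (y x z : G), p.Prime → P.Rot 𝐂[y] → P.V ≤ 𝐂(𝐎(𝐂[y])) →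
    Beta2 P.t P.s p N y x z → False

theorem kstep4_of (b2 : B2Stmt.{u}) : KStep4Stmt.{u} := fun G _ _ P m co OF r1 r2 r hr => by
  have := Fact.mk hr
  have := m.simple
  by_contra h0
  have sH := P.f4.sH
  have sU := P.V_nU P.sV
  have nR : 𝐂[P.t] ≤ 𝐍(core {r} P.U) := norms_pcore _ P.U_nrm.nz
  have hW : 𝐂[P.t] ≤ 𝐍(P.W ⊔ zpowers P.s) ⊓ 𝐍(P.W) := P.f4.hH _ (le_inf
    (le_of_comm P.oddU P.ss sU (normsG le_sup_left) (normsY (inf_le_left.trans (commg_norml _ _))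
      (cents_norm (inf_le_right.trans (cent_cycle _).ge)))) (commg_norml _ _))
    ⟨cent_sub _ (sub_cent1.1 (sup_le ((comm_le sU).trans P.U_le) (zpowers_le.2 sH))),
      cent_sub _ (sub_cent1.1 ((comm_le sU).trans P.U_le))⟩
    ⟨normG _ (mem_sup_right (mem_zpowers _)), commg_normr _ _ (mem_zpowers _)⟩
  have DR : P.D r ≤ core {r} P.U :=
    commg_subl.2 ((sup_le ((comm_le sU).trans P.U_le) (zpowers_le.2 sH)).trans nR)
  have nD : 𝐂[P.t] ≤ 𝐍(P.D r) := normsR nR (hW.trans inf_le_left)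
  have RU : core {r} P.U ≤ P.U := pcore_sub _ _
  have DW : P.D r ≤ P.W := SF.GP.comm_le_of_le_cmod fun a ha =>
    ⟨(hW (P.U_le (RU ha))).2, fun b hb => SF.GP.comm_mem_symm ((sup_le
      (SF.GP.self_le_cmod (s := {a}) fun c hc => hc ▸ (hW (P.U_le (RU ha))).2)
      (zpowers_le.2 ⟨(hW sH).2, fun c hc => hc ▸ SF.GP.comm_mem_symm (mem_commg (RU ha) (mem_zpowers _))⟩) hb).2
        a rfl)⟩
  have T0 : P.T r ≠ ⊥ := fun e => h0 (by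
    have h1 : P.s ∈ 𝐂(core {r} P.U) := sub_cent1.1 (comm_bot.1 e)
    have h2 : P.D r = ⊥ := commG1P.2 (centsC.1 (sup_le ((commgS _ (zpowers_le.2 h1)).trans
      (commg_subr.2 (norms_cent (P.U_le.trans nR)))) (zpowers_le.2 h1)))
    rw [h2, bot_inf_eq])
  have r2' : r ≠ 2 := by
    rintro rfl
    exact h0 (eq_bot_iff.2 fun x hx => eq_one_of_odd P.oddU (pcore_isPGroup 2 _) (RU (DR hx.1)) (DR hx.1))
  have DB : P.D r ⊓ 𝐂[P.s] ≤ core {r} P.U ⊓ P.B :=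
    le_inf (inf_le_left.trans DR) (inf_le_inf_right _ (DR.trans RU))
  have h1 : P.D r ⊓ 𝐂[P.s] ≠ ⊥ := ne_bot_of_le_ne_bot h0 (inf_le_inf_left _ inf_le_right)
  have R0 := r2 r hr T0 _ h1 DB (normsI (P.B_U.trans (P.U_le.trans nD)) (norms_cent1 inf_le_right))
  have Ry : ∀ y ∈ P.D r ⊓ 𝐂[P.s], P.Rot 𝐂[y] := fun y hy => R0.mono (cent_le_cent1 hy)
  have nt : ∀ X : Subgroup G, X ≠ ⊥ → X ≤ 𝐂[P.t] → 𝐍(X) ≠ ⊤ := fun X h1 h2 e =>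
    co.1 (top_le_iff.1 (((normalizer_eq_top_iff.1 e).eq_bot_or_eq_top.resolve_left h1).ge.trans h2))
  have ne : ∀ X : Subgroup G, X ≠ ⊥ → X ≤ 𝐂[P.t] → 𝐂[P.t] ≤ 𝐍(X) → 𝐍(X) = 𝐂[P.t] := fun X h1 h2 h3 =>
    (co.le_iff.1 h3).resolve_left (nt X h1 h2)
  have DH := DR.trans (RU.trans P.U_le)
  rcases red4 r2' P.ss sH P.f4.hH (pgroup_sub DR (pcore_isPGroup r _)) DW nD h1
    (fun y hy y1 Q h2 h3 h4 => m.cyc _ Q (fun e => nt (zpowers y) (mt zpowers_eq_bot.1 y1)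
      (zpowers_le.2 (DH hy.1)) (top_le_iff.1 (e.ge.trans ((cent_cycle y).ge.trans (cent_sub _)))))
      (Ry y hy) (r1 r hr y (DB hy) y1 (Ry y hy)) h2 h3 (le_antisymm (comm_le h3) h4))
    (fun Y h2 h3 h4 => by
      obtain ⟨g, hg, e⟩ := R0.2
      exact e.ncent P.tV P.t1 (ne Y h3 (h2.trans (inf_le_left.trans DH)) h4 ▸
        cent_sub _ (centS h2 (R0.EX hg)))) with
    ⟨Y, y, z, h2, a⟩ | ⟨N, y, x, h2, a⟩ | ⟨N, y, x, z, h2, a⟩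
  · have h3 := R0.mono (centS (le_inf h2 a.Ys))
    obtain ⟨g, hg, e⟩ := h3.2
    exact a.false P.f4 ofStmt (ne _ (mt zpowers_eq_bot.1 fun e => hr.ne_one (by rw [← a.oz, e, orderOf_one]))
      (zpowers_le.2 (P.U_le a.zU)) a.nz) (h3.EX hg) e.1 e.2 fun _ h1 _ h3 => P.E_min h1 h3 hg
  · have hy : y ∈ N ⊓ 𝐂[P.s] := a.Y ▸ mem_zpowers y
    have h3 := Ry y ⟨h2 hy.1, hy.2⟩
    obtain ⟨g, hg, e⟩ := h3.2
    exact a.false P.f4 ofStmt (ne _ (fun e => hr.ne_one (by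
      rw [← a.ox, mem_bot.1 (e.le a.xN), orderOf_one])) (h2.trans DH) a.nN) (h3.EX hg) e.1 e.2
      fun _ h1 _ h3 => P.E_min h1 h3 hg
  · have hy : y ∈ N ⊓ 𝐂[P.s] := a.Y ▸ mem_zpowers y
    have h3 := Ry y ⟨h2 hy.1, hy.2⟩
    exact b2 G P m co OF r N y x z hr h3 (r1 r hr y (DB ⟨h2 hy.1, hy.2⟩)
      (fun e => hr.ne_one (by rw [← a.oy, e, orderOf_one])) h3) a

end Cfsg.Agent.NR
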