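import Cfsg.Agent.Lib.NR.SE
import Cfsg.Agent.Lib.ZD.Main
import Cfsg.Agent.Lib.GO.Main
import Cfsg.Agent.Lib.SC.Fin
import Cfsg.Agent.Lib.ST.Struct

/-!
# The case split for simple groups without real elements of order three
-/

set_option autoImplicit false
set_option linter.unusedVariables false
set_option linter.unusedSectionVars false

namespace Cfsg.Agent.NR

open Subgroup Cfsg Cfsg.Agent.FT Cfsg.Agent.SF Cfsg.Agent.SF.GP Cfsg.Agent.SC Cfsg.Agent.GO
open Cfsg.Agent.Tr (SylowIn)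
open scoped MatrixGroups

universe u

/-- The case of a four-group as Sylow 2-subgroup. -/
def K4Stmt : Prop :=
  ∀ (G : Type u) [Group G] [Finite G] [IsSimpleGroup G], SimpleLe.{u} (Nat.card G - 1) → NoReal G →
    (∀ H : Subgroup G, ¬ IsStronglyEmbedded H) → ∀ t s x : G, t * t = 1 → s * s = 1 → t ≠ 1 →
    s ≠ 1 → s ≠ t → t * s = s * t → ¬ 8 ∣ Nat.card G → x * t * x⁻¹ = s → x * s * x⁻¹ = t * s →
    ∃ (F : Type) (_ : Field F) (_ : Finite F), Nonempty (G ≃* PSL(2, F))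

/-- The case of an elementary abelian Sylow 2-subgroup of order at least eight. -/
def R8Stmt : Prop :=
  ∀ (G : Type u) [Group G] [Finite G] [IsSimpleGroup G], SimpleLe.{u} (Nat.card G - 1) → NoReal G →
    (∀ H : Subgroup G, ¬ IsStronglyEmbedded H) → ∀ (T : Set G) (E : Subgroup G), Sce T E →
    SylowIn 2 E ⊤ → Trs ⊤ E → 8 ≤ #|E| → False

variable {G : Type u} [Group G] [Finite G]

theorem NoReal.three (h : NoReal G) : ST.NoReal3 G :=
  fun x s h1 h2 => h.eq_one 1 (by rwa [pow_one]) h2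

theorem cent_top_bot [IsSimpleGroup G] (hc : ¬ IsMulCommutative G) : 𝐂((⊤ : Subgroup G)) = ⊥ :=
  (norm_eq_top_iff.1 (top_le_iff.1 ((normG ⊤).trans
    (cent_norm (⊤ : Subgroup G))))).eq_bot_or_eq_top.resolve_right fun e =>
      hc ⟨⟨fun a b => mem_cent.1 (e.ge (mem_top b)) a (mem_top a)⟩⟩

/-- A simple group without real elements of order three and without a strongly embedded subgroup
has an elementary abelian Sylow 2-subgroup whose normalizer is transitive on its involutions. -/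
theorem exists_sce [IsSimpleGroup G] (h : NoReal G) (hc : ¬ IsMulCommutative G)
    (hse : ∀ H : Subgroup G, ¬ IsStronglyEmbedded H) :
    ∃ (T : Set G) (E : Subgroup G), Sce T E ∧ SylowIn 2 E ⊤ ∧ Trs ⊤ E ∧ 4 ≤ #|E| := by
  obtain ⟨S⟩ : Nonempty (Sylow 2 G) := inferInstance
  have h0 : (S : Subgroup G) ≠ ⊥ := fun e => by
    have h1 := S.not_dvd_index
    rw [e, index_bot] at h1
    have := oddOrder G (Nat.odd_iff.2 (by omega))
    exact hc ⟨⟨IsSimpleGroup.comm_iff_isSolvable.2 this⟩⟩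
  have h1 := ST.Fu.all_mod ST.grpStmt.{u} (ST.strStmt BS.bender) (Nat.card G)
  have h2 := ST.grpStmt.{u} _ (ST.Mod.f1i h1.1) h1.2.2
  obtain ⟨A, hA, a⟩ := ST.Fu.sc h2.1 h2.2 G ⟨h.three, fun P _ =>
    (card_le_card_group P).trans (Nat.le_succ _)⟩ S (SylowIn.top S) h0
  have e : Sce (cl A) A := ⟨scl_of_sc (S := S) ⟨hA, a.sc S S.isPGroup' hA⟩, fun t ⟨g, ht⟩ => by
    have := a.ea _ ht
    rwa [show g * t * g⁻¹ * (g * t * g⁻¹) = g * (t * t) * g⁻¹ by group, conj_eq_one_iff] at this⟩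
  obtain ⟨m, tr⟩ := (gn (SC.thmQ ZD.s1174) ZD.s1174 _ G _ _ (Nat.lt_succ_self _) e a.ne).resolve_right
    fun ⟨H, hH⟩ => hse H hH
  have : IsSimpleGroup (⊤ : Subgroup G) := topEquiv.isSimpleGroup
  exact ⟨_, A, e, Tr.sylowIn_of_maximal e.two le_top fun Q hQ h3 h4 => le_antisymm (m Q hQ h3 h4) h3,
    tr, four_card (cent_top_bot hc) e le_top a.ne⟩

theorem exists_rot {T : Set G} {E : Subgroup G} (e : Sce T E) (tr : Trs ⊤ E) (h4 : #|E| = 4) :
    ∃ t ∈ E, ∃ s ∈ E, ∃ x : G, t ≠ 1 ∧ s ≠ 1 ∧ s ≠ t ∧ x * t * x⁻¹ = s ∧ x * s * x⁻¹ = t * s := by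
  classical
  have k : IsKleinFour E := four_of_abelem e.elem h4
  have := Fintype.ofFinite E
  obtain ⟨t, t1⟩ : ∃ t : E, t ≠ 1 := by
    have : Nontrivial E := Finite.one_lt_card_iff_nontrivial.1 (by omega)
    exact exists_ne 1
  obtain ⟨s, s1, st⟩ : ∃ s : E, s ≠ 1 ∧ s ≠ t := by
    by_contra hc
    push Not at hc
    have : Nat.card E ≤ Nat.card (Fin 2) := Nat.card_le_card_of_injective
      (fun a : E => if a = 1 then (0 : Fin 2) else 1) fun a b hab => by
        by_cases ha : a = 1 <;> by_cases hb : b = 1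
        · rw [ha, hb]
        · simp [ha, hb] at hab
        · simp [ha, hb] at hab
        · rw [hc a ha, hc b hb]
    rw [h4] at this; simp at this
  have t1' : (t : G) ≠ 1 := fun h => t1 (Subtype.ext h)
  have s1' : (s : G) ≠ 1 := fun h => s1 (Subtype.ext h)
  have st' : (s : G) ≠ t := fun h => st (Subtype.ext h)
  have all : ∀ a ∈ E, a ≠ 1 → a ≠ t → a ≠ s → a = t * s := fun a ha a1 h1 h2 =>
    congrArg Subtype.val (IsKleinFour.eq_mul_of_ne_all (z := (⟨a, ha⟩ : E)) t1 s1 st.symm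
      (fun h => a1 (congrArg Subtype.val h)) (fun h => h1 (congrArg Subtype.val h))
      fun h => h2 (congrArg Subtype.val h))
  have tt := e.ee t.2
  have ss := e.ee s.2
  have cm := e.comm t.2 s.2
  have ts1 : (t * s : G) ≠ 1 := fun h => st' (by rw [eq_inv_of_mul_eq_one_right h, e.inv t.2])
  have inj : ∀ {n a b : G}, n * a * n⁻¹ = n * b * n⁻¹ → a = b := fun h => by simpa using h
  obtain ⟨n, -, hn, e1⟩ := tr t t.2 t1' s s.2 s1'
  by_cases c1 : n * s * n⁻¹ = t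
  swap
  · exact ⟨t, t.2, s, s.2, n, t1', s1', st', e1, all _ ((memJ_norm hn).2 s.2)
      (mt conj_eq_one_iff.1 s1') c1 fun h => st' (inj (h.trans e1.symm))⟩
  obtain ⟨m, -, hm, e2⟩ := tr s s.2 s1' (t * s) (mul_mem t.2 s.2) ts1
  by_cases c2 : m * t * m⁻¹ = s
  · exact ⟨t, t.2, s, s.2, m, t1', s1', st', c2, e2⟩
  have c3 : m * t * m⁻¹ = t := by
    by_contra c3
    exact st' (inj (e2.trans (all _ ((memJ_norm hm).2 t.2) (mt conj_eq_one_iff.1 t1') c3 c2).symm))
  refine ⟨t, t.2, s, s.2, n * m, t1', s1', st', ?_, ?_⟩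
  · rw [show n * m * t * (n * m)⁻¹ = n * (m * t * m⁻¹) * n⁻¹ by group, c3, e1]
  · rw [show n * m * s * (n * m)⁻¹ = n * (m * s * m⁻¹) * n⁻¹ by group, e2,
      show n * (t * s) * n⁻¹ = n * t * n⁻¹ * (n * s * n⁻¹) by group, e1, c1, cm]

theorem step_of (h4 : K4Stmt.{u}) (h8 : R8Stmt.{u}) : StepStmt.{u} := fun G _ _ _ ih h h3 hc => by
  obtain ⟨T, E, e, hS, tr, le⟩ := exists_sce h hc (h.not_se h3)
  rcases le.eq_or_lt with e4 | lt
  · obtain ⟨t, ht, s, hs, x, t1, s1, st, x1, x2⟩ := exists_rot e tr e4.symm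
    refine h4 G ih h (h.not_se h3) t s x (e.ee ht) (e.ee hs) t1 s1 st (e.comm ht hs) (fun h8 => ?_) x1 x2
    have h1 := hS.not_dvd
    rw [relIndex_top_right] at h1
    rw [← E.card_mul_index, ← e4] at h8
    omega
  · refine (h8 G ih h (h.not_se h3) T E e hS tr ?_).elim
    obtain ⟨j, hj⟩ := card_pgroup e.two
    rw [hj] at lt ⊢
    exact Nat.pow_le_pow_right (i := 3) two_pos ((Nat.pow_lt_pow_iff_right one_lt_two (n := 2)).1 lt)

end Cfsg.Agent.NR
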