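import Cfsg.Agent.Lib.NR.KLoc
import Cfsg.Agent.Lib.NR.KS4
import Cfsg.Agent.Lib.NR.KB2
import Cfsg.Agent.Lib.NR.KB1
import Cfsg.Agent.Lib.NR.KC2
import Cfsg.Agent.Lib.NR.KFin2
import Cfsg.Agent.Lib.NR.Split

/-! The four-group case. -/

namespace Cfsg.Agent.NR

open Subgroup FT

universe u

theorem kz_b2 : B2Stmt.{u} := fun _ _ _ _ m hc hO _ _ y _ _ pp rot hV b =>
  K4.beta2 m.simple m.nr hc hO pp b rot fun Y => m.oc _ Y (fun e => m.sm.ne_top (X := zpowers y)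
    inferInstance (fun e' => pp.one_lt.ne' (by rw [← b.oy, zpowers_eq_bot.1 e', orderOf_one]))
    (top_le_iff.1 ((e.symm.trans (cent_cycle y).symm).le.trans (cent_sub _)))) rot hV

theorem k4z : K4Stmt.{u} := fun G _ _ _ hS hn hse t s x tt ss t1 s1 st cm h8 xt xs =>
  kall kloc kmax kof k12 (kstep4_of kz_b2) k5 kb1 kfin G ⟨t, s, x, tt, ss, t1, s1, st, cm, h8, xt, xs⟩
    hS hn fun ⟨H, h⟩ => hse H h

end Cfsg.Agent.NR
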