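import Cfsg.Agent.Lib.NR.Psl

/-!
# `PSL₂(F)` without real elements of order three; central extensions by 3-groups
-/

set_option autoImplicit false

namespace Cfsg.Agent.NR

open Subgroup Solv Matrix
open scoped MatrixGroups Pointwise commutatorElement

variable {F : Type*} [Field F] {L : Type*} [Group L]

theorem comm_congr {G : Type*} [Group G] (π : L →* G) (hk : π.ker ≤ center L) {g g' h h' : L}
    (h1 : π g = π g') (h2 : π h = π h') : ⁅g, h⁆ = ⁅g', h'⁆ := by
  have e1 : g⁻¹ * g' ∈ center L := hk (by rw [MonoidHom.mem_ker, map_mul, map_inv, h1, inv_mul_cancel])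
  have e2 : h⁻¹ * h' ∈ center L := hk (by rw [MonoidHom.mem_ker, map_mul, map_inv, h2, inv_mul_cancel])
  obtain ⟨z, hz, rfl⟩ : ∃ z ∈ center L, g' = g * z := ⟨_, e1, by group⟩
  obtain ⟨w, hw, rfl⟩ : ∃ z ∈ center L, h' = h * z := ⟨_, e2, by group⟩
  have a1 := mem_center_iff.1 hz (h * w)
  have a2 := mem_center_iff.1 hw g⁻¹
  rw [commutatorElement_def, commutatorElement_def]
  calc g * h * g⁻¹ * h⁻¹ = g * h * (g⁻¹ * w) * w⁻¹ * h⁻¹ := by group
    _ = g * (h * w * z) * z⁻¹ * g⁻¹ * w⁻¹ * h⁻¹ := by rw [a2]; group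
    _ = _ := by rw [a1]; group

theorem sq_or_neg_sq [Finite F] (hs : ¬ IsSquare (-1 : F)) {t : F} (ht : t ≠ 0) :
    IsSquare t ∨ IsSquare (-t) := by
  classical
  have := Fintype.ofFinite F
  by_cases h : IsSquare t
  · exact Or.inl h
  · refine Or.inr ((quadraticChar_one_iff_isSquare (neg_ne_zero.2 ht)).1 ?_)
    rw [neg_eq_neg_one_mul, map_mul, quadraticChar_neg_one_iff_not_isSquare.2 hs,
      quadraticChar_neg_one_iff_not_isSquare.2 h]
    norm_num

theorem comm_of_central_ext [Finite F] (h3 : (3 : F) = 0) (hs : ¬ IsSquare (-1 : F))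
    (hb : ∃ b : F, b ≠ 0 ∧ b ≠ 1 ∧ b ≠ -1) (π : L →* PSL(2, F)) (hπ : Function.Surjective π)
    (hk : π.ker ≤ center L) {x y : L} (hx : π x ∈ U F) (hy : π y ∈ U F) : x * y = y * x := by
  choose s hs' using hπ
  set β : F → F → L := fun a b => ⁅s (u a), s (u b)⁆ with hβ
  have ind : ∀ {a b : F} {g h : L}, π g = u a → π h = u b → ⁅g, h⁆ = β a b :=
    fun h1 h2 => comm_congr π hk (by rw [hs', h1]) (by rw [hs', h2])
  have cen : ∀ a b, β a b ∈ center L := fun a b => hk (by
    rw [MonoidHom.mem_ker, hβ, map_commutatorElement, hs', hs', commutatorElement_eq_one_iff_mul_comm]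
    exact U_comm (u_mem a) (u_mem b))
  have add : ∀ a a' b, β (a + a') b = β a b * β a' b := fun a a' b => by
    rw [← ind (g := s (u a) * s (u a')) (h := s (u b)) (by rw [map_mul, hs', hs', u_add]) (hs' _),
      mem_center_iff.1 (cen a' b)]
    have e := mem_center_iff.1 (cen a' b) (s (u a))
    calc ⁅s (u a) * s (u a'), s (u b)⁆ = s (u a) * β a' b * (s (u a))⁻¹ * β a b := by
          simp only [hβ, commutatorElement_def]; group
      _ = _ := by rw [e, mul_inv_cancel_right]
  have inv : ∀ a b, β a b = (β b a)⁻¹ := fun a b => (commutatorElement_inv _ _).symm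
  have zero : ∀ b, β 0 b = 1 := fun b => by
    have := add 0 0 b
    rw [add_zero] at this
    exact mul_eq_left.1 this.symm
  have neg : ∀ a b, β (-a) b = (β a b)⁻¹ := fun a b =>
    eq_inv_of_mul_eq_one_left (by rw [← add, neg_add_cancel, zero])
  have add' : ∀ a b b', β a (b + b') = β a b * β a b' := fun a b b' => by
    rw [inv, add, _root_.mul_inv_rev, ← inv, ← inv, mem_center_iff.1 (cen a b)]
  have neg' : ∀ a b, β a (-b) = (β a b)⁻¹ := fun a b => by rw [inv a (-b), neg, inv a b]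
  have sq' : ∀ r : F, r ≠ 0 → ∀ a b, β (r * r * a) (r * r * b) = β a b := fun r hr a b => by
    have e : ∀ c, π (s (pr (hS r hr)) * s (u c) * (s (pr (hS r hr)))⁻¹) = u (r * r * c) := fun c => by
      rw [map_mul, map_mul, map_inv, hs', hs', conj_u rfl, ← sq]; rfl
    rw [← ind (e a) (e b), ← conjugate_commutatorElement]
    change _ * β a b * _ = _
    rw [mem_center_iff.1 (cen a b), mul_inv_cancel_right]
  have scale : ∀ t : F, t ≠ 0 → ∀ a b, β (t * a) (t * b) = β a b := fun t ht a b => by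
    rcases sq_or_neg_sq hs ht with ⟨r, hr⟩ | ⟨r, hr⟩
    · rw [hr]; exact sq' r (by rintro rfl; exact ht (by simpa using hr)) a b
    · rw [show t * a = r * r * (-a) by rw [← hr]; ring, show t * b = r * r * (-b) by rw [← hr]; ring,
        sq' r (by rintro rfl; exact ht (by simpa using hr)), neg, neg', inv_inv]
  have red : ∀ a : F, a ≠ 0 → ∀ y, β a y = β 1 (y / a) := fun a ha y => by
    rw [← scale a ha 1, mul_one, mul_div_cancel₀ _ ha]
  obtain ⟨b, b0, b1, b2⟩ := hb
  have b3 : 1 + b ≠ 0 := fun h => b2 (by linear_combination h)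
  have b4 : (b - 1) ^ 2 ≠ 0 := pow_ne_zero 2 (sub_ne_zero.2 b1)
  have one : ∀ z, β 1 z = 1 := fun z => by
    set y := z * (b * (1 + b)) / (b - 1) ^ 2 with hy
    have e1 := add 1 b y
    rw [red _ b3, red _ b0, ← add'] at e1
    have e2 : y + y / b = y / (1 + b) + z := by
      rw [hy]; field_simp
      linear_combination (z * b) * h3
    rw [e2, add'] at e1
    exact mul_eq_left.1 e1.symm
  obtain ⟨a, ha⟩ := mem_U.1 hx
  obtain ⟨c, hc⟩ := mem_U.1 hy
  rw [← commutatorElement_eq_one_iff_mul_comm, ind ha.symm hc.symm]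
  by_cases a0 : a = 0
  · rw [a0, zero]
  · rw [red a a0, one]

open scoped IsMulCommutative in
theorem ker_inf_commutator [Finite F] [Finite L] (h3 : (3 : F) = 0) (hs : ¬ IsSquare (-1 : F))
    (hb : ∃ b : F, b ≠ 0 ∧ b ≠ 1 ∧ b ≠ -1) (π : L →* PSL(2, F)) (hπ : Function.Surjective π)
    (hk : π.ker ≤ center L) (hp : IsPGroup 3 π.ker) {z : L} (hz : z ∈ π.ker)
    (hc : z ∈ commutator L) : z = 1 := by
  set P := (U F).comap π with hP
  have : IsMulCommutative P := ⟨⟨fun x y => Subtype.ext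
    (comm_of_central_ext h3 hs hb π hπ hk x.2 y.2)⟩⟩
  have h1 := MonoidHom.transfer_eq_pow (MonoidHom.id P) z (fun k g _ => by
    rw [mul_assoc, ← mem_center_iff.1 (pow_mem (hk hz) k) g, inv_mul_cancel_left])
  rw [MonoidHom.mem_ker.1 (Abelianization.commutator_subset_ker _ hc)] at h1
  have h2 : z ^ P.index = 1 := (congrArg Subtype.val h1).symm
  rw [hP, index_comap_of_surjective _ hπ] at h2
  obtain ⟨k, hk3⟩ := hp ⟨z, hz⟩
  have h4 : z ^ 3 ^ k = 1 := congrArg Subtype.val hk3
  rw [← orderOf_eq_one_iff]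
  exact Nat.eq_one_of_dvd_coprimes

    (Nat.Coprime.pow_left k ((Nat.Prime.coprime_iff_not_dvd Nat.prime_three).2 (not_dvd_index_U h3)))
    (orderOf_dvd_of_pow_eq_one h4) (orderOf_dvd_of_pow_eq_one h2)

/-- The element of order three. -/
def aS : SL(2, F) := ⟨!![0, -1; 1, -1], by simp [det_fin_two_of]⟩

theorem not_noReal_of_norm {x y : F} (h : x ^ 2 - x * y + y ^ 2 = -1) : ¬ NoReal PSL(2, F) := by
  intro hn
  have h3 : (aS : SL(2, F)) ^ 3 = 1 := Subtype.ext (by
    change (!![0, -1; 1, -1] : Matrix (Fin 2) (Fin 2) F) ^ 3 = 1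
    rw [pow_three, one_fin_two]; simp)
  have h1 : pr (aS : SL(2, F)) ≠ 1 := fun h => by
    obtain ⟨r, -, h1⟩ := pr_eq (A := 1) (B := (aS : SL(2, F))) (by rw [map_one]; exact h.symm)
    simpa [aS] using h1 1 0
  let g : SL(2, F) := ⟨!![y, x - y; x, -y], by rw [det_fin_two_of]; linear_combination -h⟩
  have h2 : aS * g * aS = g := Subtype.ext (by
    change (!![0, -1; 1, -1] * !![y, x - y; x, -y] * !![0, -1; 1, -1] : Matrix (Fin 2) (Fin 2) F) =
      !![y, x - y; x, -y]
    simp [sub_eq_add_neg])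
  refine h1 (hn.eq_one (n := pr g) 1 (by rw [pow_one, ← map_pow, h3, map_one]) ?_)
  rw [mul_inv_eq_iff_eq_mul, eq_inv_mul_iff_mul_eq, ← map_mul, ← map_mul, ← mul_assoc, h2]

theorem char_of_noReal [Finite F] (hn : NoReal PSL(2, F)) :
    (3 : F) = 0 ∧ ¬ IsSquare (-1 : F) := by
  classical
  have := Fintype.ofFinite F
  have hs : ¬ IsSquare (-1 : F) := by
    rintro ⟨r, hr⟩
    exact not_noReal_of_norm (x := r) (y := 0) (by linear_combination -hr) hn
  refine ⟨?_, hs⟩
  by_contra h3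
  have h2 : (2 : F) ≠ 0 := fun h2 => hs ⟨1, by linear_combination -h2⟩
  have hc : Fintype.card F % 2 = 1 := FiniteField.odd_card_of_char_ne_two (by
    intro h; apply h2
    have := ringChar.Nat.cast_ringChar (R := F)
    rw [h] at this; exact_mod_cast this)
  obtain ⟨a, b, hab⟩ := FiniteField.exists_root_sum_quadratic
    (f := (Polynomial.X ^ 2 : Polynomial F))
    (g := Polynomial.C 3 * Polynomial.X ^ 2 + Polynomial.C 4) (Polynomial.degree_X_pow 2)
    (by rw [Polynomial.degree_add_C (by rw [Polynomial.degree_C_mul_X_pow 2 h3]; norm_num),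
      Polynomial.degree_C_mul_X_pow 2 h3]; rfl) hc
  simp at hab
  refine not_noReal_of_norm (x := (a + b) / 2) (y := b) ?_ hn
  field_simp
  linear_combination hab

theorem map_center_equiv {G H : Type*} [Group G] [Group H] (e : G ≃* H) :
    (center G).map (e : G →* H) = center H := by
  ext y
  constructor
  · rintro ⟨x, hx, rfl⟩
    exact (centerCongr e ⟨x, hx⟩).2
  · intro hy
    exact ⟨e.symm y, (centerCongr e.symm ⟨y, hy⟩).2, e.apply_symm_apply y⟩

/-- Isomorphic fields have isomorphic projective special linear groups. -/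
def pslCongr {K : Type*} [Field K] (σ : F ≃+* K) : PSL(2, F) ≃* PSL(2, K) :=
  QuotientGroup.congr _ _ (MonoidHom.toMulEquiv (Matrix.SpecialLinearGroup.map (σ : F →+* K))
    (Matrix.SpecialLinearGroup.map (σ.symm : K →+* F))
    (by ext A i j; simp) (by ext A i j; simp)) (map_center_equiv _)

theorem exists_galois [Finite F] (h3 : (3 : F) = 0) (hs : ¬ IsSquare (-1 : F))
    (hb : ∃ b : F, b ≠ 0 ∧ b ≠ 1 ∧ b ≠ -1) :
    ∃ f, 1 ≤ f ∧ Nonempty (F ≃+* GaloisField 3 (2 * f + 1)) := by
  classical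
  have := Fintype.ofFinite F
  have : CharP F 3 := (CharP.charP_iff_prime_eq_zero Nat.prime_three).2 (by exact_mod_cast h3)
  obtain ⟨n, -, hn⟩ := FiniteField.card F 3
  have h4 : Fintype.card F % 4 = 3 := by
    by_contra h
    exact hs (FiniteField.isSquare_neg_one_iff.2 h)
  obtain ⟨f, hf⟩ : Odd (n : ℕ) := by
    rw [← Nat.not_even_iff_odd]
    rintro ⟨k, hk⟩
    rw [hn, hk, ← two_mul, pow_mul, Nat.pow_mod] at h4
    simp at h4
  have := Fintype.ofFinite (GaloisField 3 (2 * f + 1))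
  refine ⟨f, ?_, ⟨FiniteField.ringEquivOfCardEq ?_⟩⟩
  · by_contra h0
    obtain rfl : f = 0 := by omega
    obtain ⟨b, b0, b1, b2⟩ := hb
    have h5 := FiniteField.pow_card b
    rw [hn, hf] at h5
    have h6 : b * (b - 1) * (b + 1) = 0 := by linear_combination h5
    exact mul_ne_zero (mul_ne_zero b0 (sub_ne_zero.2 b1)) (fun h => b2 (by linear_combination h)) h6
  · rw [hn, hf, ← Nat.card_eq_fintype_card, GaloisField.card 3 _ (by omega)]

theorem galois_facts (f : ℕ) : (3 : GaloisField 3 (2 * f + 1)) = 0 ∧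
    ¬ IsSquare (-1 : GaloisField 3 (2 * f + 1)) := by
  have := Fintype.ofFinite (GaloisField 3 (2 * f + 1))
  refine ⟨by exact_mod_cast CharP.cast_eq_zero (GaloisField 3 (2 * f + 1)) 3, ?_⟩
  rw [FiniteField.isSquare_neg_one_iff, ← Nat.card_eq_fintype_card, GaloisField.card 3 _ (by omega),
    pow_succ, pow_mul, Nat.mul_mod, Nat.pow_mod]
  simp

/-- A simple nonabelian `PSL₂(F)` in characteristic three has more than three field elements. -/
theorem exists_fourth [Finite F] (hn : NoReal PSL(2, F)) [IsSimpleGroup PSL(2, F)]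
    (hc : ¬ IsMulCommutative PSL(2, F)) : ∃ b : F, b ≠ 0 ∧ b ≠ 1 ∧ b ≠ -1 := by
  obtain ⟨h3, hs⟩ := char_of_noReal hn
  by_contra hb
  have hb' : ∀ b : F, b = 0 ∨ b = 1 ∨ b = -1 := fun b => by
    by_contra h; push Not at h; exact hb ⟨b, h⟩
  obtain ⟨P, hP⟩ := (sylow_U h3).exists_sylow_top
  have h1 : u (1 : F) ≠ 1 := fun h => one_ne_zero (u_eq_one h)
  have hN : normalizer ((P : Subgroup PSL(2, F)) : Set PSL(2, F)) ≤
      centralizer ((P : Subgroup PSL(2, F)) : Set PSL(2, F)) := by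
    rw [hP]
    intro n hn'
    obtain ⟨a, ha⟩ := mem_U.1 ((mem_normalizer_iff.1 hn' _).1 (u_mem (1 : F)))
    have e : Commute (u 1) n := by
      rcases hb' a with rfl | rfl | rfl
      · rw [u_zero] at ha
        exact absurd (conj_eq_one_iff.1 ha.symm) h1
      · exact eq_mul_inv_iff_mul_eq.1 ha
      · rw [u_neg] at ha
        exact absurd (hn.eq_one 1 (u_pow h3 1) ha.symm) h1
    rw [mem_centralizer_iff]
    intro x hx
    obtain ⟨c, rfl⟩ := mem_U.1 hx
    rcases hb' c with rfl | rfl | rfl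
    · rw [u_zero, one_mul, mul_one]
    · exact e
    · rw [u_neg]; exact e.inv_left
  have h2 := MonoidHom.ker_transferSylow_isComplement' P hN
  rcases (MonoidHom.normal_ker (MonoidHom.transferSylow P hN)).eq_bot_or_eq_top with h | h
  · rw [h, isComplement'_bot_left, hP] at h2
    exact hc ⟨⟨fun x y => U_comm (h2 ▸ mem_top x) (h2 ▸ mem_top y)⟩⟩
  · rw [h, isComplement'_top_left, hP] at h2
    exact h1 (mem_bot.1 (h2 ▸ u_mem 1))

end Cfsg.Agent.NR
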