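import Cfsg.Agent.Lib.NR.KMax1

/-! Elementary abelian Sylow 2-subgroup of order 8: the centralizer of an involution is maximal. -/

namespace Cfsg.Agent.NR

open Subgroup FT SF.GP SF.T TwoGrp GW

universe u

variable {G : Type u} [Group G] [Finite G] {S V M H K X Y R : Subgroup G} {a b c x z g s t v w : G}
  {p r : ℕ}

/-- the local hypotheses in the case `|S| = 8` -/
structure E8 (S : Subgroup G) : Prop extends Sm G where
  syl : IsSylowIn 2 S ⊤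
  sq : ∀ a ∈ S, a * a = 1
  card : #|S| = 8
  tr : ∀ s ∈ S, s ≠ 1 → ∀ t ∈ S, t ≠ 1 → ∃ g ∈ 𝐍(S), g * s * g⁻¹ = t
  w0 : ∀ s ∈ S, s ≠ 1 → ∃ w ∈ 𝐍(S) ⊓ 𝐂[s], ∀ a ∈ S, w * a * w⁻¹ = a → a = 1 ∨ a = s
  w1 : ∀ V ≤ S, IsKleinFour V → ∃ w ∈ 𝐍(S) ⊓ 𝐍(V), ∀ v ∈ V, w * v * w⁻¹ = v → v = 1
  hI : ∀ s ∈ S, s ≠ 1 → ∀ H, H ≠ ⊤ → 𝐂[s] ≤ H → H ≤ 𝐎(H) ⊔ 𝐂[s]
  hL : ∀ (p : ℕ) [Fact p.Prime] (K Y : Subgroup G) (c : G), K ≠ ⊤ → S ≤ K → c ∈ S → c ≠ 1 → Y ≤ K →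
    Odd #|Y| → IsPGroup p Y → K ⊓ 𝐂[c] ≤ 𝐍(Y) → ⁅Y, zpowers c⁆ ≤ core {p} K
  hN : ∀ s ∈ S, s ≠ 1 → ∀ H, H ≠ ⊤ → 𝐂[s] ≤ H → ∀ V ≤ S, IsKleinFour V → s ∉ V → ¬ 𝐂(V) ≤ H

omit [Finite G] in
theorem comm_of_sq (h : ∀ a ∈ S, a * a = 1) (ha : a ∈ S) (hb : b ∈ S) : a * b = b * a := by
  rw [← inv_eq_of_mul_eq_one_right (h _ (mul_mem ha hb)), mul_inv_rev,
    inv_eq_of_mul_eq_one_right (h a ha), inv_eq_of_mul_eq_one_right (h b hb)]

theorem two_of_sq (hS : IsSylowIn 2 S ⊤) (h : ∀ a ∈ S, a * a = 1) : Two G := fun Q hQ a ha _ _ h1 _ => by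
  obtain ⟨x, -, e⟩ := Sylow_subJ hS le_top hQ
  obtain ⟨b, hb, rfl⟩ := Tr.mem_cj'.1 (e ha)
  exact absurd (by rw [show x * b * x⁻¹ * (x * b * x⁻¹) = x * (b * b) * x⁻¹ by group, h b hb]; simp) h1

theorem exists_not_mem (h : #|X| < #|S|) : ∃ a ∈ S, a ∉ X := by
  by_contra! e
  exact absurd (card_le_of_le (show S ≤ X from e)) (not_le.2 h)

theorem mul_mem_of_four (h8 : #|S| = 8) (hV : IsKleinFour V) (hVS : V ≤ S) (ha : a ∈ S) (hb : b ∈ S)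
    (a0 : a ∉ V) (b0 : b ∉ V) : a * b ∈ V := by
  have h1 : V.relIndex S = 2 := by
    have := Solv.card_mul_relIndex hVS
    rw [hV.card_four, h8] at this; omega
  exact (mul_mem_iff_of_index_two (H := V.subgroupOf S) h1 (a := ⟨a, ha⟩) (b := ⟨b, hb⟩)).2
    (iff_of_false a0 b0)

theorem Sm.zjl (h : Sm G) (two : Two G) [Fact p.Prime] (p2 : p ≠ 2) (hM : IsCoatom M) (cM : ChF M)
    (h0 : pF p M = ⊥) (h1 : core {p} M ≠ ⊥) : ∃ R, IsSylowIn p R ⊤ ∧ 𝐍(ZJ.ZJ R) = M := by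
  obtain ⟨R, hR⟩ := Sylow_exists p M
  have eF : fit M = core {p} M :=
    le_antisymm (fit_le_of le_rfl (h0.le.trans bot_le)) (pcore_sub_Fitting p M)
  have e := h.norm_eq hM (ZJ_normal_two p2 two hR (eF ▸ cM)) (pgroup_sol (pgroup_sub (ZJ.ZJ_le R) hR.pgroup))
    (ZJ.ZJ_ne_bot hR.pgroup (ne_bot_of_le_ne_bot h1 (pcore_sub_Sylow hR)))
  exact ⟨R, Sylow_of_norm_le hR le_top (inf_le_right.trans ((ZJ.normalizer_le_normalizer_ZJ R).trans e.le)), e⟩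

namespace E8

variable (h : E8 S)
include h

omit [Finite G] in
theorem S_c (ha : a ∈ S) : S ≤ 𝐂[a] := fun _ hb => mem_centralizer_singleton_iff.2 (comm_of_sq h.sq hb ha)

omit [Finite G] in
theorem S_cent (hV : V ≤ S) : S ≤ 𝐂(V) := fun _ hb => mem_centralizer_iff.2 fun _ ha =>
  comm_of_sq h.sq (hV ha) hb

theorem two : Two G := two_of_sq h.syl h.sq

theorem iso (hs : s ∈ S) (s1 : s ≠ 1) (hH : H ≠ ⊤) (hle : 𝐂[s] ≤ H) (hg : g ∈ H)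
    (hm : g * s * g⁻¹ ∈ S) : g * s * g⁻¹ = s := by
  have hn := hle.trans (pcore_norm {2}ᶜ H)
  obtain ⟨o, ho, c, hc, rfl⟩ := (mem_join_norm hn).1 (h.hI s hs s1 H hH hle hg)
  have e : o * c * s * (o * c)⁻¹ * s⁻¹ = o * (s * o⁻¹ * s⁻¹) := by
    rw [show o * c * s * (o * c)⁻¹ = o * (c * s * c⁻¹) * o⁻¹ by group, cent1_conj.1 hc]; group
  exact mul_inv_eq_one.1 (eq_one_of_odd (odd_core H) h.syl.pgroup
    (e ▸ mul_mem ho (Tr.conj_mem_of_mem_normalizer (hn (cent1id s)) (inv_mem ho))) (mul_mem hm (inv_mem hs)))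

theorem chf (hK : S ≤ K) (h1 : ∀ a ∈ S, a ∈ 𝐂(fit K) → a = 1) : ChF K := by
  have h2 := Sylow_setI_normal (Fitting_normal K).cent (Sylow_subl hK le_top h.syl)
  exact chf_of_sol (odd_sol (Nat.not_even_iff_odd.1 fun e => (Sylow_eq_bot_iff h2).1
    (eq_bot_iff.2 fun a ha => h1 a ha.2 ha.1.2) (even_iff_two_dvd.1 e)))

theorem exists_four (ha : a ∈ S) : ∃ F ≤ S, IsKleinFour F ∧ (a ≠ 1 → a ∉ F) := by
  have c2 : #|zpowers a| < #|S| := by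
    rw [h.card, Nat.card_zpowers]
    exact (orderOf_le_of_pow_eq_one two_pos (by rw [pow_two, h.sq a ha])).trans_lt (by norm_num)
  obtain ⟨b, hb, b0⟩ := exists_not_mem c2
  have b1 : b ≠ 1 := fun e => b0 (e ▸ one_mem _)
  have ba : a ≠ b := fun e => b0 (e ▸ mem_zpowers a)
  by_cases a1 : a = 1
  · have c3 : #|zpowers b| < #|S| := by
      rw [h.card, Nat.card_zpowers]
      exact (orderOf_le_of_pow_eq_one two_pos (by rw [pow_two, h.sq b hb])).trans_lt (by norm_num)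
    obtain ⟨c, hc, c0⟩ := exists_not_mem c3
    refine ⟨four b c (h.sq b hb) (h.sq c hc) (comm_of_sq h.sq hb hc), ?_, isKleinFour_four _ _ _ b1
      (fun e => c0 (e ▸ one_mem _)) fun e => c0 (e ▸ mem_zpowers b), fun e => absurd a1 e⟩
    rintro x (rfl | rfl | rfl | rfl)
    exacts [one_mem _, hb, hc, mul_mem hb hc]
  have k4 := isKleinFour_four (h.sq a ha) (h.sq b hb) (comm_of_sq h.sq ha hb) a1 b1 ba
  obtain ⟨c, hc, c0⟩ := exists_not_mem (S := S) (by rw [k4.card_four, h.card]; norm_num)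
  simp only [mem_four, not_or] at c0
  refine ⟨four b c (h.sq b hb) (h.sq c hc) (comm_of_sq h.sq hb hc), ?_, isKleinFour_four _ _ _ b1
    c0.1 (Ne.symm c0.2.2.1), fun _ => ?_⟩
  · rintro x (rfl | rfl | rfl | rfl)
    exacts [one_mem _, hb, hc, mul_mem hb hc]
  · rintro (e | e | e | e)
    exacts [a1 e, ba e, c0.2.1 e.symm, c0.2.2.2 (by
      rw [e, mul_assoc, ← comm_of_sq h.sq hb hc, ← mul_assoc, h.sq b hb, one_mul])]

theorem hyper (ho : Odd #|R|) (hn : S ≤ 𝐍(R)) (ht : t ∈ S) (h0 : ¬ R ≤ 𝐂[t]) :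
    ∃ V ≤ S, IsKleinFour V ∧ ⁅R ⊓ 𝐂(V), zpowers t⁆ ≠ ⊥ := by
  have tt := h.sq t ht
  have key : ∀ {R F : Subgroup G}, Odd #|R| → S ≤ 𝐍(R) → F ≤ S → IsKleinFour F → ⁅R, zpowers t⁆ ≠ ⊥ →
      ∃ a ∈ F, a ≠ 1 ∧ ⁅R ⊓ 𝐂[a], zpowers t⁆ ≠ ⊥ := fun {R F} ho hn hF k4 h0 => by
    by_contra! e
    exact h0 (le_bot_iff.1 (gen_comm (odd_sol ho) k4 (pg_zp tt) ho (hF.trans hn) (zpowers_le.2 (hn ht))
      fun f hf f1 => (e f hf f1).le))
  obtain ⟨F, hF, k4, -⟩ := h.exists_four ht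
  obtain ⟨a, ha, a1, h1⟩ := key ho hn hF k4 (mt comm_bot.1 h0)
  obtain ⟨F', hF', k4', h2⟩ := h.exists_four (hF ha)
  obtain ⟨b, hb, b1, h3⟩ := key (odd_of_le inf_le_left ho) (normsI hn (norms_cent1 (h.S_c (hF ha)))) hF' k4' h1
  refine ⟨four a b (h.sq a (hF ha)) (h.sq b (hF' hb)) (comm_of_sq h.sq (hF ha) (hF' hb)), ?_,
    isKleinFour_four _ _ _ a1 b1 fun e => h2 a1 (e ▸ hb), ne_bot_of_le_ne_bot h3 (commSg _ ?_)⟩
  · rintro x (rfl | rfl | rfl | rfl)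
    exacts [one_mem _, hF ha, hF' hb, mul_mem (hF ha) (hF' hb)]
  · refine le_inf (inf_le_left.trans inf_le_left) (centsC.1 ?_)
    have ea := sub_cent1.1 (inf_le_left.trans inf_le_right : R ⊓ 𝐂[a] ⊓ 𝐂[b] ≤ _)
    have eb := sub_cent1.1 (inf_le_right : R ⊓ 𝐂[a] ⊓ 𝐂[b] ≤ _)
    rintro x (rfl | rfl | rfl | rfl)
    exacts [one_mem _, ea, eb, mul_mem ea eb]

theorem lemK [Fact p.Prime] (p2 : p ≠ 2) (hv : v ∈ S) (v1 : v ≠ 1) (hM : 𝐂[v] ≤ M) (hY : Y ≤ core {p} M)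
    (hn : v ∈ 𝐍(Y)) (hX : X ≠ ⊤) (hV : S ≤ X) (hle : ⁅Y, zpowers v⁆ ≤ X) :
    ⁅Y, zpowers v⁆ ≤ core {p} X := by
  have h1 := h.hL p X (core {p} M ⊓ X) v hX hV hv v1 inf_le_right
    (odd_of_le inf_le_left (odd_pcore p2 M)) (pgroup_sub inf_le_left (pcore_isPGroup p M))
    (normsI ((inf_le_right.trans hM).trans (pcore_norm _ M)) (normsG inf_le_left))
  rw [← comm_id (odd_of_le hY (odd_pcore p2 M)) (h.sq v hv) hn]
  exact (commSg _ (le_inf ((comm_le hn).trans hY) hle)).trans h1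

theorem cent_ne (ht : t ∈ S) (t1 : t ≠ 1) : 𝐂[t] ≠ ⊤ := fun e => by
  obtain ⟨F, hF, k4, -⟩ := h.exists_four ht
  obtain ⟨v, hv, v1, vt⟩ := kleinFour_exists_ne k4 t
  obtain ⟨g, -, e'⟩ := h.tr t ht t1 v (hF hv) v1
  exact vt (e'.symm.trans (cent1_conj.1 (e ▸ mem_top g)))

theorem family (ht : t ∈ S) (t1 : t ≠ 1) (hc : ¬ IsCoatom 𝐂[t]) :
    ∃ (p : ℕ) (H : G → Subgroup G), p.Prime ∧ p ≠ 2 ∧
      (∀ s ∈ S, s ≠ 1 → IsCoatom (H s) ∧ 𝐂[s] ≤ H s ∧ ¬ core {p} (H s) ≤ 𝐂[s]) ∧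
      ∀ s ∈ S, s ≠ 1 → ∀ k, H (k * s * k⁻¹) = cj k (H s) := by
  obtain ⟨M, hM, hle⟩ := (eq_top_or_exists_le_coatom 𝐂[t]).resolve_left (h.cent_ne ht t1)
  obtain ⟨p, hp, p2, h1⟩ : ∃ p, p.Prime ∧ p ≠ 2 ∧ ¬ core {p} M ≤ 𝐂[t] := by
    by_contra! e
    have h1 : zpowers t ≤ 𝐂(fit 𝐎(M)) := cents_Fitting_of_pcore fun u hu => by
      haveI := Fact.mk hu
      by_cases u2 : u = 2
      · rw [u2, core2_O, cent1T]; exact le_top
      rw [core_O u2]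
      exact zpowers_le.2 (sub_cent1.1 (e u hu u2))
    have h2 := cent_of_fit (odd_core M) (h.sq t ht) (pcore_norm _ M (hle (cent1id t))) (h1 (mem_zpowers t))
    exact hc (le_antisymm ((h.hI t ht t1 M hM.1 hle).trans (sup_le h2 le_rfl)) hle ▸ hM)
  have e : ∀ g : G, (⨆ k ∈ {k : G | k * t * k⁻¹ = g * t * g⁻¹}, cj k M) = cj g M := fun g =>
    le_antisymm (iSup₂_le fun k hk => by
      have : g⁻¹ * k ∈ M := hle (cent1_conj.2 (by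
        rw [show g⁻¹ * k * t * (g⁻¹ * k)⁻¹ = g⁻¹ * (k * t * k⁻¹) * g by group, hk]; group))
      rw [show k = g * (g⁻¹ * k) by group, Tr.cj_mul, Tr.cj_eq_of_mem this])
      (le_iSup₂_of_le (f := fun k (_ : k ∈ {k : G | k * t * k⁻¹ = g * t * g⁻¹}) => cj k M) g rfl le_rfl)
  refine ⟨p, fun s => ⨆ k ∈ {k : G | k * t * k⁻¹ = s}, cj k M, hp, p2, fun s hs s1 => ?_,
    fun s hs s1 k => ?_⟩
  · obtain ⟨g, -, rfl⟩ := h.tr t ht t1 s hs s1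
    simp only [e]
    exact ⟨coatom_cj hM g, cent1J g t ▸ Tr.cj_mono _ hle, by rwa [pcoreJ, cent1J, Tr.cj_le_cj]⟩
  · obtain ⟨g, -, rfl⟩ := h.tr t ht t1 s hs s1
    simp only [show k * (g * t * g⁻¹) * k⁻¹ = (k * g) * t * (k * g)⁻¹ by group, e, Tr.cj_mul]

/-- `C(t)` is a maximal subgroup. -/
theorem coatom (ht : t ∈ S) (t1 : t ≠ 1) : IsCoatom 𝐂[t] := by
  by_contra hc
  obtain ⟨p, H, hp, p2, hH, hJ⟩ := h.family ht t1 hc
  haveI := Fact.mk hp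
  have tt := h.sq t ht
  have SH : ∀ s ∈ S, s ≠ 1 → S ≤ H s := fun s hs s1 => (h.S_c hs).trans (hH s hs s1).2.1
  have SP : ∀ s ∈ S, s ≠ 1 → S ≤ 𝐍(core {p} (H s)) := fun s hs s1 => (SH s hs s1).trans (pcore_norm _ _)
  have oP := fun s => odd_pcore p2 (H s)
  obtain ⟨V, hV, k4, U0⟩ := h.hyper (oP t) (SP t ht t1) ht (hH t ht t1).2.2
  have tV : t ∉ V := fun e => U0 (comm_bot.2 (inf_le_right.trans (cent_le_cent1 e)))
  have hn : t ∈ 𝐍(core {p} (H t) ⊓ 𝐂(V)) := normsI (SP t ht t1) (normsG (h.S_cent hV)) ht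
  have K1 : ∀ {X : Subgroup G}, X ≠ ⊤ → S ≤ X → ⁅core {p} (H t) ⊓ 𝐂(V), zpowers t⁆ ≤ X →
      ⁅core {p} (H t) ⊓ 𝐂(V), zpowers t⁆ ≤ core {p} X := h.lemK p2 ht t1 (hH t ht t1).2.1 inf_le_left hn
  have UV : ⁅core {p} (H t) ⊓ 𝐂(V), zpowers t⁆ ≤ 𝐂(V) := (comm_le hn).trans inf_le_right
  have tU : t ∉ 𝐂(⁅core {p} (H t) ⊓ 𝐂(V), zpowers t⁆) := fun e => U0 (by
    rw [← comm_id (odd_of_le inf_le_left (oP t)) tt hn, comm_bot]; exact sub_cent1.2 e)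
  generalize ⁅core {p} (H t) ⊓ 𝐂(V), zpowers t⁆ = U at *
  have CU : ∀ a ∈ S, a ∈ 𝐂(U) → a ∈ V := fun a ha e => by
    by_contra a0
    exact tU (by simpa using mul_mem (inv_mem e) (centsC.1 UV (mul_mem_of_four h.card k4 hV ha ht a0 tV)))
  have UP : ∀ s ∈ V, s ≠ 1 → U ≤ core {p} (H s) := fun s hs s1 => K1 (hH s (hV hs) s1).1.1 (SH s (hV hs) s1)
    (UV.trans ((cent_le_cent1 hs).trans (hH s (hV hs) s1).2.1))
  have cH : ∀ s ∈ V, s ≠ 1 → ChF (H s) := fun s hs s1 => h.chf (SH s (hV hs) s1) fun a ha e => by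
    by_contra a1
    obtain ⟨h1, h2, h3⟩ := hH s (hV hs) s1
    have k1 : ∀ b ∈ S, b ∈ 𝐂(fit (H s)) → b ∈ V := fun b hb e =>
      CU b hb (centS ((UP s hs s1).trans (pcore_sub_Fitting p _)) e)
    have k2 : s ∉ 𝐂(fit (H s)) := fun e => h3 ((pcore_sub_Fitting p _).trans (sub_cent1.2 e))
    obtain ⟨w, hw, k3⟩ := h.w0 s (hV hs) s1
    have k4' : w * a * w⁻¹ ∈ 𝐂(fit (H s)) :=
      Tr.conj_mem_of_mem_normalizer (norms_cent (Fitting_norm _) (h2 hw.2)) e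
    have as : a ≠ s := fun e' => k2 (e' ▸ e)
    rcases (kleinFour_mem_iff k4 (k1 a ha e) hs a1 s1 as _).1
      (k1 _ (Tr.conj_mem_of_mem_normalizer hw.1 ha) k4') with e' | e' | e' | e'
    · exact a1 (by simpa using e')
    · exact (k3 a ha e').elim a1 as
    · exact k2 (e' ▸ k4')
    · exact k2 ((mul_mem_cancel_left e).1 (by rwa [e'] at k4'))
  obtain ⟨ρ, hρ⟩ : ∃ ρ, ρ = 𝐂(V) ⊓ ⨅ s ∈ {s : G | s ∈ V ∧ s ≠ 1}, core {p} (H s) := ⟨_, rfl⟩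
  have r1 : ρ ≤ 𝐂(V) := hρ ▸ inf_le_left
  have r2 : ∀ s ∈ V, s ≠ 1 → ρ ≤ core {p} (H s) := fun s hs s1 => hρ ▸ inf_le_right.trans
    (iInf₂_le (f := fun s (_ : s ∈ {s : G | s ∈ V ∧ s ≠ 1}) => core {p} (H s)) s ⟨hs, s1⟩)
  have r3 : U ≤ ρ := hρ ▸ le_inf UV (le_iInf₂ fun s hs => UP s hs.1 hs.2)
  have r4 : 𝐍(V) ≤ 𝐍(ρ) := norms_of_conj_mem fun g hg x hx => by
    rw [hρ]
    refine ⟨Tr.conj_mem_of_mem_normalizer (norms_cent le_rfl hg) (r1 hx), mem_iInf.2 fun s =>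
      mem_iInf.2 fun hs => ?_⟩
    have h1 := Tr.conj_mem_of_mem_normalizer' hg hs.1
    have h2 : g⁻¹ * s * g ≠ 1 := fun e => hs.2 (by simpa [mul_assoc] using congrArg (g * · * g⁻¹) e)
    rw [show s = g * (g⁻¹ * s * g) * g⁻¹ by group, hJ _ (hV h1) h2, pcoreJ, Tr.conj_mem_cj]
    exact r2 _ h1 h2 hx
  obtain ⟨a, ha, a1, -⟩ := kleinFour_exists_ne k4 1
  obtain ⟨K, hK, hN⟩ := (eq_top_or_exists_le_coatom _).resolve_left
    (h.toSm.ne_top_odd (odd_of_le (r2 a ha a1) (oP a)) (ne_bot_of_le_ne_bot U0 r3))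
  have VK := (cent_sub V).trans (r4.trans hN)
  have SK := (h.S_cent hV).trans VK
  have UK := K1 hK.1 SK (r3.trans ((normG ρ).trans hN))
  have pK := ne_bot_of_le_ne_bot U0 UK
  have cK : ChF K := h.chf SK fun s hs e => by
    by_contra s1
    have e' := centS (pcore_sub_Fitting p K) e
    have sV := CU s hs (centS UK e')
    have ss := h.sq s hs
    have n1 : s ∈ 𝐍(core {p} (H s) ⊓ K) := normsI (SP s hs s1) (normsG SK) hs
    refine (hH s hs s1).2.2 (axb (oP s) (pcore_isPGroup p _) ss (SP s hs s1 hs)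
      (pgroup_sub (r2 s sV s1) (pcore_isPGroup p _)) (r1.trans (cent_le_cent1 sV)) (normsG (r2 s sV s1))
      ((inf_le_inf_left _ ((cent_sub ρ).trans hN)).trans (le_cent_of_comm (odd_of_le inf_le_left (oP s)) ss n1
        ((h.lemK p2 hs s1 (hH s hs s1).2.1 inf_le_left n1 hK.1 SK ((comm_le n1).trans inf_le_right)).trans
          (sub_cent1.2 e')))))
  have sc : ∀ s ∈ V, s ≠ 1 → SCF (H s) (ρ ⊔ fit (H s) ⊓ 𝐂(ρ)) := fun s hs s1 =>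
    scf_of ((r2 s hs s1).trans (pcore_sub_Fitting p _))
  have TK : ∀ s, ρ ⊔ fit (H s) ⊓ 𝐂(ρ) ≤ K := fun s => (scf_le_norm _ _).trans hN
  have e0 : ∀ q, q.Prime → core {q} (H a) = ⊥ → core {q} K = ⊥ := fun q hq e => by
    haveI := Fact.mk hq
    have k1 : ∀ s ∈ V, s ≠ 1 → core {q} K ⊓ H s = ⊥ := fun s hs s1 => ben_a (cH s hs s1) (sc s hs s1) (TK s) (by
      obtain ⟨g, -, rfl⟩ := h.tr a (hV ha) a1 s (hV hs) s1
      rw [hJ a (hV ha) a1, pcoreJ, e, Tr.cj_bot])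
    by_cases q2 : q = 2
    · subst q2
      rw [← k1 a ha a1, inf_eq_left.2 ((pcore_sub_Sylow (Sylow_subl SK le_top h.syl)).trans (SH a (hV ha) a1))]
    · exact le_bot_iff.1 (gen4 k4 (odd_pcore q2 K) (hV.trans (SK.trans (pcore_norm _ K))) fun s hs s1 =>
        (inf_le_inf_left _ (hH s (hV hs) s1).2.1).trans (k1 s hs s1).le)
  obtain ⟨w, hw, w1⟩ := h.w1 V hV k4
  have wK := r4.trans hN hw.2
  obtain ⟨mA, cA, -⟩ := hH a (hV ha) a1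
  have pA := ne_bot_of_le_ne_bot U0 (UP a ha a1)
  by_cases h0 : pF p (H a) = ⊥
  · obtain ⟨R, hR, eR⟩ := h.toSm.zjl h.two p2 mA (cH a ha a1) h0 pA
    obtain ⟨R', hR', eR'⟩ := h.toSm.zjl h.two p2 hK cK (eq_bot_iff.2 (pF_le fun q hq hne => (e0 q hq (by
      haveI := Fact.mk hq
      exact eq_bot_iff.2 ((core_le_pF hne _).trans h0.le))).le)) pK
    obtain ⟨g, -, rfl⟩ := Sylow_trans hR hR'
    rw [ZJ.ZJ_map (MulAut.conj g).injective.injOn, Tr.normalizer_cj, eR] at eR'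
    have k1 := Sylow_cj h.syl g
    rw [Tr.cj_top] at k1
    obtain ⟨k, hk, e⟩ := Sylow_trans (Sylow_subl (eR' ▸ Tr.cj_mono g (SH a (hV ha) a1)) le_top k1)
      (Sylow_subl SK le_top h.syl)
    have y1 : k * g * a * (k * g)⁻¹ ∈ S := by
      rw [e, ← Tr.cj_mul, Tr.conj_mem_cj]; exact hV ha
    have y2 : k * g * a * (k * g)⁻¹ ≠ 1 := fun e => a1 (conj_eq_one_iff.1 e)
    have y3 : 𝐂[k * g * a * (k * g)⁻¹] ≤ K := by
      have := (hH _ y1 y2).2.1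
      rwa [hJ a (hV ha) a1, Tr.cj_mul, eR', Tr.cj_eq_of_mem hk] at this
    exact h.hN _ y1 y2 K hK.1 y3 V hV k4 (fun e => y2 (w1 _ e
      (h.iso y1 y2 hK.1 y3 wK (Tr.conj_mem_of_mem_normalizer hw.1 y1)))) VK
  have f1 : fit K ≤ H a := Fitting_le_of_pcore_le fun r hr => by
    haveI := Fact.mk hr
    by_cases e : core {r} (H a) = ⊥
    · exact (e0 r hr e).le.trans bot_le
    refine h.toSm.ben_b' mA (sc a ha a1) (TK a) e ?_
    by_cases e' : r = p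
    · rwa [e']
    · exact ne_bot_of_le_ne_bot pA (core_le_pF (Ne.symm e') _)
  have e1 : ∀ r, r.Prime → core {r} (H a) ≠ ⊥ → core {r} K ≠ ⊥ := fun r hr e e' => by
    haveI := Fact.mk hr
    exact center_pgroup_ne_bot (pcore_isPGroup r _) e (eq_bot_iff.2 ((le_inf inf_le_left
      ((zp_cent r _).trans ((sc a ha a1).zf.trans (TK a)))).trans (ben_a cK (scf_fit K) f1 e').le))
  have f2 : fit (H a) ≤ K := Fitting_le_of_pcore_le fun r hr => by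
    haveI := Fact.mk hr
    by_cases e : core {r} (H a) = ⊥
    · exact e.le.trans bot_le
    refine h.toSm.ben_b' hK (scf_fit K) f1 (e1 r hr e) ?_
    by_cases e' : r = p
    · subst e'
      exact fun e2 => h0 (eq_bot_iff.2 (pF_le fun q hq hne => by
        haveI := Fact.mk hq
        by_contra e3
        exact e1 q hq (fun e4 => e3 e4.le) (eq_bot_iff.2 ((core_le_pF hne K).trans e2.le))))
    · exact ne_bot_of_le_ne_bot pK (core_le_pF (Ne.symm e') _)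
  have eK := h.toSm.ben_eq mA hK (cH a ha a1) cK f2 f1 pA h0
  exact a1 (w1 a ha (h.iso (hV ha) a1 mA.1 cA (eK ▸ wK) (Tr.conj_mem_of_mem_normalizer hw.1 (hV ha))))

end E8

end Cfsg.Agent.NR
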