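import Cfsg.Agent.Lib.NR.R80a
import Cfsg.Agent.Lib.NR.R81

/-!
# The local facts `(L1)` and `(N)` in the case of an elementary abelian Sylow 2-subgroup
-/

set_option autoImplicit false
set_option linter.unusedVariables false
set_option linter.unusedSectionVars false

namespace Cfsg.Agent.NR

open Subgroup Cfsg Cfsg.Agent.FT Cfsg.Agent.SF Cfsg.Agent.SF.GP Cfsg.Agent.SF.T Cfsg.Agent.SC
  Cfsg.Agent.GO Cfsg.Agent.GW Cfsg.Agent.TwoGrp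
open Cfsg.Agent.Tr (SylowIn)
open Cfsg.Agent.Ree (Ab PL)
open scoped MatrixGroups

universe u

/-- facts on involutions of `PSL₂(q)` -/
structure PX (X : Type*) [Group X] : Prop where
  pl : PL (⊤ : Subgroup X)
  eq : ∀ a d : X, orderOf a = 2 → orderOf d = 2 → 𝐂[a] ≤ 𝐂[d] → a = d
  ex : ∀ a : X, orderOf a = 2 → ∃ d, orderOf d = 2 ∧ d ≠ a ∧ Commute a d

section
variable {X : Type u} [Group X] [Finite X] {Y : Subgroup X} {a : X} {p : ℕ}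

theorem px [IsSimpleGroup X] (h : NoReal X) (hc : ¬ IsMulCommutative X)
    (hse : ∀ H : Subgroup X, ¬ IsStronglyEmbedded H) (pl : PL (⊤ : Subgroup X)) : PX X := by
  obtain ⟨T, E, e, hS, tr, h4⟩ := exists_sce h hc hse
  have k1 : ∀ a : X, orderOf a = 2 → ∃ g, g * a * g⁻¹ ∈ E := fun a ha => by
    obtain ⟨c, -, h1⟩ := hS.exists_cj_le (Tr.isPGroup_zpowers_of_orderOf_eq ha) le_top
    exact ⟨c, h1 (Tr.conj_mem_cj.2 (mem_zpowers a))⟩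
  have k2 : ∀ a b : X, orderOf a = 2 → orderOf b = 2 → ∃ g, g * a * g⁻¹ = b := fun a b ha hb => by
    obtain ⟨g, hg⟩ := k1 a ha
    obtain ⟨k, hk⟩ := k1 b hb
    obtain ⟨n, -, -, e'⟩ := tr _ hg (mt conj_eq_one_iff.1 (Tr.ne_one_of_orderOf_two ha)) _ hk
      (mt conj_eq_one_iff.1 (Tr.ne_one_of_orderOf_two hb))
    exact ⟨k⁻¹ * n * g, by
      rw [show k⁻¹ * n * g * a * (k⁻¹ * n * g)⁻¹ = k⁻¹ * (n * (g * a * g⁻¹) * n⁻¹) * k by group, e']; group⟩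
  refine ⟨pl, fun a d ha hd hle => by_contra fun hne => ?_, fun a ha => ?_⟩
  · obtain ⟨g, rfl⟩ := k2 a d ha hd
    have e1 : 𝐂[a] = 𝐂[g * a * g⁻¹] := eq_of_le_of_card_ge hle (by rw [cent1J, Tr.card_cj])
    have h2 : IsPGroup 2 𝐂[a] := Tr.isPGroup_iff_forall_mem.2 fun x hx => by
      obtain ⟨k, m, hm, e2⟩ := Nat.exists_eq_two_pow_mul_odd (orderOf_pos x).ne'
      refine ⟨k, by_contra fun x1 => hne ((pl.odd _ (mem_top _) x1 (hm.of_dvd_nat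
        (orderOf_dvd_of_pow_eq_one (by rw [← pow_mul, ← e2, pow_orderOf_eq_one]))) a (mem_top _) _
        (mem_top _) ?_ ?_).2 ha hd)⟩
      · exact (mem_cent1.1 (pow_mem hx _)).symm
      · exact (mem_cent1.1 (pow_mem (hle hx) _)).symm
    obtain ⟨S, hS'⟩ := e.two.exists_le_sylow
    have E0 : E ≠ ⊥ := fun e' => by rw [e', card_bot] at h4; omega
    obtain ⟨H, hH⟩ := ZD.s1174 X S E E0 (e.sc S.isPGroup' hS') fun e' => hc (by
      have : E = ⊤ := eq_top_iff.2 (e'.ge.trans (iSup_le fun t => by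
        obtain ⟨k, hk⟩ := k2 a t ha t.2.2
        refine (hS.eq_of_le ?_ (e.cent1 t.2.1) le_top).le
        rw [← hk, cent1J]; exact Tr.isPGroup_cj k h2))
      exact ⟨⟨fun x y => e.comm (this ▸ mem_top x) (this ▸ mem_top y)⟩⟩)
    exact hse H hH
  · obtain ⟨g, hg⟩ := k1 a ha
    obtain ⟨b, hb, b0⟩ := exists_not_mem (X := zpowers (g * a * g⁻¹)) (S := E) (by
      rw [Nat.card_zpowers, Tr.orderOf_conj, ha]; omega)
    refine ⟨g⁻¹ * b * g, ?_, fun e' => b0 ?_, ?_⟩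
    · rw [← e.order hb fun e' => b0 (e' ▸ one_mem _), ← Tr.orderOf_conj g⁻¹ b, inv_inv]
    · rw [← e']; simp [mul_assoc]
    · have := (show Commute (g * a * g⁻¹) b from e.comm hg hb).map (MulAut.conj g⁻¹)
      simpa [mul_assoc] using this

theorem PX.cent_p (h : PX X) [Fact p.Prime] (ha : orderOf a = 2) (ho : Odd #|Y|) (hp : IsPGroup p Y)
    (hn : 𝐂[a] ≤ 𝐍(Y)) : Y ≤ 𝐂[a] := by
  have aa := Tr.mul_self_of_orderOf_two ha
  have a1 := Tr.ne_one_of_orderOf_two ha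
  by_contra h0
  have Y0 : Y ≠ ⊥ := fun e => h0 (e.le.trans bot_le)
  obtain ⟨z, hz, z1⟩ := trivgPn.1 (center_pgroup_ne_bot hp Y0)
  have ab : ∀ x ∈ Y, ∀ y ∈ Y, Commute x y := fun x hx y hy => (h.pl.odd z (mem_top _) z1
    (odd_of_mem ho hz.1) x (mem_top _) y (mem_top _) (mem_cent.1 hz.2 x hx) (mem_cent.1 hz.2 y hy)).1
  obtain ⟨d, d2, da, cd⟩ := h.ex a ha
  have dd := Tr.mul_self_of_orderOf_two d2
  have k4 := isKleinFour_four aa dd cd.eq a1 (Tr.ne_one_of_orderOf_two d2) da.symm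
  have ka : a ∈ four a d aa dd cd.eq := mem_four.2 (by simp)
  refine h0 (gen4 k4 ho ((four_cent1 k4 ka).trans hn) fun e he e1 => ?_)
  by_cases e0 : Y ⊓ 𝐂[e] = ⊥
  · exact e0.le.trans bot_le
  obtain ⟨y, hy, y1⟩ := trivgPn.1 e0
  have e2 := four_order k4 he e1
  have k := h.pl.odd y (mem_top _) y1 (odd_of_mem ho hy.1)
  have ey : Commute e y := (mem_cent1.1 hy.2).symm
  have h1 : e ∈ 𝐂(Y) := mem_cent.2 fun x hx => (k x (mem_top _) e (mem_top _) (ab x hx y hy.1) ey).1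
  rw [h.eq a e ha e2 fun g hg => cent1_conj.2 ((k _ (mem_top _) e (mem_top _)
    (mem_cent.1 (Tr.conj_mem_of_mem_normalizer (norms_cent hn hg) h1) y hy.1).symm ey).2
    (by rw [Tr.orderOf_conj, e2]) e2)]
  exact inf_le_right

theorem PX.cent (h : PX X) (ha : a * a = 1) (ho : Odd #|Y|) (hn : 𝐂[a] ≤ 𝐍(Y)) : Y ≤ 𝐂[a] := by
  by_cases a1 : a = 1
  · subst a1; exact fun x _ => mem_cent1.2 (by simp)
  refine cent_of_fit ho ha (hn (cent1id a)) (cents_Fitting_of_pcore (A := zpowers a) (fun p hp => ?_)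
    (mem_zpowers a))
  haveI := Fact.mk hp
  exact zpowers_le.2 (sub_cent1.1 (h.cent_p (Tr.orderOf_eq_two ha a1) (odd_of_le (pcore_sub _ _) ho)
    (pcore_isPGroup p Y) (norms_pcore _ hn)))

end

variable {G : Type u} [Group G] [Finite G] {T : Set G} {S H K L V W Y : Subgroup G} {a c t : G}
  {F : Type} [Field F] [Finite F] {f : L →* PSL(2, F)}

namespace Lq

variable (h : Lq S K L F f)
include h

theorem px : PX PSL(2, F) :=
  haveI := h.simp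
  NR.px (noReal_psl h.h3 h.hs) (fun e => by
    obtain ⟨a, -, ha⟩ := h.pl.ex
    have h1 : zpowers a = ⊤ := (IsSimpleGroup.eq_bot_or_eq_top_of_normal _ inferInstance).resolve_left
      (mt zpowers_eq_bot.1 (Tr.ne_one_of_orderOf_two ha))
    have h2 := two_ne h.h3
    have h3 := u_pow h.h3 (1 : F)
    have h4 : u (1 : F) ^ 2 = 1 := by
      have := pow_card_eq_one' (x := u (1 : F))
      rwa [← card_top, ← h1, Nat.card_zpowers, ha] at this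
    exact one_ne_zero (u_eq_one (a := (1 : F)) (by rwa [pow_succ, h4, one_mul] at h3))) h.nse h.pl

/-- `C_L(c)` covers the centralizer of the image of `a` -/
theorem cover (hc : c ∈ S) (ha : a ∈ L) (hg : a * c ∈ Gam K L) {y : PSL(2, F)} (hy : y ∈ 𝐂[f ⟨a, ha⟩]) :
    ∃ x : L, (x : G) ∈ 𝐂[c] ∧ f x = y := by
  obtain ⟨x, rfl⟩ := h.surj y
  have nO := pcore_norm {2}ᶜ K
  have h1 : a * x * a⁻¹ * (x : G)⁻¹ ∈ 𝐎(K) := (h.ker (⟨a, ha⟩ * x * ⟨a, ha⟩⁻¹ * x⁻¹)).1 (by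
    rw [map_mul, map_mul, map_mul, map_inv, map_inv, ← mem_cent1.1 hy]; group)
  have h2 : c * x * c⁻¹ * (x : G)⁻¹ ∈ 𝐎(K) := by
    have := Tr.conj_mem_of_mem_normalizer' (nO (h.le ha))
      (mul_mem ((mem_Gam.1 hg).2 x x.2) (inv_mem h1))
    convert this using 1
    group
  obtain ⟨o, ho, h3⟩ := cent_lift (odd_core K) (pg_zp (h.sq c hc)) (zpowers_le.2 (nO (h.SK hc)))
    (nO (h.le x.2)) fun r hr => by
      rcases mem_zp (h.sq c hc) hr with rfl | rfl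
      · simp
      · exact h2
  refine ⟨⟨o, h.D_le ho⟩ * x, cent_cycle c ▸ h3, ?_⟩
  rw [map_mul, (h.ker ⟨o, h.D_le ho⟩).2 ho, one_mul]

theorem comm_O (hc : c ∈ S) (ha : a ∈ S ⊓ L) (hg : a * c ∈ Gam K L) (hY : Y ≤ L) (ho : Odd #|Y|)
    (hn : L ⊓ 𝐂[c] ≤ 𝐍(Y)) {y : G} (hy : y ∈ Y) : a * y * a⁻¹ * y⁻¹ ∈ 𝐎(K) := by
  have h1 := h.px.cent (Y := (Y.subgroupOf L).map f) (a := f ⟨a, ha.2⟩)
    (by rw [← map_mul, ← map_one f]; exact congrArg f (Subtype.ext (h.sq a ha.1)))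
    (ho.of_dvd_nat ((card_map_dvd _ _).trans (card_comap_dvd_of_injective _ _ L.subtype_injective)))
    (norms_of_conj_mem fun d hd z hz => by
      obtain ⟨d, hd', rfl⟩ := h.cover hc ha.2 hg hd
      obtain ⟨z, hz, rfl⟩ := hz
      exact ⟨d * z * d⁻¹, Tr.conj_mem_of_mem_normalizer (A := Y) (hn ⟨d.2, hd'⟩) hz, by simp⟩)
    (mem_map_of_mem f (x := ⟨y, hY hy⟩) hy)
  refine (h.ker (⟨a, ha.2⟩ * ⟨y, hY hy⟩ * ⟨a, ha.2⟩⁻¹ * ⟨y, hY hy⟩⁻¹)).1 ?_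
  rw [map_mul, map_mul, map_mul, map_inv, map_inv, ← mem_cent1.1 h1]; group

theorem le_gam (hc : c ∈ S) (hW : W ≤ K ⊓ 𝐍(L)) (ho : Odd #|W|) (hn : K ⊓ 𝐂[c] ≤ 𝐍(W)) :
    ⁅W, zpowers c⁆ ≤ Gam K L := by
  obtain ⟨a, ha, hg⟩ := h.dec c hc
  have aa := h.sq a ha.1
  have nO := pcore_norm {2}ᶜ K
  have aW : a ∈ 𝐍(W) := hn ⟨h.SK ha.1, mem_cent1.2 (comm_of_sq h.sq ha.1 hc)⟩
  have h1 : ⁅W, zpowers a⁆ ≤ W ⊓ L := le_inf (comm_le aW)
    ((commgS _ (zpowers_le.2 ha.2)).trans (commg_subr.2 (hW.trans inf_le_right)))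
  have h2 : ⁅W, zpowers a⁆ ≤ 𝐎(K) := by
    rw [← comm_id ho aa aW, commGC]
    exact comm_zpowers_le (nO (h.SK ha.1)) fun r hr => h.comm_O hc ha hg inf_le_right
      (odd_of_le inf_le_left ho) (normsI ((inf_le_inf_right _ h.le).trans hn) (normsG inf_le_left)) (h1 hr)
  rw [commGC] at h2 ⊢
  have nG := norm_Gam' K L
  refine comm_zpowers_le (nG ⟨h.SK hc, h.nS hc⟩) fun r hr => ?_
  have e : c * r * c⁻¹ * r⁻¹ = a * ((a * c) * (r * (a * c)⁻¹ * r⁻¹)) * a⁻¹ * (a * r * a⁻¹ * r⁻¹) := by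
    rw [show a * ((a * c) * (r * (a * c)⁻¹ * r⁻¹)) * a⁻¹ * (a * r * a⁻¹ * r⁻¹) =
      (a * a) * c * r * c⁻¹ * (a * a)⁻¹ * r⁻¹ by group, aa]; group
  rw [e]
  exact mul_mem (Tr.conj_mem_of_mem_normalizer (nG ⟨h.SK ha.1, h.nS ha.1⟩) (mul_mem hg
    (Tr.conj_mem_of_mem_normalizer (nG (hW hr)) (inv_mem hg))))
    (D_le_Gam h.le (h2 (mem_commg (mem_zpowers a) hr)))

end Lq

theorem odd_le_core (e : Sce T S) (hE : S ≤ H) (h1 : W ≤ NN T H) (ho : Odd #|W|)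
    (h2 : ∀ L, Cmp T H L → W ≤ Gam H L) : W ≤ 𝐎(H) := by
  obtain ⟨Z, _, _, f, hs, hk, hO⟩ := exists_quot H
  have hl := h1.trans (NN_le T H)
  have h3 := ((e.subgroupOf hE).image hs).le_two hO (X := im f W) (im_NN (f := f) ▸ im_mono h1)
    fun K c => (cmp_pre hs hk hO c).2 W (h2 _ (cmp_pre hs hk hO c).1)
  exact (im_bot hk hl).1 (eq_bot_iff.2 fun x hx => eq_one_of_odd (ho.of_dvd_nat ((card_map_dvd _ _).trans
    (Nat.card_congr (subgroupOfEquivOfLe hl).toEquiv).dvd)) (Fit.isPGroup_pCore 2 Z) hx (h3 hx))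

/-- `(L1)` -/
theorem r8_l1 (e : Sce T S) (hq : ∀ K L : Subgroup G, K ≠ ⊤ → S ≤ K → Cmp T K L →
      ∃ (F : Type) (_ : Field F) (_ : Finite F) (f : L →* PSL(2, F)), Lq S K L F f)
    (p : ℕ) [Fact p.Prime] (K Y : Subgroup G) (c : G) (hK : K ≠ ⊤) (SK : S ≤ K) (hc : c ∈ S) (c1 : c ≠ 1)
    (hY : Y ≤ K) (ho : Odd #|Y|) (hp : IsPGroup p Y) (hn : K ⊓ 𝐂[c] ≤ 𝐍(Y)) :
    ⁅Y, zpowers c⁆ ≤ core {p} K := by
  have cc := e.ee hc
  have cY := hn ⟨SK hc, cent1id c⟩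
  have h1 : ⁅Y, zpowers c⁆ ≤ NN T K := (commgS _ (zpowers_le.2 (e.le_NN SK hc))).trans
    (commg_subr.2 (hY.trans (e.fam.NN_nrm K).nz))
  refine l1_of_le cc (SK hc) hp hn (odd_le_core e SK h1 (odd_of_le (comm_le cY) ho) fun L k => ?_)
  obtain ⟨F, _, _, f, h⟩ := hq K L hK SK k
  rw [← comm_id ho cc cY]
  exact h.le_gam hc (le_inf ((comm_le cY).trans hY) (h1.trans k.nrm)) (odd_of_le (comm_le cY) ho)
    (normsR hn (inf_le_right.trans (cents_norm (cent_cycle c).ge)))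

theorem Lt.gamS (h : Lt S a L F f) (hc : c ∈ S) (hg : c ∈ Gam 𝐂[a] L) : c = 1 ∨ c = a :=
  (h.gam c hg).imp (fun e => eq_one_of_odd_sq (odd_core _) e (h.sq c hc)) fun e => by
    have := eq_one_of_odd_sq (odd_core _) e (h.sq _ (mul_mem h.tS hc))
    rw [← inv_eq_of_mul_eq_one_right this, inv_eq_of_mul_eq_one_right (h.sq a h.tS)]

/-- `(N)` -/
theorem r8_n (ht : ∀ a ∈ S, a ≠ 1 →
      ∃ (L : Subgroup G) (F : Type) (_ : Field F) (_ : Finite F) (f : L →* PSL(2, F)), Lt S a L F f)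
    (hI : ∀ s ∈ S, s ≠ 1 → ∀ H, H ≠ ⊤ → 𝐂[s] ≤ H → H ≤ 𝐎(H) ⊔ 𝐂[s])
    (s : G) (hs : s ∈ S) (s1 : s ≠ 1) (H : Subgroup G) (hH : H ≠ ⊤) (hle : 𝐂[s] ≤ H) (V : Subgroup G)
    (hV : V ≤ S) (k4 : IsKleinFour V) (sV : s ∉ V) : ¬ 𝐂(V) ≤ H := fun hVH => by
  obtain ⟨a, ha, b, hb, a1, b1, ab⟩ := kleinFour_exists k4
  obtain ⟨L, F, _, _, f, h⟩ := ht a (hV ha) a1
  obtain ⟨s', hs', gs⟩ := h.dec s hs
  obtain ⟨b', hb', gb⟩ := h.dec b (hV hb)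
  have mV : ∀ c ∈ S, c ∈ Gam 𝐂[a] L → c ∈ V := fun c hc hg => by
    rcases h.gamS hc hg with rfl | rfl
    exacts [one_mem _, ha]
  have inj : ∀ c (hc : c ∈ S ⊓ L), f ⟨c, hc.2⟩ = 1 → c = 1 := fun c hc e =>
    eq_one_of_odd_sq (odd_core _) ((h.ker _).1 e) (h.sq c hc.1)
  have sq : ∀ c (hc : c ∈ S ⊓ L), f ⟨c, hc.2⟩ * f ⟨c, hc.2⟩ = 1 := fun c hc => by
    rw [← map_mul, ← map_one f]; exact congrArg f (Subtype.ext (h.sq c hc.1))
  have k1 := mV _ (mul_mem hs'.1 hs) gs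
  have k2 := (mul_mem_cancel_right hb).1 (mV _ (mul_mem hb'.1 (hV hb)) gb)
  have o1 : orderOf (f ⟨s', hs'.2⟩) = 2 := Tr.orderOf_eq_two (sq s' hs') fun e => sV (by
    simpa [inj s' hs' e] using k1)
  have o2 : orderOf (f ⟨b', hb'.2⟩) = 2 := Tr.orderOf_eq_two (sq b' hb') fun e => by
    rw [inj b' hb' e, one_mul] at gb
    exact (h.gamS (hV hb) gb).elim b1 ab.symm
  have e := h.px.eq _ _ o2 o1 fun y hy => by
    obtain ⟨x, hx, rfl⟩ := h.cover (hV hb) hb'.2 gb hy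
    have xa : (x : G) ∈ 𝐂[a] := h.le x.2
    have xH : (x : G) ∈ H := hVH (centsC.1 (show V ≤ 𝐂(zpowers (x : G)) from fun v hv => by
      rw [cent_cycle]
      rcases (kleinFour_mem_iff k4 ha hb a1 b1 ab v).1 hv with rfl | rfl | rfl | rfl
      exacts [one_mem _, cent1C.1 xa, cent1C.1 hx, mul_mem (cent1C.1 xa) (cent1C.1 hx)]) (mem_zpowers _))
    have nO := hle.trans (pcore_norm {2}ᶜ H)
    have e1 : s * x * s⁻¹ = s' * x * s'⁻¹ := by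
      have : s' * s ∈ 𝐂[(x : G)] := by
        rcases h.gamS (mul_mem hs'.1 hs) gs with e | e <;> rw [e]
        exacts [one_mem _, cent1C.1 xa]
      rw [← cent1_conj.1 this, show s' * (s' * s * x * (s' * s)⁻¹) * s'⁻¹ =
        (s' * s') * s * x * s⁻¹ * (s' * s')⁻¹ by group, h.sq s' hs'.1, cent1_conj.1 this]; group
    have z1 : s' * x * s'⁻¹ * (x : G)⁻¹ ∈ 𝐎(H) ⊓ L := by
      refine ⟨?_, L.mul_mem (L.mul_mem (L.mul_mem hs'.2 x.2) (L.inv_mem hs'.2)) (L.inv_mem x.2)⟩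
      obtain ⟨o, ho, c, hc, e2⟩ := (mem_join_norm nO).1 (hI s hs s1 H hH hle xH)
      rw [← e1, ← e2, show s * (o * c) * s⁻¹ * (o * c)⁻¹ = s * o * s⁻¹ * (s * c * s⁻¹ * c⁻¹) * o⁻¹ by group,
        cent1_conj.1 (cent1C.1 hc), mul_inv_cancel, mul_one]
      exact 𝐎(H).mul_mem (Tr.conj_mem_of_mem_normalizer (nO (cent1id s)) ho) (𝐎(H).inv_mem ho)
    have z2 := (h.ker (⟨s', hs'.2⟩ * ⟨_, z1.2⟩ * ⟨s', hs'.2⟩⁻¹ * ⟨_, z1.2⟩⁻¹)).2
      (h.comm_O hs hs' gs inf_le_right (odd_of_le inf_le_left (odd_core H))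
        (normsI (inf_le_right.trans nO) (normsG inf_le_left)) z1)
    have z3 : f ⟨_, z1.2⟩ = f ⟨s', hs'.2⟩ * f x * (f ⟨s', hs'.2⟩)⁻¹ * (f x)⁻¹ := by
      rw [← map_inv, ← map_inv, ← map_mul, ← map_mul, ← map_mul]; rfl
    rw [map_mul, map_mul, map_mul, map_inv, map_inv, mul_inv_eq_one] at z2
    have z4 : Odd (orderOf (f ⟨_, z1.2⟩)) := (odd_of_mem (odd_core H) z1.1).of_dvd_nat
      ((orderOf_map_dvd f _).trans (orderOf_coe _).symm.dvd)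
    have z5 := Iv.eq_one (c := f ⟨s', hs'.2⟩) (by
      have := inv_eq_of_sq (sq s' hs')
      rw [Iv, z3]
      simp only [_root_.mul_inv_rev, inv_inv, this, ← mul_assoc, sq s' hs', one_mul]) z4 (cent1_conj.2 z2)
    exact cent1C.1 (cent1_conj.2 (mul_inv_eq_one.1 (z3.symm.trans z5)))
  have e2 := inj _ (mul_mem hb' hs') (by
    rw [← sq s' hs', ← congrArg (· * _) e, ← map_mul]; rfl)
  exact sV ((mul_mem_cancel_left ((eq_inv_of_mul_eq_one_right e2).symm ▸ inv_mem k2 : s' ∈ V)).1 k1)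

end Cfsg.Agent.NR
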