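import Cfsg.Agent.Lib.NR.Red
import Cfsg.Agent.Lib.SF.Gen

/-! The properties of `L₂(q)`, `q = 3^(odd) > 3`, used in the case of a Sylow 2-subgroup of
order 8. -/

set_option autoImplicit false

namespace Cfsg.Agent.NR

open Subgroup FT SF.GP
open scoped MatrixGroups

universe u

variable {G : Type*} [Group G]

/-- a Sylow 3-subgroup `Q` of `L` -/
structure LQ (L Q : Subgroup G) (q : ℕ) : Prop where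
  le : Q ≤ L
  card : #|Q| = q
  ab : ∀ a ∈ Q, ∀ b ∈ Q, a * b = b * a
  cube : ∀ a ∈ Q, a ^ 3 = 1
  cent : ∀ a ∈ Q, a ≠ 1 → ∀ g ∈ L, g * a = a * g → g ∈ Q
  idx : #|L ⊓ 𝐍(Q)| * (q + 1) = #|L|
  tr : ∀ a ∈ Q, a ≠ 1 → ∀ b ∈ Q, b ≠ 1 → ∃ g ∈ L ⊓ 𝐍(Q), g * a * g⁻¹ = b ∨ g * a * g⁻¹ = b⁻¹

/-- the centralizer `H ⟨c, s⟩` of the involution `c` of `L` -/
structure LH (L H : Subgroup G) (q : ℕ) (c s : G) : Prop where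
  le : H ≤ L
  cyc : IsCyclic H
  card : 4 * #|H| = q + 1
  cc : ∀ h ∈ H, c * h = h * c
  inv : ∀ h ∈ H, s * h * s⁻¹ = h⁻¹
  cent : ∀ g ∈ L, g * c = c * g → g ∈ H ∨ c * g ∈ H ∨ s * g ∈ H ∨ c * s * g ∈ H
  centh : ∀ h ∈ H, h ≠ 1 → ∀ g ∈ L, g * h = h * g → g ∈ H ∨ c * g ∈ H

structure LF (L : Subgroup G) (q : ℕ) : Prop where
  pow : ∃ e, q = 3 ^ (2 * e + 3)
  card : 2 * #|L| = q * (q ^ 2 - 1)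
  exQ : ∀ x ∈ L, x ^ 3 = 1 → ∃ Q, x ∈ Q ∧ LQ L Q q
  one : ∀ a ∈ L, a * a = 1 → a ≠ 1 → ∀ b ∈ L, b * b = 1 → b ≠ 1 → ∃ g ∈ L, g * a * g⁻¹ = b
  exH : ∀ c ∈ L, ∀ s ∈ L, c * c = 1 → s * s = 1 → c ≠ 1 → s ≠ 1 → s ≠ c → c * s = s * c →
    ∃ H, LH L H q c s
  rot : ∀ c ∈ L, ∀ s ∈ L, c * c = 1 → s * s = 1 → c ≠ 1 → s ≠ 1 → s ≠ c → c * s = s * c →
    ∃ w ∈ L, w ^ 3 = 1 ∧ w * c * w⁻¹ = s ∧ w * s * w⁻¹ = c * s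

def LFStmt : Prop := ∀ (G : Type u) [Group G] [Finite G] (L : Subgroup G) (F : Type) [Field F]
  [Finite F], (3 : F) = 0 → ¬ IsSquare (-1 : F) → 3 < Nat.card F → Nonempty (L ≃* PSL(2, F)) →
    LF L (Nat.card F)

/-- the inductive hypothesis for a proper subgroup -/
def IHStmt : Prop := ∀ (G : Type u) [Group G] [Finite G], SimpleLe.{u} (Nat.card G - 1) →
  NoReal G → ∀ K : Subgroup G, K ≠ ⊤ → ∃ J R : Subgroup G, R ≤ J ∧ J ≤ K ∧ K ≤ 𝐍(J) ∧ K ≤ 𝐍(R) ∧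
    (∀ g ∈ K, g * g = 1 → g ∈ J) ∧ ¬ 3 ∣ #|R| ∧
      (J ≤ R ∨ ∃ k m, 0 < k ∧ Odd m ∧ #|J| = #|R| * (4 ^ k * m)) ∧
      (∀ P ≤ K, (∀ g ∈ K, ∀ n, g ^ 2 ^ n = 1 → ∃ x ∈ K, x * g * x⁻¹ ∈ P) → P ≤ R → J ≤ R)

end Cfsg.Agent.NR
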