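import Cfsg.Agent.Lib.NR.R82b
import Cfsg.Agent.Lib.NR.R8D

/-! Elementary abelian Sylow 2-subgroup of order at least 8: assembly. -/

set_option autoImplicit false

namespace Cfsg.Agent.NR

open Subgroup FT SF.GP SF.T TwoGrp GW
open scoped MatrixGroups

universe u

/-- the output of the setup -/
def R80Stmt : Prop :=
  ∀ (G : Type u) [Group G] [Finite G] [IsSimpleGroup G], SimpleLe.{u} (Nat.card G - 1) → NoReal G →
    (∀ H : Subgroup G, ¬ IsStronglyEmbedded H) → ∀ (T : Set G) (S : Subgroup G), GO.Sce T S →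
    Tr.SylowIn 2 S ⊤ → GO.Trs ⊤ S → 8 ≤ #|S| → E8 S ∧ ∀ s ∈ S, s ≠ 1 →
      ∃ (L : Subgroup G) (F : Type) (_ : Field F) (_ : Finite F) (f : L →* PSL(2, F)), Lt S s L F f ∧
        ∃ ρ ∈ L ⊓ 𝐍(S), ∀ a ∈ S, ρ * a * ρ⁻¹ = a → a = 1 ∨ a = s

/-- the final contradiction -/
def EndStmt : Prop :=
  ∀ (G : Type u) [Group G] [Finite G] [IsSimpleGroup G], SimpleLe.{u} (Nat.card G - 1) → NoReal G →
    ∀ (S L : Subgroup G) (t : G) (q : ℕ), IsSylowIn 2 S ⊤ → (∀ a ∈ S, a * a = 1) → #|S| = 8 →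
    (∀ s ∈ S, s ≠ 1 → ∀ t ∈ S, t ≠ 1 → ∃ g ∈ 𝐍(S), g * s * g⁻¹ = t) → t ∈ S → t ≠ 1 → L ⊴ 𝐂[t] →
    LF L q → t ∉ L → 𝐂[t] ⊓ 𝐂(L) ≤ zpowers t → Odd ((zpowers t ⊔ L).relIndex 𝐂[t]) → False

theorem r8_of (h0 : R80Stmt.{u}) (lf : LFStmt.{u}) (he : EndStmt.{u}) : R8Stmt.{u} :=
  fun G _ _ _ ih nr hse T S e hS tr h8 => by
  obtain ⟨h, hL⟩ := h0 G ih nr hse T S e hS tr h8
  obtain ⟨t, ht, t1⟩ := exists_not_mem (S := S) (X := ⊥) (by rw [h.card, card_bot]; norm_num)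
  have hD := h.core_eq_bot hL ht t1
  obtain ⟨L, F, _, _, f, lt, -⟩ := hL t ht t1
  refine he G ih nr S L t _ h.syl h.sq h.card h.tr ht t1 ⟨lt.le, lt.nC⟩
    (lf G L F lt.h3 lt.hs lt.big ⟨MulEquiv.ofBijective f ⟨(injective_iff_map_eq_one f).2 fun x hx =>
      Subtype.ext (hD.le ((lt.ker x).1 hx)), lt.surj⟩⟩) lt.tL (fun g hg => ?_) lt.idx
  rcases lt.gam g (GO.mem_Gam.2 ⟨hg.1, fun y hy => by
    rw [← mem_cent.1 hg.2 y hy, mul_inv_cancel_right, mul_inv_cancel]; exact one_mem _⟩) with e | e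
  · exact mem_bot.1 (hD.le e) ▸ one_mem _
  · exact eq_inv_of_mul_eq_one_right (mem_bot.1 (hD.le e)) ▸ inv_mem (mem_zpowers t)

end Cfsg.Agent.NR
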