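import Cfsg.Agent.Lib.NR.R80c
import Cfsg.Agent.Lib.NR.R80n
import Cfsg.Agent.Lib.NR.R8Fin

/-!
# The setup for an elementary abelian Sylow 2-subgroup of order at least eight
-/

set_option autoImplicit false

namespace Cfsg.Agent.NR

open Subgroup Cfsg Cfsg.Agent.FT Cfsg.Agent.SF Cfsg.Agent.SF.GP Cfsg.Agent.SC Cfsg.Agent.GO

open scoped MatrixGroups

universe u

theorem r80 : R80Stmt.{u} := fun G _ _ hs ih h hse T S e hS tr h8 => by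
  have ht := fun t (ht : t ∈ S) t1 => exists_lt ih h hse e hS tr h8 ht t1
  have hρ : ∀ s ∈ S, s ≠ 1 → ∃ (L : Subgroup G) (F : Type) (_ : Field F) (_ : Finite F)
      (f : L →* PSL(2, F)), Lt S s L F f ∧ ∃ ρ ∈ L ⊓ 𝐍(S), ∀ a ∈ S, ρ * a * ρ⁻¹ = a → a = 1 ∨ a = s := fun s h1 h2 => by
    obtain ⟨L, F, _, _, f, l⟩ := ht s h1 h2
    obtain ⟨a, b, ρ, r⟩ := l.exists_rv
    exact ⟨L, F, _, inferInstance, f, l, ρ, ⟨r.rL, r.rS⟩, fun _ => l.fix r⟩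
  have hI : ∀ s ∈ S, s ≠ 1 → ∀ H, H ≠ ⊤ → 𝐂[s] ≤ H → H ≤ 𝐎(H) ⊔ 𝐂[s] := fun s h1 h2 H h3 h4 => by
    obtain ⟨L, F, _, _, f, l⟩ := ht s h1 h2
    obtain ⟨a, b, ρ, r⟩ := l.exists_rv
    exact l.hI r hse h3 h4
  obtain ⟨t, h1, t1⟩ := trivgPn.1 ((one_lt_card_iff_ne_bot S).1 (by omega))
  obtain ⟨L, F, _, _, f, l⟩ := ht t h1 t1
  obtain ⟨a, b, ρ, r⟩ := l.exists_rv
  refine ⟨⟨⟨hs, fun hc => noncomm_of_four e.two (by omega : 4 ≤ #|S|)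
    ⟨⟨IsSimpleGroup.comm_iff_isSolvable.2 hc⟩⟩⟩, ⟨hS.le, hS.isPGroup, hS.not_dvd⟩, l.sq, l.card8 r,
    fun s h2 s1 t h3 t1 => ?_, fun s h2 s1 => ?_, fun V hV h4 => l.w1 r tr hV h4, hI,
    r8_l1 e fun K L h2 h3 c => cmp_lq ih h e hS h2 h3 c, r8_n ht hI⟩, hρ⟩
  · obtain ⟨n, -, h4⟩ := tr s h2 s1 t h3 t1
    exact ⟨n, h4⟩
  · obtain ⟨L, F, _, _, f, l, ρ, h3, h4⟩ := hρ s h2 s1
    exact ⟨ρ, ⟨h3.2, l.le h3.1⟩, h4⟩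

end Cfsg.Agent.NR
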