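import Cfsg.Agent.Lib.NR.R80d

/-!
# Components of groups with abelian Sylow 2-subgroups
-/

set_option autoImplicit false
set_option linter.unusedVariables false
set_option linter.unusedSectionVars false

namespace Cfsg.Agent.NR

open Subgroup Cfsg Cfsg.Agent.FT Cfsg.Agent.SF Cfsg.Agent.SF.GP Cfsg.Agent.SC Cfsg.Agent.GO
open Cfsg.Agent.Tr (SylowIn)
open Cfsg.Agent.Ree (Ab PL)
open scoped MatrixGroups commutatorElement

universe u v

variable {G : Type u} [Group G] [Finite G] {T : Set G} {S E H K L : Subgroup G}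

theorem ab_of_sq (hS : SylowIn 2 S ⊤) (h : ∀ a ∈ S, a * a = 1) : Ab G := fun Q hQ x hx y hy => by
  obtain ⟨c, -, hc⟩ := hS.exists_cj_le hQ le_top
  have h1 := hc (Tr.conj_mem_cj.2 hx)
  have h2 := hc (Tr.conj_mem_cj.2 hy)
  have h3 : Commute (c * x * c⁻¹) (c * y * c⁻¹) := by
    rw [Commute, SemiconjBy, ← inv_eq_of_mul_eq_one_right (h _ (mul_mem h1 h2)), mul_inv_rev,
      inv_eq_of_mul_eq_one_right (h _ h1), inv_eq_of_mul_eq_one_right (h _ h2)]
  simpa [mul_assoc] using h3.map (MulAut.conj c⁻¹)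

theorem ab_of_surj (h : Ab G) {X : Type v} [Group X] [Finite X] (f : L →* X)
    (hf : Function.Surjective f) : Ab X := fun Q hQ x hx y hy => by
  obtain ⟨P, hP⟩ := hQ.exists_le_sylow
  obtain ⟨R, rfl⟩ := Sylow.mapSurjective_surjective hf 2 P
  obtain ⟨a, ha, rfl⟩ := hP hx
  obtain ⟨b, hb, rfl⟩ := hP hy
  have := h _ (R.isPGroup'.map L.subtype) a ⟨a, ha, rfl⟩ b ⟨b, hb, rfl⟩
  exact Commute.map (Subtype.ext this : Commute a b) f

theorem three_of_se [IsSimpleGroup G] (h : Ab G) (hH : IsStronglyEmbedded H) : 3 ∣ Nat.card G := by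
  obtain ⟨Q, w, hp⟩ := BS.bender G H hH
  obtain ⟨s, r, Q0, K, hr⟩ := hp.rich hp.rk2
  have hQ := hp.isPGroup hp.rk2
  obtain rfl : Q0 = Q := le_antisymm hr.Q0_le fun x hx =>
    (hr.memQ0 x).2 ⟨hx, (hp.concl hp.rk2).2 (h Q hQ) x hx⟩
  obtain rfl := hr.r_eq_s hr.rQ
  have ss := Tr.mul_self_of_orderOf_two hr.s2
  have e := hr.tst
  rw [Tr.inv_eq_of_mul_self ss] at e
  have h3 : (w * r) ^ 3 = 1 := by
    calc (w * r) ^ 3 = w * r * w * (r * w * r) := by simp only [pow_succ, pow_zero, one_mul, mul_assoc]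
      _ = r * (w * (r * r) * w) * r := by rw [e]; simp only [mul_assoc]
      _ = 1 := by rw [ss, mul_one, hr.tt, mul_one, ss]
  have h1 : w * r ≠ 1 := fun e1 => hr.ne (by
    rw [← hr.ta, eq_inv_of_mul_eq_one_left e1, Tr.inv_eq_of_mul_self ss, hr.Qa r hr.rQ])
  exact orderOf_eq_prime h3 h1 ▸ orderOf_dvd_natCard _

theorem central_eq_one (h : Ab G) {z : G} (hz : z ∈ center G) (hc : z ∈ commutator G)
    (z2 : z * z = 1) : z = 1 := by
  obtain ⟨P⟩ : Nonempty (Sylow 2 G) := inferInstance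
  have : IsMulCommutative (P : Subgroup G) := ⟨⟨fun x y => Subtype.ext (h _ P.isPGroup' _ x.2 _ y.2)⟩⟩
  open scoped IsMulCommutative in
  have h1 := MonoidHom.transfer_eq_pow (MonoidHom.id (P : Subgroup G)) z (fun k g _ => by
    rw [mul_assoc, ← mem_center_iff.1 (pow_mem hz k) g, inv_mul_cancel_left])
  rw [MonoidHom.mem_ker.1 (Abelianization.commutator_subset_ker _ hc)] at h1
  have h2 : z ^ (P : Subgroup G).index = 1 := (congrArg Subtype.val h1).symm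
  obtain ⟨k, hk⟩ : Odd (P : Subgroup G).index := Nat.odd_iff.2 (by have := P.not_dvd_index; omega)
  rwa [hk, pow_succ, pow_mul, pow_two, z2, one_pow, one_mul] at h2

theorem noncomm_of_four [IsSimpleGroup G] (hE : IsPGroup 2 E) (h4 : 4 ≤ #|E|) :
    ¬ IsMulCommutative G := fun hc => by
  obtain ⟨t, -, t2⟩ := Tr.exists_orderOf_two_of_ne_bot hE ((one_lt_card_iff_ne_bot _).1 (by omega))
  have h1 := (Subgroup.normal_of_isMulCommutative (zpowers t)).eq_bot_or_eq_top.resolve_left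
    (mt cycle_eq1.1 (Tr.ne_one_of_orderOf_two t2))
  have h2 := card_le_of_le (show E ≤ zpowers t from h1 ▸ le_top)
  rw [card_cycle, t2] at h2
  omega

theorem cmp_simple (c : Cmp T H L) : ∃ (X : Type u) (_ : Group X) (_ : Finite X) (f : L →* X),
    Function.Surjective f ∧ (∀ x, f x = 1 ↔ (x : G) ∈ Gam H L) ∧ IsSimpleGroup X ∧
      ¬ IsMulCommutative X := by
  have hN := normal_subgroupOf_of_norm c.norm_Gam
  have hs := QuotientGroup.mk'_surjective ((Gam H L).subgroupOf L)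
  have hk : ∀ x, QuotientGroup.mk' ((Gam H L).subgroupOf L) x = 1 ↔ (x : G) ∈ Gam H L :=
    fun x => QuotientGroup.eq_one_iff x
  refine ⟨_, inferInstance, inferInstance, _, hs, hk, ?_⟩
  generalize QuotientGroup.mk' ((Gam H L).subgroupOf L) = f at hs hk
  have nc : ¬ IsMulCommutative (L ⧸ (Gam H L).subgroupOf L) := fun hc =>
    c.not_le_Gam (c.perf.trans (sup_le (commutator_le.2 fun a ha b hb => (hk ⁅(⟨a, ha⟩ : L), ⟨b, hb⟩⁆).1 (by
      rw [map_commutatorElement, commutatorElement_eq_one_iff_mul_comm, hc.is_comm.comm]))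
      (D_le_Gam c.le_H)))
  refine ⟨?_, nc⟩
  have : Nontrivial (L ⧸ (Gam H L).subgroupOf L) := by
    by_contra h
    have := not_nontrivial_iff_subsingleton.1 h
    exact nc ⟨⟨fun a b => Subsingleton.elim _ _⟩⟩
  refine ⟨fun N hN => ?_⟩
  rcases c.qs ((N.comap f).map L.subtype) (map_subtype_le _) (norms_of_conj_mem (by
    rintro a ha _ ⟨b, hb, rfl⟩
    refine ⟨⟨a, ha⟩ * b * ⟨a, ha⟩⁻¹, ?_, rfl⟩
    show f _ ∈ N
    rw [map_mul, map_mul, map_inv]
    exact hN.conj_mem _ hb _)) with h3 | h3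
  · refine Or.inr (eq_top_iff.2 fun y _ => ?_)
    obtain ⟨x, rfl⟩ := hs y
    obtain ⟨y, hy, e⟩ := (sup_le le_rfl fun d hd => ⟨⟨d, c.D_le hd⟩, by
      show f _ ∈ N
      rw [(hk _).2 (D_le_Gam c.le_H hd)]
      exact one_mem N, rfl⟩ : _ ⊔ 𝐎(H) ≤ (N.comap f).map L.subtype) (h3 x.2)
    exact Subtype.ext e ▸ hy
  · refine Or.inl (eq_bot_iff.2 fun y hy => ?_)
    obtain ⟨x, rfl⟩ := hs y
    exact (hk x).2 (le_Gam.2 ⟨(map_subtype_le _).trans c.le_H, h3⟩ ⟨x, hy, rfl⟩)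

theorem cmp_inf_gam (ab : Ab G) (hT : Fam T) (c : Cmp T H L) : L ⊓ Gam H L ≤ 𝐎(H) := by
  have h0 : NN T H ⊔ 𝐎(H) ≤ H := sup_le (NN_le T H) (pcore_sub _ H)
  refine (le_core ?_ ⟨inf_le_left.trans c.le, normsI c.nrm' ((le_inf h0 c.nrm').trans
    (norm_Gam' H L))⟩).trans (pcore_normal_le _ ⟨h0, normsY (hT.NN_nrm H).nz (pcore_norm _ H)⟩)
  rw [← Nat.not_even_iff_odd, even_iff_two_dvd]
  intro hd
  obtain ⟨⟨z, zL, zG⟩, z2⟩ := exists_prime_orderOf_dvd_card' 2 hd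
  have z2 : orderOf z = 2 := (Subgroup.orderOf_coe _).trans z2
  have hN := normal_subgroupOf_of_norm c.nD
  have hs := QuotientGroup.mk'_surjective (𝐎(H).subgroupOf L)
  have hk : ∀ x, QuotientGroup.mk' (𝐎(H).subgroupOf L) x = 1 ↔ (x : G) ∈ 𝐎(H) :=
    fun x => QuotientGroup.eq_one_iff x
  generalize QuotientGroup.mk' (𝐎(H).subgroupOf L) = f at hs hk
  have zz := Tr.mul_self_of_orderOf_two z2
  refine Tr.ne_one_of_orderOf_two z2 (eq_one_of_odd_sq (odd_core H) ((hk ⟨z, zL⟩).1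
    (central_eq_one (ab_of_surj ab f hs) (mem_center_iff.2 fun y => ?_) ?_ ?_)) zz)
  · obtain ⟨y, rfl⟩ := hs y
    have := (hk (⟨z, zL⟩ * y * ⟨z, zL⟩⁻¹ * y⁻¹)).2 ((mem_Gam.1 zG).2 y y.2)
    rw [map_mul, map_mul, map_mul, map_inv, map_inv, mul_inv_eq_one, mul_inv_eq_iff_eq_mul] at this
    exact this.symm
  · obtain ⟨y, hy, e⟩ := (sup_le (commutator_le.2 fun a ha b hb => ⟨⁅(⟨a, ha⟩ : L), ⟨b, hb⟩⁆, by
        show f _ ∈ commutator _
        rw [map_commutatorElement]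
        exact commutator_mem_commutator (mem_top _) (mem_top _), rfl⟩)
      fun d hd => ⟨⟨d, c.D_le hd⟩, by
        show f _ ∈ commutator _
        rw [(hk _).2 hd]
        exact one_mem _, rfl⟩ : ⁅L, L⁆ ⊔ 𝐎(H) ≤ ((commutator _).comap f).map L.subtype) (c.perf zL)
    exact (Subtype.ext e : y = ⟨z, zL⟩) ▸ hy
  · rw [← map_mul, show (⟨z, zL⟩ * ⟨z, zL⟩ : L) = 1 from Subtype.ext zz, map_one]

theorem exists_loc [IsSimpleGroup G] (hse : ∀ H : Subgroup G, ¬ IsStronglyEmbedded H) (e : Sce T E)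
    (tr : Trs ⊤ E) (h8 : 8 ≤ #|E|) : Ctx T E ∧ ∀ c ∈ E, c ≠ 1 → Loc T E c (zpowers c) := by
  have hC := cent_top_bot (noncomm_of_four e.two (by omega : 4 ≤ #|E|))
  have x : Ctx T E := ⟨e, gn (SC.thmQ ZD.s1174) ZD.s1174 _,
    fun b _ b1 h => b1 (hC.le (sub_cent1.1 h.ge)), fun B hB hn => by
      rw [or_iff_not_imp_left]
      intro h
      obtain ⟨a, ha, a1⟩ := trivgPn.1 h
      refine le_antisymm hB fun b hb => ?_
      by_cases b1 : b = 1
      · exact b1 ▸ one_mem B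
      obtain ⟨n, -, h1, rfl⟩ := tr a (hB ha) a1 b hb b1
      exact (memJ_norm (hn h1)).2 ha⟩
  obtain ⟨F₁, F₂, m₁, m₂, h2⟩ : ∃ F₁ F₂, Mi T E F₁ ∧ Mi T E F₂ ∧ F₁ ⊓ F₂ = ⊥ := by
    by_contra hc
    obtain ⟨H, hH⟩ := x.alpha (fun F F' m m' e => hc ⟨F, F', m, m', e⟩) ZD.s1174 h8
    exact hse H hH
  obtain ⟨Φ, y⟩ := x.exists_fa m₁ m₂ h2
  have h3 : ⁅(⊤ : Subgroup G), (⊤ : Subgroup G)⁆ = ⊤ :=
    (IsSimpleGroup.eq_bot_or_eq_top_of_normal _ inferInstance).resolve_left fun h => by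
      rw [eq_bot_iff.2 (le_top.trans ((commG1P.1 h).trans hC.le) : E ≤ ⊥), card_bot] at h8
      omega
  exact ⟨x, fun c hc c1 => y.lc h3 hc c1⟩

theorem three_of_rot {t s x : G} (tt : t * t = 1) (t1 : t ≠ 1) (st : s ≠ t) (s1 : s ≠ 1)
    (cm : t * s = s * t) (ss : s * s = 1) (x1 : x * t * x⁻¹ = s) (x2 : x * s * x⁻¹ = t * s) :
    3 ∣ Nat.card G := by
  have x3 : x * (t * s) * x⁻¹ = t := by
    rw [show x * (t * s) * x⁻¹ = x * t * x⁻¹ * (x * s * x⁻¹) by group, x1, x2, cm, ← mul_assoc, ss,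
      one_mul]
  have k : ∀ n, x ^ (3 * n) * t * (x ^ (3 * n))⁻¹ = t := fun n => by
    induction n with
    | zero => simp
    | succ n ih =>
      calc _ = x * (x * (x * (x ^ (3 * n) * t * (x ^ (3 * n))⁻¹) * x⁻¹) * x⁻¹) * x⁻¹ := by group
        _ = t := by rw [ih, x1, x2, x3]
  by_contra h
  have h0 := pow_card_eq_one' (x := x)
  obtain ⟨n, e | e⟩ : ∃ n, Nat.card G = 3 * n + 1 ∨ Nat.card G = 3 * n + 2 := ⟨Nat.card G / 3, by omega⟩
  · refine st ?_
    calc s = x * (x ^ (3 * n) * t * (x ^ (3 * n))⁻¹) * x⁻¹ := by rw [k, x1]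
      _ = x ^ (3 * n + 1) * t * (x ^ (3 * n + 1))⁻¹ := by group
      _ = t := by rw [← e, h0]; group
  · refine s1 (mul_left_cancel (a := t) ?_)
    calc t * s = x * (x * (x ^ (3 * n) * t * (x ^ (3 * n))⁻¹) * x⁻¹) * x⁻¹ := by rw [k, x1, x2]
      _ = x ^ (3 * n + 2) * t * (x ^ (3 * n + 2))⁻¹ := by group
      _ = t * 1 := by rw [← e, h0]; group

/-- A nonabelian simple group with abelian Sylow 2-subgroups has order divisible by three. -/
theorem three_of_ab (n : ℕ) : ∀ (G : Type u) [Group G] [Finite G] [IsSimpleGroup G], Nat.card G = n →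
    Ab G → ¬ IsMulCommutative G → 3 ∣ Nat.card G := by
  induction n using Nat.strong_induction_on with | _ n ih => ?_
  intro G _ _ _ hn ab hc
  by_contra h3
  have hse : ∀ H : Subgroup G, ¬ IsStronglyEmbedded H := fun H hH => h3 (three_of_se ab hH)
  obtain ⟨T, E, e, hS, tr, le⟩ := exists_sce (fun x hx _ => h3 (hx ▸ orderOf_dvd_natCard x)) hc hse
  rcases le.eq_or_lt with e4 | lt
  · obtain ⟨t, ht, s, hs, x, t1, s1, st, x1, x2⟩ := exists_rot e tr e4.symm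
    exact h3 (three_of_rot (e.ee ht) t1 st s1 (e.comm ht hs) (e.ee hs) x1 x2)
  have h8 : 8 ≤ #|E| := by
    obtain ⟨j, hj⟩ := card_pgroup e.two
    rw [hj] at lt ⊢
    exact Nat.pow_le_pow_right (i := 3) two_pos ((Nat.pow_lt_pow_iff_right one_lt_two (n := 2)).1 lt)
  obtain ⟨x, l⟩ := exists_loc hse e tr h8
  obtain ⟨t, ht, t1⟩ := trivgPn.1 ((one_lt_card_iff_ne_bot E).1 (by omega))
  have c := (l t ht t1).cmp
  obtain ⟨X, _, _, f, hs, -, _, nc⟩ := cmp_simple c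
  have h1 := card_dvd_of_surjective f hs
  refine h3 ((ih _ ?_ X rfl (ab_of_surj ab f hs) nc).trans (h1.trans (card_subgroup_dvd_card _)))
  refine (Nat.le_of_dvd Nat.card_pos h1).trans_lt ((card_le_of_le c.le_H).trans_lt ?_)
  simpa [hn] using proper_card (lt_top_iff_ne_top.2 (x.lt t ht t1))

theorem cmp_lq (ih : SimpleLe.{u} (Nat.card G - 1)) (h : NoReal G) (e : Sce T S) (hS : SylowIn 2 S ⊤)
    (hK : K ≠ ⊤) (SK : S ≤ K) (c : Cmp T K L) :
    ∃ (F : Type) (_ : Field F) (_ : Finite F) (f : L →* PSL(2, F)), Lq S K L F f := by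
  have ab := ab_of_sq hS fun a ha => e.ee ha
  obtain ⟨X, _, _, f, hs, hk, _, nc⟩ := cmp_simple c
  have hX := (h.subgroup L).of_surjective f hs
  have h3 := three_of_ab _ X rfl (ab_of_surj ab f hs) nc
  have hlt : #|K| < Nat.card G := by simpa using proper_card (lt_top_iff_ne_top.2 hK)
  obtain ⟨m, hm, ⟨φ⟩⟩ := ih X (Nat.le_sub_one_of_lt ((Nat.le_of_dvd Nat.card_pos
    (card_dvd_of_surjective f hs)).trans_lt ((card_le_of_le c.le_H).trans_lt hlt))) hX h3 nc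
  have p := c.prp (gn (SC.thmQ ZD.s1174) ZD.s1174 _) hlt e SK
  have nS := c.E_norm p e SK
  have hc : Nat.card (GaloisField 3 (2 * m + 1)) = 3 ^ (2 * m + 1) := GaloisField.card 3 _ (by omega)
  have hsi := φ.symm.isSimpleGroup
  have := Fintype.ofFinite (GaloisField 3 (2 * m + 1))
  refine ⟨GaloisField 3 (2 * m + 1), inferInstance, inferInstance, φ.toMonoidHom.comp f, hS,
    fun a ha => e.ee ha, SK, c.D_le, c.le_H, nS, fun a ha => p.dec e nS ha, φ.surjective.comp hs,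
    fun x => ?_, (galois_facts m).1, (galois_facts m).2, ?_, hsi, PL.of_iso ?_ topEquiv,
    (hX.of_equiv φ).not_se (Nat.card_congr φ.toEquiv ▸ h3)⟩
  · simp only [MulEquiv.toMonoidHom_eq_coe, MonoidHom.coe_comp, MonoidHom.coe_coe,
      Function.comp_apply, map_eq_one_iff _ φ.injective, hk]
    exact ⟨fun h => cmp_inf_gam ab e.fam c ⟨x.2, h⟩, fun h => D_le_Gam c.le_H h⟩
  · rw [hc]
    exact (Nat.pow_lt_pow_right (by omega) (by omega : 1 < 2 * m + 1)).trans_le' (by omega)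
  · rw [← Nat.card_eq_fintype_card, hc]
    exact Odd.pow (by decide)

end Cfsg.Agent.NR
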