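import Cfsg.Agent.Lib.NR.R80a
import Cfsg.Agent.Lib.NR.R81

/-!
# The centralizer of an involution in the case of an elementary abelian Sylow 2-subgroup
-/

set_option autoImplicit false
set_option linter.unusedVariables false
set_option linter.unusedSectionVars false

namespace Cfsg.Agent.NR

open Subgroup Cfsg Cfsg.Agent.FT Cfsg.Agent.SF Cfsg.Agent.SF.GP Cfsg.Agent.SC Cfsg.Agent.GO
open Cfsg.Agent.Tr (SylowIn)
open Cfsg.Agent.Ree (Ab PL)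
open scoped MatrixGroups

universe u

variable {G : Type u} [Group G] [Finite G] {T : Set G} {S E H K L V W : Subgroup G} {t a b ρ : G}

/-- The four-group `S ⊓ L` with a rotation `ρ`. -/
structure Rv (S L : Subgroup G) (a b ρ : G) : Prop where
  memV : ∀ v, v ∈ S ⊓ L ↔ v = 1 ∨ v = a ∨ v = b ∨ v = a * b
  a1 : a ≠ 1
  b1 : b ≠ 1
  ne : a ≠ b
  rL : ρ ∈ L
  rS : ρ ∈ 𝐍(S)
  ra : ρ * a * ρ⁻¹ = b
  rb : ρ * b * ρ⁻¹ = a * b

namespace Lq

variable {F : Type} [Field F] [Finite F] {f : L →* PSL(2, F)} (q : Lq S K L F f)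
include q

theorem ab : Ab G := ab_of_sq q.syl q.sq

theorem cS {x y : G} (hx : x ∈ S) (hy : y ∈ S) : Commute x y := q.ab S q.syl.isPGroup x hx y hy

theorem sylV : SylowIn 2 (S ⊓ L) L := q.syl.inf_of_le_normalizer le_top q.nS

theorem eq_one {x : G} (hx : x ∈ S) (h : x ∈ 𝐎(K)) : x = 1 := eq_one_of_odd_sq (odd_core K) h (q.sq x hx)

theorem noncomm : ¬ IsMulCommutative PSL(2, F) := fun hc =>
  have := normal_of_isMulCommutative (U F)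
  w_not_mem (F := F) (le_normalizer_of_normal (mem_top _))

theorem inf_gam : L ⊓ Gam K L ≤ 𝐎(K) := fun x hx => by
  have := q.simp
  refine (q.ker ⟨x, hx.1⟩).1 ((cent_top_bot q.noncomm).le (mem_cent.2 fun y _ => ?_))
  obtain ⟨y, rfl⟩ := q.surj y
  have := (q.ker (⟨x, hx.1⟩ * y * ⟨x, hx.1⟩⁻¹ * y⁻¹)).2 ((mem_Gam.1 hx.2).2 y y.2)
  rw [map_mul, map_mul, map_mul, map_inv, map_inv, mul_inv_eq_one, mul_inv_eq_iff_eq_mul] at this
  exact this.symm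

theorem core_le : 𝐎(L) ≤ 𝐎(K) := fun x hx => by
  have := (normal_subgroupOf_of_norm (pcore_norm {2}ᶜ L)).map f q.surj
  refine (q.ker ⟨x, pcore_sub _ L hx⟩).1 ((le_core (X := ⊤) (Y := (𝐎(L).subgroupOf L).map f) ?_
    ⟨le_top, le_normalizer_of_normal⟩).trans q.pl.core.le (mem_map_of_mem f hx))
  exact (odd_core L).of_dvd_nat ((card_map_dvd _ _).trans
    (Nat.card_congr (subgroupOfEquivOfLe (pcore_sub _ L)).toEquiv).dvd)

theorem inj {x y : G} (hx : x ∈ S ⊓ L) (hy : y ∈ S ⊓ L) (h : f ⟨x, hx.2⟩ = f ⟨y, hy.2⟩) : x = y :=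
  mul_inv_eq_one.1 (q.eq_one (mul_mem hx.1 (inv_mem hy.1)) ((q.ker (⟨x, hx.2⟩ * ⟨y, hy.2⟩⁻¹)).1 (by
    rw [map_mul, map_inv, h, mul_inv_cancel])))

theorem order {x : G} (hx : x ∈ S ⊓ L) (x1 : x ≠ 1) : orderOf (f ⟨x, hx.2⟩) = 2 :=
  Tr.orderOf_eq_two (by
    rw [← map_mul, show (⟨x, hx.2⟩ * ⟨x, hx.2⟩ : L) = 1 from Subtype.ext (q.sq x hx.1), map_one])
    fun h => x1 (q.eq_one hx.1 ((q.ker _).1 h))

theorem exists_rv : ∃ a b ρ, Rv S L a b ρ := by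
  obtain ⟨a₀, -, a0⟩ := q.pl.ex
  obtain ⟨a, ha, a1⟩ := trivgPn.1 (q.sylV.ne_bot
    ((a0 ▸ orderOf_dvd_natCard a₀).trans (card_dvd_of_surjective f q.surj)))
  have sM : SylowIn 2 S (L ⊔ S) := q.syl.mono le_sup_right le_top
  obtain ⟨n, hn, hnS, hna⟩ : ∃ n ∈ L, n ∈ 𝐍(S) ∧ ¬ Commute n a := by
    by_contra! hc
    refine a1 (q.eq_one ha.1 (q.inf_gam ⟨ha.2, mem_Gam.2 ⟨q.le ha.2, fun g hg => q.core_le
      (inf_core_le (X := L ⊔ S) le_sup_left ⟨q.ab.iso sM ha.1 (Tr.orderOf_eq_two (q.sq a ha.1) a1)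
        (fun n h1 h2 => ?_) (mem_sup_left hg),
        L.mul_mem (L.mul_mem (L.mul_mem ha.2 hg) (L.inv_mem ha.2)) (L.inv_mem hg)⟩)⟩⟩))
    obtain ⟨l, hl, s, hs, rfl⟩ := (Tr.mem_sup_of_le_normalizer' q.nS).1 h1
    exact (hc l hl ((mul_mem_cancel_right (le_normalizer hs)).1 h2)).mul_left (q.cS hs ha.1)
  have nV : ∀ x ∈ S ⊓ L, n * x * n⁻¹ ∈ S ⊓ L := fun x hx =>
    ⟨(memJ_norm hnS).2 hx.1, L.mul_mem (L.mul_mem hn hx.2) (L.inv_mem hn)⟩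
  obtain ⟨b, eb⟩ : ∃ b, n * a * n⁻¹ = b := ⟨_, rfl⟩
  have hb : b ∈ S ⊓ L := eb ▸ nV a ha
  have b1 : b ≠ 1 := eb ▸ mt conj_eq_one_iff.1 a1
  have ne : a ≠ b := fun e => hna (by rw [← e, mul_inv_eq_iff_eq_mul] at eb; exact eb)
  have cm : ∀ {x y : G} (hx : x ∈ S ⊓ L) (hy : y ∈ S ⊓ L), Commute (f ⟨x, hx.2⟩) (f ⟨y, hy.2⟩) :=
    fun hx hy => Commute.map (Subtype.ext (q.cS hx.1 hy.1).eq) f
  have memV : ∀ v, v ∈ S ⊓ L ↔ v = 1 ∨ v = a ∨ v = b ∨ v = a * b := by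
    refine fun v => ⟨fun hv => ?_, ?_⟩
    · by_cases v1 : v = 1
      · exact Or.inl v1
      refine Or.inr ((q.pl.three _ trivial _ trivial _ trivial (q.order ha a1) (q.order hb b1)
        (q.order hv v1) (cm ha hb) (cm ha hv) (cm hb hv) (mt (q.inj ha hb) ne)).imp (q.inj hv ha)
        (Or.imp (q.inj hv hb) fun e => q.inj hv (mul_mem ha hb) (e.trans (map_mul f _ _).symm)))
    · rintro (rfl | rfl | rfl | rfl)
      exacts [one_mem _, ha, hb, mul_mem ha hb]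
  refine ⟨a, b, n, memV, a1, b1, ne, hn, hnS, eb, ?_⟩
  rcases (memV _).1 (nV b hb) with e' | e' | e' | e'
  · exact absurd (conj_eq_one_iff.1 e') b1
  · refine absurd (q.ab.sqc q.syl.isPGroup hnS ha.1 (mul_inv_eq_iff_eq_mul.1 ?_)) hna
    calc n * n * a * (n * n)⁻¹ = n * (n * a * n⁻¹) * n⁻¹ := by group
      _ = a := by rw [eb, e']
  · exact absurd (by simpa using eb.trans e'.symm) ne
  · exact e'

end Lq

namespace Rv

variable (r : Rv S L a b ρ)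
include r

theorem aV : a ∈ S ⊓ L := (r.memV a).2 (by simp)

theorem bV : b ∈ S ⊓ L := (r.memV b).2 (by simp)

theorem four (h : ∀ x ∈ S, x * x = 1) : IsKleinFour ↥(S ⊓ L) :=
  TwoGrp.isKleinFour_of_mem_iff (h a r.aV.1) (h b r.bV.1) (comm_of_sq h r.aV.1 r.bV.1) r.a1 r.b1 r.ne
    r.memV

theorem rab (h : ∀ x ∈ S, x * x = 1) : ρ * (a * b) * ρ⁻¹ = a := by
  calc ρ * (a * b) * ρ⁻¹ = (ρ * a * ρ⁻¹) * (ρ * b * ρ⁻¹) := by group
    _ = a := by rw [r.ra, r.rb, comm_of_sq h r.aV.1 r.bV.1, ← mul_assoc, h b r.bV.1, one_mul]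

theorem fix (h : ∀ x ∈ S, x * x = 1) {v : G} (hv : v ∈ S ⊓ L) (e : ρ * v * ρ⁻¹ = v) : v = 1 := by
  rcases (r.memV v).1 hv with e' | e' | e' | e'
  · exact e'
  · rw [e', r.ra] at e; exact absurd e.symm r.ne
  · rw [e', r.rb] at e; exact absurd (mul_eq_right.1 e) r.a1
  · rw [e', r.rab h] at e; exact absurd (mul_eq_left.1 e.symm) r.b1

theorem conjV {v w : G} (hv : v ∈ S ⊓ L) (v1 : v ≠ 1) (hw : w ∈ S ⊓ L) (w1 : w ≠ 1) :
    ∃ g ∈ L, g ∈ 𝐍(S) ∧ g * v * g⁻¹ = w := by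
  have k : ∀ v ∈ S ⊓ L, v ≠ 1 → ∃ g ∈ L, g ∈ 𝐍(S) ∧ g * a * g⁻¹ = v := fun v hv v1 => by
    rcases (r.memV v).1 hv with e | e | e | e
    · exact absurd e v1
    · exact ⟨1, one_mem _, one_mem _, by simp [e]⟩
    · exact ⟨ρ, r.rL, r.rS, e ▸ r.ra⟩
    · exact ⟨ρ * ρ, mul_mem r.rL r.rL, mul_mem r.rS r.rS, by rw [e, ← r.rb, ← r.ra]; group⟩
  obtain ⟨g, h1, h2, rfl⟩ := k v hv v1
  obtain ⟨g', h3, h4, rfl⟩ := k w hw w1
  exact ⟨g' * g⁻¹, mul_mem h3 (inv_mem h1), mul_mem h4 (inv_mem h2), by group⟩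

theorem fixa (ab : Ab G) (hS : IsPGroup 2 S) (h : ∀ x ∈ S, x * x = 1) {g : G} (hg : g ∈ 𝐍(S ⊓ L))
    (e : g * a * g⁻¹ = a) : g ∈ 𝐂(S ⊓ L) := by
  have e1 : Commute g a := mul_inv_eq_iff_eq_mul.1 e
  have e2 : Commute g b := by
    rcases (r.memV _).1 ((memJ_norm hg).2 r.bV) with e' | e' | e' | e'
    · exact absurd (conj_eq_one_iff.1 e') r.b1
    · exact absurd (by simpa using e.trans e'.symm) r.ne
    · exact mul_inv_eq_iff_eq_mul.1 e'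
    · refine ab.sqc (pgroup_sub inf_le_left hS) hg r.bV (mul_inv_eq_iff_eq_mul.1 ?_)
      calc g * g * b * (g * g)⁻¹ = g * (g * b * g⁻¹) * g⁻¹ := by group
        _ = g * (a * b) * g⁻¹ := by rw [e']
        _ = (g * a * g⁻¹) * (g * b * g⁻¹) := by group
        _ = b := by rw [e, e', ← mul_assoc, h a r.aV.1, one_mul]
  intro v hv
  rcases (r.memV v).1 hv with rfl | rfl | rfl | rfl
  exacts [by simp, e1.symm, e2.symm, (e1.mul_right e2).symm]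

end Rv

theorem exists_lt [IsSimpleGroup G] (ih : SimpleLe.{u} (Nat.card G - 1)) (h : NoReal G)
    (hse : ∀ H : Subgroup G, ¬ IsStronglyEmbedded H) (e : Sce T S) (hS : SylowIn 2 S ⊤)
    (tr : Trs ⊤ S) (h8 : 8 ≤ #|S|) (ht : t ∈ S) (t1 : t ≠ 1) :
    ∃ (L : Subgroup G) (F : Type) (_ : Field F) (_ : Finite F) (f : L →* PSL(2, F)), Lt S t L F f := by
  obtain ⟨x, l⟩ := exists_loc hse e tr h8
  have l := l t ht t1
  obtain ⟨F, _, _, f, q⟩ := cmp_lq ih h e hS (x.lt t ht t1) (e.cent1 ht) l.cmp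
  have nC := (cent_cycle t).ge.trans (l.cent_normL x)
  have hz : ∀ {y}, y ∈ zpowers t → y = 1 ∨ y = t := fun hy => by
    obtain ⟨j, rfl⟩ := hy
    have h3 : ∀ i : ℤ, t ^ (2 * i) = 1 := fun i => by rw [zpow_mul, zpow_two, e.ee ht, one_zpow]
    obtain ⟨i, rfl | rfl⟩ := j.even_or_odd'
    · exact Or.inl (h3 i)
    · simp [zpow_add, h3]
  have decS : ∀ s ∈ S, s ∈ LL S t (zpowers t) ∨ t * s ∈ LL S t (zpowers t) := fun s hs => by
    obtain ⟨a, ha, h1⟩ := q.dec s hs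
    rcases hz (l.mem_F (mul_mem ha.1 hs) h1) with h2 | h2
    · exact Or.inl (eq_inv_of_mul_eq_one_right h2 ▸ inv_mem ha.2)
    · exact Or.inr ((show a = t * s by rw [← h2, mul_assoc, e.ee hs, mul_one]) ▸ ha.2)
  refine ⟨_, F, _, inferInstance, f, q, ht, t1, nC,
    fun h1 => t1 (q.eq_one ht (q.inf_gam ⟨h1, mem_Gam_self t q.le⟩)), decS, fun g hg => ?_, ?_⟩
  · have nG := (le_inf le_rfl nC).trans (norm_Gam' 𝐂[t] _)
    have h1 := hS.inf_of_le_normalizer le_top (q.SK.trans nG)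
    rw [show S ⊓ Gam 𝐂[t] (LL S t (zpowers t)) = zpowers t from l.eq] at h1
    obtain ⟨o, ho, s, hs, rfl⟩ := ((GW.tn_of_has (h1.hasNormalPComplement_of_burnside
      (inf_le_right.trans ((Gam_le _ _).trans (cent_cycle t).ge)))).sdprod
        ⟨h1.le, h1.isPGroup, h1.not_dvd⟩).exists hg
    have h2 := pcore_normal_le _ ⟨Gam_le _ _, nG⟩ ho
    rcases hz hs with rfl | rfl
    · exact Or.inl (by rwa [mul_one])
    · exact Or.inr (by rwa [mem_cent1.1 (pcore_sub _ _ h2), ← mul_assoc, e.ee ht, one_mul])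
  · have := (hS.mono q.SK le_top).not_dvd_relIndex_of_le
      (K := zpowers t ⊔ LL S t (zpowers t)) (fun s hs => (decS s hs).elim mem_sup_right fun h1 =>
        (mul_mem_cancel_left (mem_sup_left (mem_zpowers t))).1 (mem_sup_right h1))
      (sup_le (cycle_subG.2 (cent1id t)) q.le)
    exact Nat.odd_iff.2 (by omega)

theorem se_of_tr (t2 : orderOf t = 2) (hH : H ≠ ⊤) (hC : 𝐂[t] ≤ H)
    (k : ∀ x ∈ H, orderOf x = 2 → ∃ m ∈ H, m * t * m⁻¹ = x) : IsStronglyEmbedded H := by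
  refine ⟨hH, even_iff_two_dvd.2 (t2 ▸ H.orderOf_dvd_natCard (hC (cent1id t))), fun g hg => ?_⟩
  rw [← Nat.not_even_iff_odd, even_iff_two_dvd]
  intro hd
  obtain ⟨⟨s, h4, m, h5, e⟩, s2⟩ := exists_prime_orderOf_dvd_card' 2 hd
  have s2 : orderOf s = 2 := (Subgroup.orderOf_coe _).trans s2
  obtain rfl : g * m * g⁻¹ = s := e
  obtain ⟨m₁, h6, e1⟩ := k _ h4 s2
  obtain ⟨m₂, h7, rfl⟩ := k m h5 ((BS.orderOf_conj g m).symm.trans s2)
  have : m₁⁻¹ * (g * m₂) ∈ H := hC (mem_cent1.2 (by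
    calc _ = m₁⁻¹ * (g * (m₂ * t * m₂⁻¹) * g⁻¹) * (g * m₂) := by group
      _ = _ := by rw [← e1]; group))
  exact hg ((H.mul_mem_cancel_right h7).1 ((H.mul_mem_cancel_left (inv_mem h6)).1 this))

end Cfsg.Agent.NR
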