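import Cfsg.Agent.Lib.NR.R80b

/-!
# The action of the normalizer of the Sylow 2-subgroup of order eight
-/

set_option autoImplicit false
set_option linter.unusedVariables false
set_option linter.unusedSectionVars false

namespace Cfsg.Agent.NR

open Subgroup Cfsg Cfsg.Agent.FT Cfsg.Agent.SF Cfsg.Agent.SF.GP Cfsg.Agent.SC Cfsg.Agent.GO
open Cfsg.Agent.Tr (SylowIn)
open Cfsg.Agent.Ree (Ab PL)
open scoped MatrixGroups

universe u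

variable {G : Type u} [Group G] [Finite G] {T : Set G} {S E H K L V W : Subgroup G} {t a b ρ : G}

namespace Lt

variable {F : Type} [Field F] [Finite F] {f : L →* PSL(2, F)} (h : Lt S t L F f) (r : Rv S L a b ρ)
include h

theorem tt : t * t = 1 := h.sq t h.tS

theorem dec' {s : G} (hs : s ∈ S) : s ∈ S ⊓ L ∨ ∃ v ∈ S ⊓ L, s = t * v :=
  (h.decS s hs).imp (fun e => ⟨hs, e⟩) fun e =>
    ⟨_, ⟨S.mul_mem h.tS hs, e⟩, by rw [← mul_assoc, h.tt, one_mul]⟩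

theorem conj_t {g : G} (hg : g ∈ L) (v : G) : g * (t * v) * g⁻¹ = t * (g * v * g⁻¹) := by
  rw [← mul_assoc, mem_cent1.1 (h.le hg)]; group

include r

theorem card8 : #|S| = 8 := by
  have h1 : (S ⊓ L).relIndex S = 2 := relIndex_eq_two_iff.2 ⟨t, h.tS, fun x hx => by
    by_cases e : x ∈ S ⊓ L
    · exact Or.inr ⟨e, fun e' => h.tL ((L.mul_mem_cancel_left e.2).1 e'.2)⟩
    · refine Or.inl ⟨⟨mul_mem hx h.tS, ?_⟩, e⟩
      rw [(h.cS hx h.tS).eq]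
      exact (h.decS x hx).resolve_left fun e' => e ⟨hx, e'⟩⟩
  rw [← Tr.card_mul_relIndex (inf_le_left : S ⊓ L ≤ S), h1, (r.four h.sq).card_four]

theorem fix {x : G} (hx : x ∈ S) (e : ρ * x * ρ⁻¹ = x) : x = 1 ∨ x = t := by
  rcases h.dec' hx with e' | ⟨v, hv, rfl⟩
  · exact Or.inl (r.fix h.sq e' e)
  · rw [h.conj_t r.rL] at e
    exact Or.inr (by rw [r.fix h.sq hv (mul_left_cancel e), mul_one])

theorem comm_t {g : G} (hg : g ∈ 𝐍(S)) (hV : g ∈ 𝐍(S ⊓ L)) : Commute g t := by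
  obtain ⟨k, h1, h2, e1⟩ := r.conjV ((memJ_norm hV).2 r.aV) (mt conj_eq_one_iff.1 r.a1) r.aV r.a1
  have h0 : k * g ∈ 𝐍(S ⊓ L) := mul_mem (normsI (le_refl 𝐍(S) |>.trans' inf_le_right) (inf_le_left.trans
    (normG L)) (show k ∈ L ⊓ 𝐍(S) from ⟨h1, h2⟩)) hV
  have h3 := r.fixa h.ab h.syl.isPGroup h.sq h0 (by
    conv_rhs => rw [← e1]
    group)
  obtain ⟨v, hv, e2⟩ := (h.dec' ((memJ_norm (mul_mem h2 hg)).2 h.tS)).resolve_left fun e =>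
    h.tL ((memJ_norm h0).1 e).2
  have h5 := h.ab.sqc h.syl.isPGroup (mul_mem h2 hg) h.tS (mul_inv_eq_iff_eq_mul.1 (by
    calc k * g * (k * g) * t * (k * g * (k * g))⁻¹
        = k * g * (k * g * t * (k * g)⁻¹) * (k * g)⁻¹ := by group
      _ = k * g * (t * v) * (k * g)⁻¹ := by rw [e2]
      _ = k * g * t * (k * g)⁻¹ * (k * g * v * (k * g)⁻¹) := by group
      _ = t := by rw [e2, ← h3 _ hv, mul_inv_cancel_right, mul_assoc, h.sq v hv.1, mul_one]))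
  simpa using (show Commute k t from mem_cent1.1 (h.le h1)).inv_left.mul_left h5

theorem tr (hH : L ≤ H) {g : G} (hg : g ∈ H) (hgS : g ∈ 𝐍(S)) (hc : ¬ Commute g t) {s : G}
    (hs : s ∈ S) (s1 : s ≠ 1) : ∃ n ∈ H, n ∈ 𝐍(S) ∧ n * t * n⁻¹ = s := by
  let R : G → Prop := fun s => ∃ n ∈ H, n ∈ 𝐍(S) ∧ n * t * n⁻¹ = s
  have Rc : ∀ n ∈ H, n ∈ 𝐍(S) → ∀ x, R (n * x * n⁻¹) → R x := fun n h1 h2 x ⟨m, h3, h4, e⟩ =>
    ⟨n⁻¹ * m, mul_mem (inv_mem h1) h3, mul_mem (inv_mem h2) h4, by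
      calc _ = n⁻¹ * (m * t * m⁻¹) * n := by group
        _ = x := by rw [e]; group⟩
  have R1 : R t := ⟨1, one_mem _, one_mem _, by simp⟩
  have RV : ∀ v ∈ S ⊓ L, v ≠ 1 → ∀ w ∈ S ⊓ L, w ≠ 1 → (R w → R v) ∧ (R (t * w) → R (t * v)) :=
    fun v hv v1 w hw w1 => by
      obtain ⟨k, h1, h2, rfl⟩ := r.conjV hv v1 hw w1
      exact ⟨Rc k (hH h1) h2 v, fun e => Rc k (hH h1) h2 _ (by rwa [h.conj_t h1])⟩
  have Rg : R (g * t * g⁻¹) := ⟨g, hg, hgS, rfl⟩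
  have g1 : g * t * g⁻¹ ≠ 1 := mt conj_eq_one_iff.1 h.t1
  have tL : ∀ x ∈ L, Commute x t := fun x hx => mem_cent1.1 (h.le hx)
  have hA : R a := by
    by_contra hA
    obtain ⟨v, hv, e⟩ := (h.dec' ((memJ_norm hgS).2 h.tS)).resolve_left fun e =>
      hA ((RV a r.aV r.a1 _ e g1).1 Rg)
    have v1 : v ≠ 1 := fun e' => hc (mul_inv_eq_iff_eq_mul.1 (by simpa [e'] using e))
    refine hc (h.comm_t r hgS (Tr.mem_normalizer_of_forall fun x hx => ?_))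
    refine (h.dec' ((memJ_norm hgS).2 hx.1)).resolve_right fun ⟨w, hw, e'⟩ => ?_
    have x1 : x ≠ 1 := by
      rintro rfl
      exact h.tL ((L.mul_mem_cancel_right hw.2).1 (e' ▸ by simp))
    refine hA ((RV a r.aV r.a1 x hx x1).1 (Rc g hg hgS x ?_))
    by_cases w1 : w = 1
    · rw [e', w1, mul_one]; exact R1
    · exact e' ▸ (RV w hw w1 v hv v1).2 (e ▸ Rg)
  have hB : R (t * a) := by
    by_contra hB
    have h1 := (h.dec' ((memJ_norm hgS).2 h.tS)).resolve_right fun ⟨v, hv, e⟩ =>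
      hB ((RV a r.aV r.a1 v hv fun e' => hc (mul_inv_eq_iff_eq_mul.1 (by simpa [e'] using e))).2
        (e ▸ Rg))
    have k : ∀ x ∈ S ⊓ L, x ≠ 1 → ∃ v ∈ S ⊓ L, g * (t * x) * g⁻¹ = t * v := fun x hx x1 =>
      (h.dec' ((memJ_norm hgS).2 (S.mul_mem h.tS hx.1))).resolve_left fun e =>
        hB ((RV a r.aV r.a1 x hx x1).2 (Rc g hg hgS _ ((RV _ e (by
          simp only [ne_eq, conj_eq_one_iff]
          exact fun e' => h.tL ((L.mul_mem_cancel_right hx.2).1 (e' ▸ L.one_mem))) a r.aV r.a1).1 hA)))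
    obtain ⟨v₁, h2, e1⟩ := k a r.aV r.a1
    obtain ⟨v₂, h3, e2⟩ := k b r.bV r.b1
    obtain ⟨v₃, h4, e3⟩ := k (a * b) (mul_mem r.aV r.bV) fun e => r.ne (by
      rw [eq_inv_of_mul_eq_one_left e, inv_eq_iff_mul_eq_one, h.sq b r.bV.1])
    have e4 : t * a * (t * b) = a * b := by
      rw [← (tL a r.aV.2).eq, mul_assoc, ← mul_assoc t, h.tt, one_mul]
    have e5 : g * (a * b) * g⁻¹ = v₁ * v₂ := by
      calc _ = g * (t * a) * g⁻¹ * (g * (t * b) * g⁻¹) := by rw [← e4]; group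
        _ = _ := by rw [e1, e2, ← (tL v₁ h2.2).eq, mul_assoc, ← mul_assoc t, h.tt, one_mul]
    refine h.tL ((L.mul_mem_cancel_right h4.2).1 ?_)
    rw [← e3, show g * (t * (a * b)) * g⁻¹ = g * t * g⁻¹ * (g * (a * b) * g⁻¹) by group, e5]
    exact mul_mem h1.2 (mul_mem h2.2 h3.2)
  rcases h.dec' hs with e | ⟨v, hv, rfl⟩
  · exact (RV s e s1 a r.aV r.a1).1 hA
  · by_cases v1 : v = 1
    · rw [v1, mul_one]; exact R1
    · exact (RV v hv v1 a r.aV r.a1).2 hB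

theorem hI (hse : ∀ H : Subgroup G, ¬ IsStronglyEmbedded H) (hH : H ≠ ⊤) (hC : 𝐂[t] ≤ H) :
    H ≤ 𝐎(H) ⊔ 𝐂[t] := by
  have sH : SylowIn 2 S H := h.syl.mono (h.SK.trans hC) le_top
  have t2 := Tr.orderOf_eq_two h.tt h.t1
  by_cases hc : ∀ n ∈ H, n ∈ 𝐍(S) → Commute n t
  · have hn := (cycle_subG.2 (sH.le h.tS)).trans (pcore_norm {2}ᶜ H)
    refine (cover (odd_core H) (pgroup_mem h.syl.isPGroup h.tS) (pcore_sub _ H) (pcore_norm _ H) hn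
      ?_).trans (sup_le_sup_left (inf_le_right.trans (cent_cycle t).le) _)
    rw [commGC]
    exact comm_le_of_le_cmod (cycle_subG.2 ⟨hn (mem_zpowers t), fun y hy => h.ab.iso sH h.tS t2 hc hy⟩)
  · push Not at hc
    obtain ⟨g, h1, h2, h3⟩ := hc
    refine absurd (se_of_tr t2 hH hC fun x hx x2 => ?_) (hse H)
    obtain ⟨c, h4, h5⟩ := sH.exists_conj_mem hx (k := 1) (by rw [pow_one, ← x2, pow_orderOf_eq_one])
    obtain ⟨n, h6, -, e⟩ := h.tr r (h.le.trans hC) h1 h2 h3 h5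
      (mt conj_eq_one_iff.1 (Tr.ne_one_of_orderOf_two x2))
    exact ⟨c⁻¹ * n, mul_mem (inv_mem h4) h6, by
      calc _ = c⁻¹ * (n * t * n⁻¹) * c := by group
        _ = x := by rw [e]; group⟩

theorem le_of_mem (hV : V ≤ S) (h4 : IsKleinFour V) (hW : W ≤ S) (h4' : IsKleinFour W)
    (e1 : t ∈ V ↔ t ∈ W) (e2 : a ∈ V ↔ a ∈ W) (e3 : b ∈ V ↔ b ∈ W) : V ≤ W := by
  have m : ∀ {X}, X ≤ S → IsKleinFour X → ∀ {x y}, x ∈ S → y ∈ S → (x * y ∈ X ↔ (x ∈ X ↔ y ∈ X)) :=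
    fun {X} hX k x y hx hy => by
      by_cases x0 : x ∈ X
      · simp [x0, X.mul_mem_cancel_left x0]
      by_cases y0 : y ∈ X
      · simp [x0, y0, X.mul_mem_cancel_right y0]
      · simp [x0, y0, mul_mem_of_four (h.card8 r) k hX hx hy x0 y0]
  have k : ∀ v ∈ S ⊓ L, v ∈ V ↔ v ∈ W := fun v hv => by
    rcases (r.memV v).1 hv with rfl | rfl | rfl | rfl
    · simp
    · exact e2
    · exact e3
    · rw [m hV h4 r.aV.1 r.bV.1, m hW h4' r.aV.1 r.bV.1, e2, e3]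
  intro x hx
  rcases h.dec' (hV hx) with e | ⟨v, hv, rfl⟩
  · exact (k x e).1 hx
  · rwa [m hW h4' h.tS hv.1, ← e1, ← k v hv, ← m hV h4 h.tS hv.1]

theorem nform (hV : V ≤ S) (h4 : IsKleinFour V) (h0 : V ≠ S ⊓ L) :
    ∃ k ∈ 𝐍(S), a ∈ cj k V ∧ b ∉ cj k V ∧ (t ∈ cj k V ↔ t ∈ V) := by
  obtain ⟨v, hv, v1, hv'⟩ : ∃ v ∈ S ⊓ L, v ≠ 1 ∧ v ∈ V := by
    by_contra! hc
    refine hc _ (mul_mem r.aV r.bV) (fun e => r.ne ?_) (mul_mem_of_four (h.card8 r) h4 hV r.aV.1 r.bV.1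
      (hc a r.aV r.a1) (hc b r.bV r.b1))
    rw [eq_inv_of_mul_eq_one_left e, inv_eq_iff_mul_eq_one, h.sq b r.bV.1]
  obtain ⟨k, h1, h2, e⟩ := r.conjV hv v1 r.aV r.a1
  have ha : a ∈ cj k V := e ▸ Tr.conj_mem_cj.2 hv'
  refine ⟨k, h2, ha, fun hb => h0 (eq_of_le_of_card_ge (Tr.cj_le_cj.1 (?_ : cj k (S ⊓ L) ≤ cj k V))
    (by rw [h4.card_four, (r.four h.sq).card_four])).symm, ?_⟩
  · rw [Tr.cj_inf, Tr.cj_eq_iff.2 h2, Tr.cj_eq_of_mem h1]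
    intro x hx
    rcases (r.memV x).1 hx with rfl | rfl | rfl | rfl
    exacts [one_mem _, ha, hb, mul_mem ha hb]
  · conv_lhs => rw [← cent1_conj.1 (h.le h1)]
    exact Tr.conj_mem_cj

theorem w1 (hT : Trs ⊤ S) (hV : V ≤ S) (h4 : IsKleinFour V) :
    ∃ w ∈ 𝐍(S) ⊓ 𝐍(V), ∀ v ∈ V, w * v * w⁻¹ = v → v = 1 := by
  have k0 := r.four h.sq
  have cS : ∀ {n X}, n ∈ 𝐍(S) → X ≤ S → cj n X ≤ S := fun hn hX =>
    (Tr.cj_mono _ hX).trans (Tr.cj_eq_iff.2 hn).le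
  obtain ⟨n, hn, rfl⟩ : ∃ n ∈ 𝐍(S), cj n (S ⊓ L) = V := by
    by_cases h0 : V = S ⊓ L
    · exact ⟨1, one_mem _, by rw [Tr.cj_one, h0]⟩
    obtain ⟨n, hn, h1, h2⟩ : ∃ n ∈ 𝐍(S), cj n (S ⊓ L) ≠ S ⊓ L ∧ (t ∈ cj n (S ⊓ L) ↔ t ∈ V) := by
      by_cases ht : t ∈ V
      · obtain ⟨n, -, hn, e⟩ := hT a r.aV.1 r.a1 t h.tS h.t1
        have h1 : t ∈ cj n (S ⊓ L) := e ▸ Tr.conj_mem_cj.2 r.aV
        exact ⟨n, hn, fun e' => h.tL (e'.le h1).2, iff_of_true h1 ht⟩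
      · have h1 : t * a ∉ L := fun e => h.tL ((L.mul_mem_cancel_right r.aV.2).1 e)
        obtain ⟨n, -, hn, e⟩ := hT _ (mul_mem h.tS r.aV.1) (fun e => h1 (e ▸ L.one_mem)) t h.tS h.t1
        refine ⟨n, hn, fun e' => r.a1 ?_, iff_of_false (fun e' => h1
          (Tr.conj_mem_cj.1 (e.symm ▸ e' : n * (t * a) * n⁻¹ ∈ cj n (S ⊓ L))).2) ht⟩
        rw [← mul_assoc, (h.comm_t r hn (Tr.cj_eq_iff.1 e')).eq, mul_assoc, mul_assoc, mul_eq_left,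
          ← mul_assoc] at e
        exact conj_eq_one_iff.1 e
    obtain ⟨k, h3, h5, h6, h7⟩ := h.nform r hV h4 h0
    obtain ⟨k', h3', h5', h6', h7'⟩ := h.nform r (cS hn inf_le_left) (four_cj k0 n) h1
    have e := eq_of_le_of_card_ge (h.le_of_mem r (cS h3 hV) (four_cj h4 k) (cS h3' (cS hn inf_le_left))
      (four_cj (four_cj k0 n) k') (h7.trans (h2.symm.trans h7'.symm)) (iff_of_true h5 h5')
      (iff_of_false h6 h6')) (by simp only [Tr.card_cj, h4.card_four, k0.card_four, le_rfl])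
    exact ⟨k⁻¹ * (k' * n), mul_mem (inv_mem h3) (mul_mem h3' hn), by
      rw [Tr.cj_mul, Tr.cj_mul, ← e, Tr.cj_inv_cj]⟩
  have hρ : ρ ∈ 𝐍(S ⊓ L) := Tr.mem_normalizer_of_forall fun x hx =>
    ⟨(memJ_norm r.rS).2 hx.1, L.mul_mem (L.mul_mem r.rL hx.2) (L.inv_mem r.rL)⟩
  refine ⟨n * ρ * n⁻¹, mem_inf.2 ⟨mul_mem (mul_mem hn r.rS) (inv_mem hn), by
    rw [normJ]; exact Tr.conj_mem_cj.2 hρ⟩, fun v hv e => ?_⟩
  obtain ⟨x, hx, rfl⟩ := Tr.mem_cj'.1 hv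
  rw [r.fix h.sq hx (by
    calc _ = n⁻¹ * (n * ρ * n⁻¹ * (n * x * n⁻¹) * (n * ρ * n⁻¹)⁻¹) * n := by group
      _ = x := by rw [e]; group)]
  group

end Lt

end Cfsg.Agent.NR
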