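import Cfsg.Agent.Lib.NR.Split
import Cfsg.Agent.Lib.GO.Ree2

/-!
# Components of proper subgroups in the case of an elementary abelian Sylow 2-subgroup
-/

set_option autoImplicit false
set_option linter.unusedVariables false
set_option linter.unusedSectionVars false

namespace Cfsg.Agent.NR

open Subgroup Cfsg Cfsg.Agent.FT Cfsg.Agent.SF Cfsg.Agent.SF.GP Cfsg.Agent.SC Cfsg.Agent.GO
open Cfsg.Agent.Tr (SylowIn)
open scoped MatrixGroups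

universe u

variable {G : Type u} [Group G]

/-- `L / O(K)` is a component of `K / O(K)` isomorphic to `PSL₂(F)`. -/
structure Lq (S K L : Subgroup G) (F : Type) [Field F] (f : L →* PSL(2, F)) : Prop where
  syl : SylowIn 2 S ⊤
  sq : ∀ a ∈ S, a * a = 1
  SK : S ≤ K
  D_le : 𝐎(K) ≤ L
  le : L ≤ K
  nS : S ≤ 𝐍(L)
  dec : ∀ e ∈ S, ∃ a ∈ S ⊓ L, a * e ∈ Gam K L
  surj : Function.Surjective f
  ker : ∀ x : L, f x = 1 ↔ (x : G) ∈ 𝐎(K)
  h3 : (3 : F) = 0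
  hs : ¬ IsSquare (-1 : F)
  big : 3 < Nat.card F
  simp : IsSimpleGroup PSL(2, F)
  pl : Ree.PL (⊤ : Subgroup PSL(2, F))
  nse : ∀ H : Subgroup PSL(2, F), ¬ IsStronglyEmbedded H

/-- The structure of the centralizer of the involution `t`. -/
structure Lt (S : Subgroup G) (t : G) (L : Subgroup G) (F : Type) [Field F] (f : L →* PSL(2, F)) :
    Prop extends Lq S 𝐂[t] L F f where
  tS : t ∈ S
  t1 : t ≠ 1
  nC : 𝐂[t] ≤ 𝐍(L)
  tL : t ∉ L
  decS : ∀ s ∈ S, s ∈ L ∨ t * s ∈ L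
  gam : ∀ g ∈ Gam 𝐂[t] L, g ∈ 𝐎(𝐂[t]) ∨ t * g ∈ 𝐎(𝐂[t])
  idx : Odd ((zpowers t ⊔ L).relIndex 𝐂[t])

end Cfsg.Agent.NR
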