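import Cfsg.Agent.Lib.NR.R81
import Cfsg.Agent.Lib.GO.Ree2

/-! Elementary abelian Sylow 2-subgroup of order 8: `S` centralizes `O(C(t))`. -/

set_option autoImplicit false

namespace Cfsg.Agent.NR

open Subgroup FT SF.GP SF.T TwoGrp GW

universe u

variable {G : Type u} [Group G] [Finite G] {S M Y Z : Subgroup G} {a b c t v w x : G} {r : ℕ}

/-- coordinates on `S` adapted to an element `w` fixing only `t` -/
structure Tri (S : Subgroup G) (t a b w : G) : Prop where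
  mem : ∀ s ∈ S, s = 1 ∨ s = t ∨ s = a ∨ s = t * a ∨ s = b ∨ s = t * b ∨ s = a * b ∨ s = t * (a * b)
  aS : a ∈ S
  bS : b ∈ S
  a1 : a ≠ 1
  ta : t ≠ a
  wt : w ∈ 𝐂[t]
  wa : w * a * w⁻¹ = b
  wb : w * b * w⁻¹ = a * b

theorem ab_of_sq8 (hS : IsSylowIn 2 S ⊤) (h : ∀ a ∈ S, a * a = 1) : Ree.Ab G := fun Q hQ a ha b hb => by
  obtain ⟨x, -, e⟩ := Sylow_subJ hS le_top hQ
  obtain ⟨a, ha', rfl⟩ := Tr.mem_cj'.1 (e ha)
  obtain ⟨b, hb', rfl⟩ := Tr.mem_cj'.1 (e hb)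
  change _ = _
  rw [show x * a * x⁻¹ * (x * b * x⁻¹) = x * (a * b) * x⁻¹ by group, comm_of_sq h ha' hb']
  group

theorem exists_tri (hS : IsSylowIn 2 S ⊤) (sq : ∀ a ∈ S, a * a = 1) (h8 : #|S| = 8) (ht : t ∈ S)
    (t1 : t ≠ 1) (hw : w ∈ 𝐍(S)) (wt : w ∈ 𝐂[t]) (hf : ∀ a ∈ S, w * a * w⁻¹ = a → a = 1 ∨ a = t) :
    ∃ a b, Tri S t a b w := by
  have ab := ab_of_sq8 hS sq
  have tt := sq t ht
  have wt' : w * t * w⁻¹ = t := cent1_conj.1 wt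
  have cS : ∀ {s}, s ∈ S → w * s * w⁻¹ ∈ S := fun hs => Tr.conj_mem_of_mem_normalizer hw hs
  have inj : ∀ {a b : G}, w * a * w⁻¹ = w * b * w⁻¹ → a = b := fun h => by simpa using h
  have ml : ∀ a b : G, w * (a * b) * w⁻¹ = w * a * w⁻¹ * (w * b * w⁻¹) := fun a b => by group
  have f2 : ∀ {g s : G}, g ∈ 𝐍(S) → s ∈ S → g * (g * s * g⁻¹) * g⁻¹ = s → g * s * g⁻¹ = s :=
    fun {g s} hg hs e => mul_inv_eq_iff_eq_mul.2 (ab.sqc hS.pgroup hg hs (by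
      change _ = _
      calc g * g * s = g * (g * s * g⁻¹) * g⁻¹ * (g * g) := by group
        _ = _ := by rw [e])).eq
  have nt : ∀ {s}, s ∈ S → s ≠ 1 → s ≠ t → w * s * w⁻¹ ≠ s ∧ w * s * w⁻¹ ≠ t * s ∧
      w * s * w⁻¹ ≠ 1 ∧ w * s * w⁻¹ ≠ t := fun {s} hs s1 st => by
    have h1 : w * s * w⁻¹ ≠ s := fun e => (hf s hs e).elim s1 st
    refine ⟨h1, fun e => h1 (f2 hw hs ?_), mt conj_eq_one_iff.1 s1, fun e => st (inj (e.trans wt'.symm))⟩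
    rw [e, ml, wt', e, ← mul_assoc, tt, one_mul]
  obtain ⟨a, ha, a0⟩ := exists_not_mem (S := S) (X := zpowers t) (by
    rw [h8, Nat.card_zpowers]
    exact (orderOf_le_of_pow_eq_one two_pos (by rw [pow_two, tt])).trans_lt (by norm_num))
  have a1 : a ≠ 1 := fun e => a0 (e ▸ one_mem _)
  have ta : a ≠ t := fun e => a0 (e ▸ mem_zpowers a)
  obtain ⟨n1, n2, n3, n4⟩ := nt ha a1 ta
  obtain ⟨b, hb⟩ : ∃ b, w * a * w⁻¹ = b := ⟨_, rfl⟩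
  have bS : b ∈ S := hb ▸ cS ha
  rw [hb] at n1 n2 n3 n4
  have bb := sq b bS
  have k4 := isKleinFour_four tt (sq a ha) (comm_of_sq sq ht ha) t1 a1 ta.symm
  have hV : four t a tt (sq a ha) (comm_of_sq sq ht ha) ≤ S := by
    rintro x (rfl | rfl | rfl | rfl)
    exacts [one_mem _, ht, ha, mul_mem ht ha]
  have mem : ∀ s ∈ S, s = 1 ∨ s = t ∨ s = a ∨ s = t * a ∨ s = b ∨ s = t * b ∨ s = a * b ∨
      s = t * (a * b) := fun s hs => by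
    by_cases h0 : s ∈ four t a tt (sq a ha) (comm_of_sq sq ht ha)
    · rcases h0 with e | e | e | e <;> simp [e]
    have e0 : s = s * b * b := by rw [mul_assoc, bb, mul_one]
    rcases mul_mem_of_four h8 k4 hV hs bS h0 (by
      rintro (e | e | e | e)
      exacts [n3 e, n4 e, n1 e, n2 e]) with e | e | e | e <;> rw [e0, e] <;> simp [mul_assoc]
  obtain ⟨m1, m2, m3, m4⟩ := nt bS n3 n4
  have m5 : w * b * w⁻¹ ≠ a := fun e => n1 (hb ▸ f2 hw ha (hb ▸ e))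
  have m6 : w * b * w⁻¹ ≠ t * a := fun e => m5 (by
    have e1 : w * w * a * (w * w)⁻¹ = w * b * w⁻¹ := by rw [← hb]; group
    rw [← e1]
    refine f2 (mul_mem hw hw) ha ?_
    rw [e1, e, show w * w * (t * a) * (w * w)⁻¹ = w * (w * t * w⁻¹) * w⁻¹ * (w * w * a * (w * w)⁻¹) by group,
      wt', wt', e1, e, ← mul_assoc, tt, one_mul])
  rcases mem _ (cS bS) with e | e | e | e | e | e | e | e
  · exact absurd e m3
  · exact absurd e m4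
  · exact absurd e m5
  · exact absurd e m6
  · exact absurd e m1
  · exact absurd e m2
  · exact ⟨a, b, mem, ha, bS, a1, ta.symm, wt, hb, e⟩
  have e1 : t * a * (t * b) = a * b := by
    rw [comm_of_sq sq ht ha, mul_assoc, ← mul_assoc t, tt, one_mul]
  have e2 : ∀ x, t * (t * x) = x := fun x => by rw [← mul_assoc, tt, one_mul]
  refine ⟨t * a, t * b, fun s hs => ?_, mul_mem ht ha, mul_mem ht bS, fun e => ta ?_, fun e => a1 ?_, wt,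
    by rw [ml, wt', hb], by rw [ml, wt', e, e1, e2]⟩
  · rw [e1, e2, e2]
    rcases mem s hs with e | e | e | e | e | e | e | e <;> simp [e]
  · rw [← e2 a, e, mul_one]
  · exact (left_eq_mul.1 e)

omit [Finite G] in
theorem Tri.wc (h : Tri S t a b w) (sq : ∀ a ∈ S, a * a = 1) : w * (a * b) * w⁻¹ = a := by
  rw [show w * (a * b) * w⁻¹ = w * a * w⁻¹ * (w * b * w⁻¹) by group, h.wa, h.wb,
    comm_of_sq sq h.aS h.bS, ← mul_assoc, sq b h.bS, one_mul]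

omit [Finite G] in
theorem Tri.irr (h : Tri S t a b w) (sq : ∀ a ∈ S, a * a = 1) (hw : w ∈ 𝐍(Y)) (ht : t ∈ Y) (hv : v ∈ S)
    (v1 : v ≠ 1) (vt : v ≠ t) (hY : v ∈ Y) : S ≤ Y := by
  have c : ∀ {s}, s ∈ Y → w * s * w⁻¹ ∈ Y := fun hs => Tr.conj_mem_of_mem_normalizer hw hs
  have h3 : a * b ∈ Y → a ∈ Y := fun e => h.wc sq ▸ c e
  have h2 : b ∈ Y → a ∈ Y := fun e => h3 (h.wb ▸ c e)
  have ha : a ∈ Y := by
    rcases h.mem v hv with e | e | e | e | e | e | e | e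
    · exact absurd e v1
    · exact absurd e vt
    · exact e ▸ hY
    · exact (mul_mem_cancel_left ht).1 (e ▸ hY)
    · exact h2 (e ▸ hY)
    · exact h2 ((mul_mem_cancel_left ht).1 (e ▸ hY))
    · exact h3 (e ▸ hY)
    · exact h3 ((mul_mem_cancel_left ht).1 (e ▸ hY))
  have hb : b ∈ Y := h.wa ▸ c ha
  intro s hs
  rcases h.mem s hs with e | e | e | e | e | e | e | e <;> rw [e]
  exacts [one_mem _, ht, ha, mul_mem ht ha, hb, mul_mem ht hb, mul_mem ha hb, mul_mem ht (mul_mem ha hb)]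

/-- an element of `S` outside a normal subgroup of index two is fixed by the normalizer -/
theorem exists_fixed (hS : IsSylowIn 2 S M) (sq : ∀ a ∈ S, a * a = 1) (hY : ¬ S ≤ Y)
    (h : ∀ n ∈ M, n ∈ 𝐍(S) → ∀ s ∈ S, s * (n * s * n⁻¹) ∈ Y) :
    ∃ z ∈ S, z ∉ Y ∧ ∀ n ∈ M, n ∈ 𝐍(S) → Commute n z := by
  have h1 := Sylow_subnorm.2 hS
  obtain ⟨Q, hQ⟩ := SchurZassenhaus_split (Sylow_Hall h1) inf_le_right
  have cop : (#|S|).Coprime #|Q| := hQ.index_left ▸ (Sylow_Hall h1).2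
  by_contra! e
  refine hY fun s hs => ?_
  obtain ⟨k, hk, c, hc, rfl⟩ := (coprime_cent_prod hQ.nz cop (Or.inr (pgroup_sol hS.pgroup))).exists hs
  refine mul_mem (commutator_le.2 (fun s hs q hq => ?_) hk) ?_
  · rw [commutatorElement_def, inv_eq_of_mul_eq_one_right (sq s hs), mul_assoc, mul_assoc, ← mul_assoc q]
    exact h q (hQ.right_le hq).1 (hQ.right_le hq).2 s hs
  by_contra c0
  obtain ⟨n, hn, hn', hc'⟩ := e c hc.1 c0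
  obtain ⟨s, hs, q, hq, rfl⟩ := hQ.exists (show n ∈ M ⊓ 𝐍(S) from ⟨hn, hn'⟩)
  exact hc' (Commute.mul_left (comm_of_sq sq hs hc.1) (mem_cent.1 hc.2 q hq))

theorem eq_one_of_iv [Fact r.Prime] (r2 : r ≠ 2) (tt : t * t = 1) (hZ : IsPGroup r Z) (hZM : Z ≤ M)
    (ht : t ∈ M) (hZt : Z ≤ 𝐂[t]) (hC : 𝐂(Z) ≤ 𝐂[t]) (hx : x ∈ 𝐎(M)) (px : IsPGroup r (zpowers x))
    (hi : Iv t x) : x = 1 := by
  have oZ : Odd #|Z| := piG_odd.1 (pgroup_p'group hZ r2)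
  have n1 : Z ≤ 𝐍(𝐎(M)) := hZM.trans (pcore_norm _ M)
  have hs : Group.IsSolvable ↥(𝐎(M) ⊔ Z ⊔ zpowers t) :=
    sol_join (normsY (zpowers_le.2 (pcore_norm _ M ht)) (zpowers_le.2 (cent_sub _ (sub_cent1.1 hZt))))
      (odd_sol (odd_sup (odd_core M) oZ n1)) (sol_zp t)
  have h1 : zpowers t ≤ core {r}ᶜ (𝐎(M) ⊔ Z ⊔ zpowers t) :=
    (pcore_max (pgroup_p'group (pg_zp tt) r2.symm) ⟨le_inf le_sup_right (zpowers_le.2 (sub_cent1.1 hZt)),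
      (inf_le_right.trans hC).trans ((cent_cycle t).ge.trans (cent_sub _))⟩).trans
      (BG1P.p'core_cent_pgroup (le_sup_right.trans le_sup_left) hZ hs)
  obtain ⟨l, hl, e⟩ := hi.comm tt (Tr.odd_orderOf_of_odd_card (odd_core M) hx)
  have h2 : x ∈ core {r}ᶜ (𝐎(M) ⊔ Z ⊔ zpowers t) := e ▸ mul_mem (Tr.conj_mem_of_mem_normalizer
    (pcore_norm _ _ (mem_sup_left (mem_sup_left (zpowers_le.2 hx hl)))) (h1 (mem_zpowers t)))
    (inv_mem (h1 (mem_zpowers t)))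
  exact (TI_pgroup_p'group px (pcore_pgroup _ _)).le ⟨mem_zpowers x, h2⟩

namespace E8

variable (h : E8 S)
include h

theorem tri (ht : t ∈ S) (t1 : t ≠ 1) : ∃ a b w, Tri S t a b w := by
  obtain ⟨w, hw, hf⟩ := h.w0 t ht t1
  obtain ⟨a, b, e⟩ := exists_tri h.syl h.sq h.card ht t1 hw.1 hw.2 hf
  exact ⟨a, b, w, e⟩

theorem not_cent (ht : t ∈ S) (t1 : t ≠ 1) (hn : ¬ S ≤ 𝐂(core {r} 𝐂[t])) (hv : v ∈ S) (v1 : v ≠ 1)
    (ha : a ∈ S) (a1 : a ≠ 1) (av : a ≠ v) : ¬ core {r} 𝐂[v] ≤ 𝐂[a] := fun e => by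
  obtain ⟨b, c, w, tr⟩ := h.tri hv v1
  have h1 : S ≤ 𝐂(core {r} 𝐂[v]) := tr.irr h.sq (norms_cent (pcore_norm _ _) tr.wt)
    (sub_cent1.1 (pcore_sub _ _)) ha a1 av (sub_cent1.1 e)
  obtain ⟨g, hg, rfl⟩ := h.tr v hv v1 t ht t1
  rw [cent1J, pcoreJ, centJ, ← Tr.cj_eq_iff.2 hg] at hn
  exact hn (Tr.cj_mono g h1)

theorem cent_core [Fact r.Prime] (r2 : r ≠ 2) (ht : t ∈ S) (t1 : t ≠ 1) : S ≤ 𝐂(core {r} 𝐂[t]) := by
  by_contra hn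
  have ab := ab_of_sq8 h.syl h.sq
  have tt := h.sq t ht
  obtain ⟨a, b, w, tr⟩ := h.tri ht t1
  have aa := h.sq a tr.aS
  have bb := h.sq b tr.bS
  have od : ∀ {X : Subgroup G}, IsPGroup r X → Odd #|X| := fun hX => piG_odd.1 (pgroup_p'group hX r2)
  have pR := pcore_isPGroup r 𝐂[t]
  obtain ⟨Z, hZ⟩ : ∃ Z, 𝐙(core {r} 𝐂[t]) = Z := ⟨_, rfl⟩
  have pZ : IsPGroup r Z := hZ ▸ pgroup_sub inf_le_left pR
  have nZ : Z ⊴ 𝐂[t] := hZ ▸ (pcore_normal {r} 𝐂[t]).center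
  have cZ : Z ≤ 𝐂(Z) := hZ ▸ inf_le_right.trans (centS inf_le_left)
  have Z0 : Z ≠ ⊥ := hZ ▸ center_pgroup_ne_bot pR fun e => hn (by rw [e]; exact cents1 S)
  have CZ : 𝐂(Z) ≤ 𝐂[t] := (cent_sub Z).trans
    (h.toSm.norm_eq (h.coatom ht t1) nZ (pgroup_sol pZ) Z0).le
  have SZ : S ≤ 𝐍(Z) := (h.S_c ht).trans nZ.nz
  have oz : ∀ {x}, x ∈ Z → Odd (orderOf x) := fun hx => Tr.odd_orderOf_of_odd_card (od pZ) hx
  have tz : ∀ {x}, x ∈ Z → t ∈ 𝐂[x] := fun hx => cent1C.1 (nZ.le hx)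
  obtain ⟨Y, hY⟩ : ∃ Y, Z ⊓ 𝐂[a] = Y := ⟨_, rfl⟩
  have YZ : Y ≤ Z := hY ▸ inf_le_left
  have SY : S ≤ 𝐍(Y) := hY ▸ normsI SZ (normsG (h.S_c tr.aS))
  have tY : t ∈ 𝐂(Y) := sub_cent1.1 (YZ.trans nZ.le)
  have aY : a ∈ 𝐂(Y) := sub_cent1.1 (hY ▸ inf_le_right)
  have pA := pcore_isPGroup r 𝐂[a]
  have tA : t ∈ 𝐍(core {r} 𝐂[a]) := pcore_norm _ _ (h.S_c tr.aS ht)
  -- the element given by the `A × B` lemma
  obtain ⟨y, hy, y1, iy⟩ : ∃ y ∈ core {r} 𝐂[a] ⊓ 𝐂(Y), y ≠ 1 ∧ Iv t y :=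
    exists_iv (od (pgroup_sub inf_le_left pA)) tt
      (normsI (zpowers_le.2 tA) (zpowers_le.2 (norms_cent SY ht)) (mem_zpowers t)) fun e =>
      h.not_cent ht t1 hn tr.aS tr.a1 ht t1 tr.ta (axb (od pA) pA tt tA (pgroup_sub YZ pZ) (YZ.trans nZ.le)
        ((hY ▸ inf_le_right : Y ≤ 𝐂[a]).trans (pcore_norm _ _)) e)
  have py : IsPGroup r (zpowers y) := pgroup_sub (zpowers_le.2 hy.1) pA
  have oy : Odd (orderOf y) := Tr.odd_orderOf_of_odd_card (od pA) hy.1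
  obtain ⟨x, hx, x1, ix⟩ : ∃ x ∈ Z, x ≠ 1 ∧ Iv a x := exists_iv (od pZ) aa (SZ tr.aS) fun e =>
    y1 (iy.eq_one oy (cent1C.1 (CZ (by rw [← inf_eq_left.2 e, hY]; exact hy.2))))
  -- the three eigenspaces
  have wZ : ∀ {x}, x ∈ Z → w * x * w⁻¹ ∈ Z := fun hx => Tr.conj_mem_of_mem_normalizer (nZ.nz tr.wt) hx
  have cw : ∀ {c x : G}, c ∈ 𝐂[x] → w * c * w⁻¹ ∈ 𝐂[w * x * w⁻¹] := fun hc => by
    rw [cent1J]; exact Tr.mem_cj'.2 ⟨_, hc, rfl⟩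
  have eb : a * b * b = a := by rw [mul_assoc, bb, mul_one]
  have s12 : (∃ x ∈ Z, x ≠ 1 ∧ Iv a x ∧ b ∈ 𝐂[x]) → ∃ x ∈ Z, x ≠ 1 ∧ Iv a x ∧ Iv b x :=
    fun ⟨x, hx, x1, h1, h2⟩ => ⟨_, wZ hx, mt conj_eq_one_iff.1 x1,
      eb ▸ (tr.wa ▸ h1.conj w : Iv b _).mul_cent (tr.wb ▸ cw h2), tr.wa ▸ h1.conj w⟩
  have s23 : (∃ x ∈ Z, x ≠ 1 ∧ Iv a x ∧ Iv b x) → ∃ x ∈ Z, x ≠ 1 ∧ a ∈ 𝐂[x] ∧ Iv b x :=
    fun ⟨x, hx, x1, h1, h2⟩ => ⟨_, wZ hx, mt conj_eq_one_iff.1 x1,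
      eb ▸ (tr.wb ▸ h2.conj w : Iv (a * b) _).mul (tr.wa ▸ h1.conj w), tr.wa ▸ h1.conj w⟩
  have s31 : (∃ x ∈ Z, x ≠ 1 ∧ a ∈ 𝐂[x] ∧ Iv b x) → ∃ x ∈ Z, x ≠ 1 ∧ Iv a x ∧ b ∈ 𝐂[x] :=
    fun ⟨x, hx, x1, h1, h2⟩ => ⟨_, wZ hx, mt conj_eq_one_iff.1 x1,
      eb ▸ (tr.wb ▸ h2.conj w : Iv (a * b) _).cent_mul (tr.wa ▸ cw h1), tr.wa ▸ cw h1⟩
  have T2 : ∃ x ∈ Z, x ≠ 1 ∧ Iv a x ∧ Iv b x := by
    have bx : b * x * b⁻¹ ∈ Z := Tr.conj_mem_of_mem_normalizer (SZ tr.bS) hx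
    have cm : x * (b * x * b⁻¹) = b * x * b⁻¹ * x := mem_cent.1 (cZ bx) x hx
    by_cases e : x * (b * x * b⁻¹) = 1
    · exact ⟨x, hx, x1, ix, eq_inv_of_mul_eq_one_right e⟩
    refine s12 ⟨_, mul_mem hx bx, e, ?_, cent1_conj.2 ?_⟩
    · have : a * (b * x * b⁻¹) * a⁻¹ = (b * x * b⁻¹)⁻¹ := by
        rw [show a * (b * x * b⁻¹) * a⁻¹ = a * b * x * (a * b)⁻¹ by group, comm_of_sq h.sq tr.aS tr.bS,
          show b * a * x * (b * a)⁻¹ = b * (a * x * a⁻¹) * b⁻¹ by group, ix]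
        group
      rw [Iv, show a * (x * (b * x * b⁻¹)) * a⁻¹ = a * x * a⁻¹ * (a * (b * x * b⁻¹) * a⁻¹) by group, ix,
        this, ← mul_inv_rev, ← cm]
    · rw [show b * (x * (b * x * b⁻¹)) * b⁻¹ = b * x * b⁻¹ * (b * b * x * (b * b)⁻¹) by group, bb, cm]
      group
  obtain ⟨x3, hx3, x31, c3, i3⟩ := s23 T2
  obtain ⟨x1, hx1, x11, i1, c1⟩ := s31 (s23 T2)
  obtain ⟨x2, hx2, x21, i2, j2⟩ := T2
  have x3Y : x3 ∈ Y := hY ▸ ⟨hx3, cent1C.1 c3⟩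
  have mY : ∀ s ∈ S, s ∈ 𝐂(Y) ↔ s = 1 ∨ s = t ∨ s = a ∨ s = t * a := fun s hs => by
    refine ⟨fun hc => ?_, ?_⟩
    · have k : ¬ Iv s x3 := fun e => x31 (e.eq_one (oz hx3) (cent1C.1 (sub_cent1.2 hc x3Y)))
      rcases tr.mem s hs with e | e | e | e | e | e | e | e
      · exact .inl e
      · exact .inr (.inl e)
      · exact .inr (.inr (.inl e))
      · exact .inr (.inr (.inr e))
      · exact absurd (e ▸ i3) k
      · exact absurd (e ▸ i3.mul_cent (tz hx3)) k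
      · exact absurd (e ▸ i3.mul_cent c3) k
      · exact absurd (e ▸ (i3.mul_cent c3).mul_cent (tz hx3)) k
    · rintro (rfl | rfl | rfl | rfl)
      exacts [one_mem _, tY, aY, mul_mem tY aY]
  have bY : b ∉ 𝐂(Y) := fun e => x31 (i3.eq_one (oz hx3) (cent1C.1 (sub_cent1.2 e x3Y)))
  have hS : IsSylowIn 2 S 𝐍(Y) := Sylow_subl SY le_top h.syl
  have k4 := isKleinFour_four tt aa (comm_of_sq h.sq ht tr.aS) t1 tr.a1 tr.ta
  obtain ⟨z, hz, zY, zn⟩ := exists_fixed (Y := 𝐂(Y)) hS h.sq (fun e => bY (e tr.bS)) fun n hn hn' s hs => by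
    have hs' := Tr.conj_mem_of_mem_normalizer hn' hs
    by_cases h0 : s ∈ 𝐂(Y)
    · exact mul_mem h0 (Tr.conj_mem_of_mem_normalizer (cent_norm Y hn) h0)
    refine (mY _ (mul_mem hs hs')).2 (mul_mem_of_four h.card k4 ?_ hs hs' (fun e => h0 ((mY s hs).2 e))
      fun e => h0 ((memJ_norm (cent_norm Y hn)).1 ((mY _ hs').2 e)))
    rintro x (rfl | rfl | rfl | rfl)
    exacts [one_mem _, ht, tr.aS, mul_mem ht tr.aS]
  have ZM : Z ≤ 𝐍(Y) := (cZ.trans (centS YZ)).trans (cent_sub Y)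
  have iso : ∀ {c x : G}, c ∈ S → c ≠ 1 → (∀ n ∈ 𝐍(Y), n ∈ 𝐍(S) → Commute n c) → x ∈ 𝐍(Y) → Iv c x →
      x⁻¹ * x⁻¹ ∈ 𝐎(𝐍(Y)) := fun {c x} hc c1 hf hx hi =>
    hi ▸ ab.iso (sylowIn_iff.2 hS) hc (Tr.orderOf_eq_two (h.sq c hc) c1) hf hx
  have sq1 : ∀ {x : G}, Odd (orderOf x) → x⁻¹ * x⁻¹ = 1 → x = 1 := fun ho e =>
    inv_eq_one.1 (Tr.eq_one_of_odd_of_mul_self e (by rwa [orderOf_inv]))
  have m2 : ∀ x : G, x⁻¹ * x⁻¹ ∈ zpowers x := fun x =>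
    mul_mem (inv_mem (mem_zpowers x)) (inv_mem (mem_zpowers x))
  have Phi : ∀ {x}, x ∈ 𝐎(𝐍(Y)) → IsPGroup r (zpowers x) → Iv t x → x = 1 :=
    eq_one_of_iv r2 tt pZ ZM (SY ht) nZ.le CZ
  obtain ⟨n, hn1, hn2, nt⟩ : ∃ n ∈ 𝐍(Y), n ∈ 𝐍(S) ∧ ¬ Commute n t := by
    by_contra! e
    exact y1 (sq1 oy (Phi (iso ht t1 e (cent_sub Y hy.2) iy) (pgroup_sub (zpowers_le.2 (m2 y)) py)
      (iy.zp (m2 y))))
  have fin : ∀ {x}, x ∈ Z → Iv a x → Iv z x → x = 1 := fun {x} hx ia iz => by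
    have hc : Iv (n * t * n⁻¹) x := by
      rcases (mY _ (Tr.conj_mem_of_mem_normalizer hn2 ht)).1
        (Tr.conj_mem_of_mem_normalizer (cent_norm Y hn1) tY) with e | e | e | e
      · exact absurd (conj_eq_one_iff.1 e) t1
      · exact absurd (mul_inv_eq_iff_eq_mul.1 e) nt
      · exact e ▸ ia
      · exact e ▸ ia.mul_cent (tz hx)
    have h1 := (hc.zp (m2 x)).conj n⁻¹
    rw [show n⁻¹ * (n * t * n⁻¹) * n⁻¹⁻¹ = t by group] at h1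
    refine sq1 (oz hx) (conj_eq_one_iff.1 (Phi (Tr.conj_mem_of_mem_normalizer (pcore_norm _ _ (inv_mem hn1))
      (iso hz (fun e => zY (e ▸ one_mem _)) zn (ZM hx) iz)) ?_ h1))
    exact Tr.cj_zpowers n⁻¹ _ ▸ Tr.isPGroup_cj n⁻¹
      (pgroup_sub (zpowers_le.2 (mul_mem (inv_mem hx) (inv_mem hx))) pZ)
  rcases tr.mem z hz with e | e | e | e | e | e | e | e
  · exact zY ((mY z hz).2 (.inl e))
  · exact zY ((mY z hz).2 (.inr (.inl e)))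
  · exact zY ((mY z hz).2 (.inr (.inr (.inl e))))
  · exact zY ((mY z hz).2 (.inr (.inr (.inr e))))
  · exact x21 (fin hx2 i2 (e ▸ j2))
  · exact x21 (fin hx2 i2 (e ▸ j2.mul_cent (tz hx2)))
  · exact x11 (fin hx1 i1 (e ▸ i1.cent_mul c1))
  · exact x11 (fin hx1 i1 (e ▸ (i1.cent_mul c1).mul_cent (tz hx1)))

/-- R8.2 (a) -/
theorem cent_O (ht : t ∈ S) (t1 : t ≠ 1) : S ≤ 𝐂(𝐎(𝐂[t])) := fun a ha =>
  sub_cent1.1 (cent_of_fit (odd_core _) (h.sq a ha) (pcore_norm _ _ (h.S_c ht ha))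
    (cents_Fitting_of_pcore (A := S) (fun r hr => by
      have := Fact.mk hr
      by_cases r2 : r = 2
      · rw [trivg_pgroup_p'group (pcore_isPGroup r _) (r2 ▸ (pcore_pgroup _ _).of_le (pcore_sub _ _))]
        exact cents1 S
      · exact (h.cent_core r2 ht t1).trans (centS (pcore_normal_le _ (pcore_normal _ _)))) ha))

end E8

end Cfsg.Agent.NR
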