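import Cfsg.Agent.Lib.NR.R82a
import Cfsg.Agent.Lib.NR.R80d

/-! Elementary abelian Sylow 2-subgroup of order 8: `O(C(t)) = 1`. -/

set_option autoImplicit false

namespace Cfsg.Agent.NR

open Subgroup FT SF.GP SF.T TwoGrp GW
open scoped MatrixGroups commutatorElement

universe u

variable {G : Type u} [Group G] [Finite G] {S L : Subgroup G} {a b s t ρ : G} {F : Type} [Field F]
  [Finite F] {f : L →* PSL(2, F)}

omit [Finite F] in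
theorem fourth_of_card (h : 3 < Nat.card F) : ∃ b : F, b ≠ 0 ∧ b ≠ 1 ∧ b ≠ -1 := by
  by_contra! e
  have : Nat.card F ≤ Nat.card (Fin 3) := Nat.card_le_card_of_surjective (![0, 1, -1] : Fin 3 → F) fun b => by
    by_cases h0 : b = 0
    · exact ⟨0, h0.symm⟩
    by_cases h1 : b = 1
    · exact ⟨1, h1.symm⟩
    · exact ⟨2, (e b h0 h1).symm⟩
  rw [Nat.card_eq_fintype_card (α := Fin 3), Fintype.card_fin] at this
  omega

open scoped IsMulCommutative in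
theorem ker_inf_commutator3 {X : Type*} [Group X] [Finite X] (h3 : (3 : F) = 0)
    (hs : ¬ IsSquare (-1 : F)) (hb : ∃ b : F, b ≠ 0 ∧ b ≠ 1 ∧ b ≠ -1) (π : X →* PSL(2, F))
    (hπ : Function.Surjective π) (hk : π.ker ≤ center X) {z : X} (hz : z ∈ π.ker)
    (hc : z ∈ commutator X) {k : ℕ} (h4 : z ^ 3 ^ k = 1) : z = 1 := by
  set P := (U F).comap π with hP
  have : IsMulCommutative P := ⟨⟨fun x y => Subtype.ext
    (comm_of_central_ext h3 hs hb π hπ hk x.2 y.2)⟩⟩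
  have h1 := MonoidHom.transfer_eq_pow (MonoidHom.id P) z (fun k g _ => by
    rw [mul_assoc, ← mem_center_iff.1 (pow_mem (hk hz) k) g, inv_mul_cancel_left])
  rw [MonoidHom.mem_ker.1 (Abelianization.commutator_subset_ker _ hc)] at h1
  have h2 : z ^ P.index = 1 := (congrArg Subtype.val h1).symm
  rw [hP, index_comap_of_surjective _ hπ] at h2
  rw [← orderOf_eq_one_iff]
  exact Nat.eq_one_of_dvd_coprimes
    (Nat.Coprime.pow_left k ((Nat.Prime.coprime_iff_not_dvd Nat.prime_three).2 (not_dvd_index_U h3)))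
    (orderOf_dvd_of_pow_eq_one h4) (orderOf_dvd_of_pow_eq_one h2)

theorem Lt.exists_cent (h : Lt S s L F f) (hD : S ≤ 𝐂(𝐎(𝐂[s]))) (tr : Tri S s a b ρ) (hρ : ρ ∈ L)
    (hρS : ρ ∈ 𝐍(S)) : ∃ w ∈ 𝐂(𝐎(𝐂(S))), ∀ t ∈ S, w ∈ 𝐂[t] → ρ ∈ 𝐂[t] := by
  have sq := h.sq
  have abL : a * b ∈ L := by
    rw [← tr.wa, show a * (ρ * a * ρ⁻¹) = a * ρ * a⁻¹ * (a * a) * ρ⁻¹ by group, sq a tr.aS, mul_one]
    exact mul_mem (Tr.conj_mem_of_mem_normalizer (h.nS tr.aS) hρ) (inv_mem hρ)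
  have aL : a ∈ L := tr.wc sq ▸ mul_mem (mul_mem hρ abL) (inv_mem hρ)
  have bL : b ∈ L := tr.wa ▸ mul_mem (mul_mem hρ aL) (inv_mem hρ)
  have k1 : ∀ {x} (hx : x ∈ L), x ∈ S → f ⟨x, hx⟩ = 1 → x = 1 := fun hx hS e =>
    eq_one_of_odd_sq (odd_core _) ((h.ker _).1 e) (sq _ hS)
  have o2 : ∀ {x} (hx : x ∈ L), x ∈ S → x ≠ 1 → orderOf (f ⟨x, hx⟩) = 2 := fun hx hS x1 =>
    Tr.orderOf_eq_two (by rw [← map_mul, ← map_one f]; exact congrArg f (Subtype.ext (sq _ hS)))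
      fun e => x1 (k1 hx hS e)
  have b1 : b ≠ 1 := tr.wa ▸ mt conj_eq_one_iff.1 tr.a1
  have fab : f ⟨a, aL⟩ ≠ f ⟨b, bL⟩ := fun e => mt conj_eq_one_iff.1 b1 (tr.wb ▸ k1 abL
    (mul_mem tr.aS tr.bS) (by
      rw [show (⟨a * b, abL⟩ : L) = ⟨a, aL⟩ * ⟨b, bL⟩ from rfl, map_mul, e, ← map_mul, ← map_one f]
      exact congrArg f (Subtype.ext (sq _ tr.bS))))
  have nD := pcore_norm {2}ᶜ 𝐂[s]
  obtain ⟨L0, h0⟩ : ∃ L0, L ⊓ 𝐂(𝐎(𝐂[s])) = L0 := ⟨_, rfl⟩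
  have l0 : L0 ≤ L := h0 ▸ inf_le_left
  have c0 : L0 ≤ 𝐂(𝐎(𝐂[s])) := h0 ▸ inf_le_right
  have n0 : 𝐂[s] ≤ 𝐍(L0) := h0 ▸ normsI h.nC (norms_cent nD)
  let π : L0 →* PSL(2, F) := f.comp (inclusion l0)
  have hk : π.ker ≤ center L0 := fun z hz => mem_center_iff.2 fun g =>
    Subtype.ext (mem_cent.1 (c0 g.2) z ((h.ker _).1 hz)).symm
  have := h.simp
  have sπ : Function.Surjective π := by
    have nr : π.range.Normal := ⟨by
      rintro _ ⟨x, rfl⟩ g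
      obtain ⟨l, rfl⟩ := h.surj g
      refine ⟨⟨l * x * l⁻¹, Tr.conj_mem_of_mem_normalizer (n0 (h.le l.2)) x.2⟩, ?_⟩
      rw [← map_inv]
      exact (map_mul f _ _).trans (congrArg (· * f l⁻¹) (map_mul f l (inclusion l0 x)))⟩
    refine MonoidHom.range_eq_top.1 (nr.eq_bot_or_eq_top.resolve_left fun e => tr.a1 (k1 aL tr.aS ?_))
    exact e.le ⟨⟨a, h0 ▸ ⟨aL, hD tr.aS⟩⟩, rfl⟩
  have pf : commutator PSL(2, F) = ⊤ :=
    (inferInstance : (commutator PSL(2, F)).Normal).eq_bot_or_eq_top.resolve_left fun e => fab (by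
      have e1 : ⁅f ⟨ρ, hρ⟩, f ⟨a, aL⟩⁆ = 1 := e.le (commutator_mem_commutator (mem_top _) (mem_top _))
      rw [show (⟨b, bL⟩ : L) = ⟨ρ, hρ⟩ * ⟨a, aL⟩ * ⟨ρ, hρ⟩⁻¹ from Subtype.ext tr.wa.symm, map_mul, map_mul,
        map_inv, commutatorElement_eq_one_iff_mul_comm.1 e1, mul_inv_cancel_right])
  have mc : (commutator L0).map L0.subtype = ⁅L0, L0⁆ := by
    rw [commutator_def, map_commutator, ← MonoidHom.range_eq_map, range_subtype]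
  obtain ⟨l, hl, e⟩ : f ⟨ρ, hρ⟩ ∈ (commutator L0).map π := by
    rw [commutator_def, map_commutator, ← MonoidHom.range_eq_map, MonoidHom.range_eq_top.2 sπ,
      ← commutator_def, pf]
    exact mem_top _
  have dC : (l : G)⁻¹ * ρ ∈ 𝐂(S) := by
    have := (h.ker ((inclusion l0 l)⁻¹ * (⟨ρ, hρ⟩ : L))).1 (by
      rw [map_mul, map_inv, ← e]; exact inv_mul_cancel _)
    exact centsC.1 hD this
  have act : ∀ x ∈ S, (l : G) * x * (l : G)⁻¹ = ρ * x * ρ⁻¹ := fun x hx => by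
    have := mem_cent.1 dC x hx
    calc (l : G) * x * (l : G)⁻¹ = l * (x * ((l : G)⁻¹ * ρ)) * ρ⁻¹ := by group
      _ = _ := by rw [this]; group
  have lS : (l : G) ∈ 𝐍(S) := by
    have := mul_mem hρS (inv_mem (cent_sub S dC))
    rwa [mul_inv_rev, inv_inv, mul_inv_cancel_left] at this
  have l3 : (l : G) ^ 3 ∈ 𝐂(S) := by
    have e3 : ∀ x, (l : G) ^ 3 * x * ((l : G) ^ 3)⁻¹ = l * (l * (l * x * (l : G)⁻¹) * (l : G)⁻¹) * (l : G)⁻¹ :=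
      fun x => by rw [pow_three]; group
    have ab := mul_mem tr.aS tr.bS
    have h1 : a ∈ 𝐂[(l : G) ^ 3] := cent1C.1 (cent1_conj.2 (by
      rw [e3, act a tr.aS, tr.wa, act b tr.bS, tr.wb, act _ ab, tr.wc sq]))
    have h2 : b ∈ 𝐂[(l : G) ^ 3] := cent1C.1 (cent1_conj.2 (by
      rw [e3, act b tr.bS, tr.wb, act _ ab, tr.wc sq, act a tr.aS, tr.wa]))
    have h3 : s ∈ 𝐂[(l : G) ^ 3] := cent1C.1 (pow_mem (h.le (l0 l.2)) 3)
    refine sub_cent1.1 fun x hx => ?_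
    rcases tr.mem x hx with e | e | e | e | e | e | e | e <;> rw [e]
    exacts [one_mem _, h3, h1, mul_mem h3 h1, h2, mul_mem h3 h2, mul_mem h1 h2, mul_mem h3 (mul_mem h1 h2)]
  obtain ⟨k, m, hm, em⟩ := Nat.exists_eq_pow_mul_and_not_dvd (orderOf_pos (l : G)).ne' 3 (by norm_num)
  have w3 : ((l : G) ^ m) ^ 3 ^ k = 1 := by rw [← pow_mul, mul_comm, ← em, pow_orderOf_eq_one]
  refine ⟨(l : G) ^ m, mem_cent.2 fun y hy => ?_, fun t ht hw => ?_⟩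
  · obtain ⟨w, hw⟩ : ∃ w, (l : G) ^ m = w := ⟨_, rfl⟩
    have wS : w ∈ 𝐍(S) := hw ▸ pow_mem lS m
    have w1 : w ∈ ⁅L0, L0⁆ := hw ▸ pow_mem (mc ▸ mem_map_of_mem _ hl) m
    rw [hw] at w3 ⊢
    have ys : y ∈ 𝐂[s] := cent1C.1 (sub_cent1.2 (pcore_sub _ _ hy) h.tS)
    have z1 : y * w * y⁻¹ * w⁻¹ ∈ ⁅L0, L0⁆ :=
      mul_mem (Tr.conj_mem_of_mem_normalizer (normsR n0 n0 ys) w1) (inv_mem w1)
    have zO : y * w * y⁻¹ * w⁻¹ ∈ 𝐎(𝐂(S)) := by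
      rw [mul_assoc, mul_assoc, ← mul_assoc w]
      exact mul_mem hy (Tr.conj_mem_of_mem_normalizer (norms_pcore _ (cent_norm S) wS) (inv_mem hy))
    obtain ⟨z, hz⟩ : ∃ z, y * w * y⁻¹ * w⁻¹ = z := ⟨_, rfl⟩
    rw [hz] at z1 zO
    have le1 : ⁅L0, L0⁆ ≤ L0 := commg_subl.2 (normG L0)
    have z0 := le1 z1
    have cz : ∀ {x} (hx : x ∈ L), x ∈ S → Commute (f ⟨x, hx⟩) (f ⟨z, l0 z0⟩) := fun hx hS =>
      Commute.map (Subtype.ext (mem_cent.1 (pcore_sub _ _ zO) _ hS)) f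
    have fz : f ⟨z, l0 z0⟩ = 1 := by
      by_contra e
      exact fab ((h.pl.odd _ (mem_top _) e ((Tr.odd_orderOf_of_odd_card (odd_core _) zO).of_dvd_nat
        ((orderOf_map_dvd f _).trans (orderOf_coe _).symm.dvd)) _ (mem_top _) _ (mem_top _)
        (cz aL tr.aS) (cz bL tr.bS)).2 (o2 aL tr.aS tr.a1) (o2 bL tr.bS b1))
    have zw : Commute z w := mem_cent.1 (c0 (le1 w1)) z ((h.ker _).1 fz)
    have z3 : z ^ 3 ^ k = 1 := by
      have := zw.mul_pow (3 ^ k)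
      rw [w3, mul_one, ← hz, inv_mul_cancel_right, conj_pow, w3, hz] at this
      rw [← this]; group
    obtain ⟨z', hz', rfl⟩ := mem_map.1 (mc.ge z1)
    have := ker_inf_commutator3 h.h3 h.hs (fourth_of_card h.big) π sπ hk (z := z') fz hz' (k := k)
      (Subtype.ext z3)
    rw [this] at hz
    exact mul_inv_eq_iff_eq_mul.1 (mul_inv_eq_one.1 hz)
  · have h1 : (l : G) ∈ 𝐂[t] := by
      have h3 : (l : G) ^ 3 ∈ 𝐂[t] := cent1C.1 (sub_cent1.2 l3 ht)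
      have hm' : m % 3 = 1 ∨ m % 3 = 2 := by omega
      rw [← Nat.div_add_mod m 3, pow_add, pow_mul, mul_mem_cancel_left (pow_mem h3 _)] at hw
      rcases hm' with e | e <;> rw [e] at hw
      · rwa [pow_one] at hw
      · rwa [pow_succ, mul_mem_cancel_left hw] at h3
    exact cent1_conj.2 ((act t ht).symm.trans (cent1_conj.1 h1))

/-- R8.2 -/
theorem E8.core_eq_bot (h : E8 S) (hL : ∀ s ∈ S, s ≠ 1 → ∃ (L : Subgroup G) (F : Type) (_ : Field F)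
    (_ : Finite F) (f : L →* PSL(2, F)), Lt S s L F f ∧
      ∃ ρ ∈ L ⊓ 𝐍(S), ∀ a ∈ S, ρ * a * ρ⁻¹ = a → a = 1 ∨ a = s) (ht : t ∈ S) (t1 : t ≠ 1) :
    𝐎(𝐂[t]) = ⊥ := by
  by_contra h0
  obtain ⟨s, b', w', t3⟩ := h.tri ht t1
  obtain ⟨L, F, _, _, f, lt, ρ, hρ, hf⟩ := hL s t3.aS t3.a1
  obtain ⟨a, b, tr⟩ := exists_tri h.syl h.sq h.card t3.aS t3.a1 hρ.2 (lt.le hρ.1) hf
  obtain ⟨w, hw, e⟩ := lt.exists_cent (h.cent_O t3.aS t3.a1) tr hρ.1 hρ.2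
  have h1 : 𝐎(𝐂[t]) ≤ 𝐎(𝐂(S)) := le_core (odd_core _) ⟨centsC.1 (h.cent_O ht t1),
    le_trans (fun x hx => cent1C.1 (sub_cent1.2 hx ht)) (pcore_norm _ _)⟩
  exact (hf t ht (cent1_conj.1 (e t ht ((h.toSm.norm_eq (h.coatom ht t1) (pcore_normal _ _)
    (odd_sol (odd_core _)) h0).le (cent_sub _ (centS h1 hw)))))).elim t1 t3.ta

end Cfsg.Agent.NR
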