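import Cfsg.Agent.Lib.NR.R8D
import Cfsg.Agent.Lib.GO.Defs

/-! Local analysis for a Sylow 2-subgroup of order 8: the setting and the rows. -/

set_option autoImplicit false

namespace Cfsg.Agent.NR

open Subgroup FT SF.GP

universe u

variable {G : Type*} [Group G]

/-- `C(z) = ⟨z⟩ × E`, `L ⊴ E` of odd index with trivial centralizer -/
structure LZ (z : G) (L : Subgroup G) (q : ℕ) : Prop where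
  zz : z * z = 1
  z1 : z ≠ 1
  le : L ≤ 𝐂[z]
  nrm : 𝐂[z] ≤ 𝐍(L)
  lf : LF L q
  zL : z ∉ L
  cen : 𝐂[z] ⊓ 𝐂(L) ≤ zpowers z
  idx : Odd ((zpowers z ⊔ L).relIndex 𝐂[z])
  inv : ∀ u ∈ 𝐂[z], u * u = 1 → u ∈ L ∨ z * u ∈ L

structure S83 (S : Subgroup G) (q : ℕ) : Prop where
  simp : IsSimpleGroup G
  nr : NoReal G
  ih : ∀ K : Subgroup G, K ≠ ⊤ → ∃ J R : Subgroup G, R ≤ J ∧ J ≤ K ∧ K ≤ 𝐍(J) ∧ K ≤ 𝐍(R) ∧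
    (∀ g ∈ K, g * g = 1 → g ∈ J) ∧ ¬ 3 ∣ #|R| ∧
      (J ≤ R ∨ ∃ k m, 0 < k ∧ Odd m ∧ #|J| = #|R| * (4 ^ k * m)) ∧
      (∀ P ≤ K, (∀ g ∈ K, ∀ n, g ^ 2 ^ n = 1 → ∃ x ∈ K, x * g * x⁻¹ ∈ P) → P ≤ R → J ≤ R)
  syl : Tr.SylowIn 2 S ⊤
  sq : ∀ a ∈ S, a * a = 1
  card : #|S| = 8
  tr : ∀ a ∈ S, a ≠ 1 → ∀ b ∈ S, b ≠ 1 → ∃ n ∈ 𝐍(S), n * a * n⁻¹ = b
  lz : ∀ z : G, z * z = 1 → z ≠ 1 → ∃ L, LZ z L q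

/-- `S ∩ L = ⟨c, s⟩`, `V = S ∩ L' = ⟨t, c⟩` -/
structure C83 (S : Subgroup G) (q : ℕ) (t c s z : G) (L H L' V : Subgroup G) : Prop
    extends S83 S q where
  tS : t ∈ S
  cS : c ∈ S
  sS : s ∈ S
  zS : z ∈ S
  lt : LZ t L q
  lz' : LZ z L' q
  cL : c ∈ L
  sL : s ∈ L
  c1 : c ≠ 1
  s1 : s ≠ 1
  sc : s ≠ c
  lh : LH L H q c s
  tL' : t ∈ L'
  cL' : c ∈ L'
  memV : ∀ v, v ∈ V ↔ v = 1 ∨ v = t ∨ v = c ∨ v = t * c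
  memS : ∀ a, a ∈ S ↔ a ∈ V ∨ s * a ∈ V

def RA : Prop := ∀ (G : Type u) [Group G] [Finite G] (S : Subgroup G) (q : ℕ), S83 S q →
  ∀ t : G, t * t = 1 → t ≠ 1 → ¬ 3 ∣ 𝐂[t].index

def RB1 : Prop := ∀ (G : Type u) [Group G] [Finite G] (S : Subgroup G) q t c s z L H L' V,
  C83 S q t c s z L H L' V → ∀ y ∈ 𝐂(S), Odd (orderOf y) → ∀ h ∈ H, h ≠ 1 → y * h = h * y → y = 1

def RF3 : Prop := ∀ (G : Type u) [Group G] [Finite G] (S : Subgroup G) q t c s z L H L' V,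
  C83 S q t c s z L H L' V → ¬ 3 ∣ 𝐂[t].index →
  (∀ y ∈ 𝐂(S), Odd (orderOf y) → ∀ h ∈ H, h ≠ 1 → y * h = h * y → y = 1) →
    ∀ y ∈ 𝐂(S), y ^ 3 = 1 → y = 1

def RSE : Prop := ∀ (G : Type u) [Group G] [Finite G] (V X : Subgroup G), NoReal G →
  Tr.SylowIn 2 V X → IsKleinFour V → (∀ v ∈ V, v ≠ 1 → X ⊓ 𝐂[v] ≤ 𝐍(V)) → X ≤ 𝐍(V)

def RB2 : Prop := ∀ (G : Type u) [Group G] [Finite G] (S : Subgroup G) q t c s z L H L' V,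
  C83 S q t c s z L H L' V → (∀ y ∈ 𝐂(S), y ^ 3 = 1 → y = 1) → 𝐍(V) ≤ 𝐍(H) →
  (∀ h ∈ H, h ≠ 1 → ∀ v ∈ V, v ≠ 1 → 𝐂[v] ⊓ 𝐂[h] ≤ V ⊔ H) → (∀ h ∈ H, h ≠ 1 → 𝐂[h] ≤ 𝐍(V)) →
    ∀ h ∈ H, h ≠ 1 → 𝐂[h] ≤ 𝐂(V)

end Cfsg.Agent.NR
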