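import Cfsg.Agent.Lib.NR.R83D
import Cfsg.Agent.Lib.GW.PBen

/-! Sylow 2-subgroup of order 8: the rows `RA` and `RSE`. -/

set_option autoImplicit false

namespace Cfsg.Agent.NR

open Subgroup FT SF.GP SF.T TwoGrp GW

universe u

theorem mem_of_pow_cop {G : Type*} [Group G] {X : Subgroup G} {d : G} {m n : ℕ} (h1 : d ^ m ∈ X)
    (h2 : d ^ n ∈ X) (h : m.Coprime n) : d ∈ X := by
  have e := Nat.gcd_eq_gcd_ab m n
  rw [h.gcd_eq_one] at e
  rw [← zpow_one d, show (1 : ℤ) = m * m.gcdA n + n * m.gcdB n by exact_mod_cast e, zpow_add, zpow_mul,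
    zpow_mul, zpow_natCast, zpow_natCast]
  exact mul_mem (zpow_mem h1 _) (zpow_mem h2 _)

theorem rse : RSE.{u} := fun G _ _ V X nr hV h4 hc => by
  replace hV := sylowIn_iff.1 hV
  have two : ∀ Q, Q ≤ X ⊓ 𝐍(V) → IsPGroup 2 Q → Q ≤ V := fun Q h1 h2 => le_sup_right.trans
    (sub_Sylow hV (isPGroup_sup hV.pgroup h2 (h1.trans inf_le_right)) le_sup_left
      (sup_le hV.le (h1.trans inf_le_left))).le
  have nV : ∀ g ∈ X, ∀ v ∈ V, v ≠ 1 → g * v * g⁻¹ ∈ V → g ∈ 𝐍(V) := fun g hg v hv v1 h =>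
    Tr.mem_normalizer_of_cj_le (two _ (le_inf (Tr.cj_le_of_mem hV.le hg) ((le_inf (Tr.cj_le_of_mem hV.le hg)
      (cent1J g v ▸ Tr.cj_mono g (four_cent1 h4 hv))).trans (hc _ h (by simpa using v1))))
      (Tr.isPGroup_cj g hV.pgroup))
  have inv : ∀ u ∈ X, u * u = 1 → ∀ v ∈ V, v ≠ 1 → u ∈ 𝐂[v] → u ∈ V := fun u hu uu v hv v1 h =>
    two _ (zpowers_le.2 ⟨hu, hc v hv v1 ⟨hu, h⟩⟩) (pg_zp uu) (mem_zpowers u)
  obtain ⟨a, ha, b, hb, a1, b1, ab⟩ := kleinFour_exists h4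
  have aa := kleinFour_mul_self h4 ha
  have bb := kleinFour_mul_self h4 hb
  have key : ∀ u ∈ X, u * u = 1 → u ∈ V := fun u hu uu => by
    have cX : u * b * u⁻¹ ∈ X := mul_mem (mul_mem hu (hV.le hb)) (inv_mem hu)
    have cc := Tr.conj_mul_self bb u
    have aX := mul_mem (hV.le ha) cX
    rcases Nat.even_or_odd (orderOf (a * (u * b * u⁻¹))) with he | ho
    · obtain ⟨m, -, h1, h2, h3⟩ := Tr.exists_central_of_even aa cc he
      have h5 := inv _ (pow_mem aX m) (Tr.mul_self_of_orderOf_two h1) a ha a1 (mem_cent1.2 h2.eq)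
      exact two _ (zpowers_le.2 ⟨hu, nV u hu b hb b1 (inv _ cX cc _ h5 (Tr.ne_one_of_orderOf_two h1)
        (mem_cent1.2 h3.eq.symm))⟩) (pg_zp uu) (mem_zpowers u)
    exfalso
    obtain ⟨k, hk, e⟩ := Tr.exists_conj_of_odd aa cc ho
    have h1 := Tr.conj_eq_inv_of_mem_zpowers (Tr.conj_mul_eq_inv_right aa cc) hk
    have h2 : k * (u * b * u⁻¹) * (k * (u * b * u⁻¹)) = 1 := by
      rw [Tr.inv_eq_of_mul_self cc] at h1
      rw [show k * (u * b * u⁻¹) * (k * (u * b * u⁻¹)) = k * (u * b * u⁻¹ * k * (u * b * u⁻¹)) by group, h1,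
        mul_inv_cancel]
    have h3 := Tr.conj_mul_eq_inv_right h2 uu
    have h5 : k * (u * b * u⁻¹) * u * b * (k * (u * b * u⁻¹) * u)⁻¹ = a := by rw [← e]; group
    have dX := mul_mem (mul_mem (zpowers_le.2 aX hk) cX) hu
    generalize k * (u * b * u⁻¹) * u = d at h3 h5 dX
    have dN := nV d dX b hb b1 (h5 ▸ ha)
    obtain ⟨i, m, hm, e1⟩ := Nat.exists_eq_pow_mul_and_not_dvd (orderOf_pos d).ne' 3 (by norm_num)
    have h6 : d ^ m = 1 := nr.eq_one (n := u) i (by rw [← pow_mul, mul_comm, ← e1, pow_orderOf_eq_one])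
      (by rw [← conj_pow, h3, inv_pow])
    refine ab (h5.symm.trans (cent1_conj.1 ?_))
    rcases (kleinFour_mem_iff h4 ha hb a1 b1 ab _).1 ((memJ_norm dN).2 ha) with h | h | h | h
    · exact absurd (by simpa using h) a1
    · exact absurd (by simpa using h.trans h5.symm) ab
    · obtain ⟨j, n, hn, e2⟩ := Nat.exists_eq_two_pow_mul_odd (orderOf_pos d).ne'
      refine mem_of_pow_cop (m := 2) (n := n) (cent1_conj.2 ?_) (four_cent1 h4 hb (two (zpowers (d ^ n))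
        (zpowers_le.2 (pow_mem (⟨dX, dN⟩ : d ∈ X ⊓ 𝐍(V)) n)) ?_ (mem_zpowers _))) hn.coprime_two_left
      · rw [show d ^ 2 * b * (d ^ 2)⁻¹ = d * (d * b * d⁻¹) * d⁻¹ by rw [sq]; group, h5, h]
      · obtain ⟨l, -, hl⟩ := (Nat.dvd_prime_pow Nat.prime_two).1 (orderOf_dvd_of_pow_eq_one
          (show (d ^ n) ^ 2 ^ j = 1 by rw [← pow_mul, mul_comm, ← e2, pow_orderOf_eq_one]))
        exact pgroup_of_card (n := l) (by rw [card_cycle, hl])
    · refine mem_of_pow_cop (m := 3) (n := m) (cent1_conj.2 ?_) (h6 ▸ one_mem _)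
        ((Nat.Prime.coprime_iff_not_dvd Nat.prime_three).2 hm)
      rw [show d ^ 3 * b * (d ^ 3)⁻¹ = d * (d * (d * b * d⁻¹) * d⁻¹) * d⁻¹ by rw [pow_three]; group, h5, h,
        show d * (a * b) * d⁻¹ = d * a * d⁻¹ * (d * b * d⁻¹) by group, h, h5, kleinFour_comm h4 ha hb,
        mul_assoc, aa, mul_one]
  exact fun g hg => nV g hg a ha a1 (key _ (mul_mem (mul_mem hg (hV.le ha)) (inv_mem hg)) (Tr.conj_mul_self aa g))

theorem ra : RA.{u} := fun G _ _ S q h t tt t1 => by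
  obtain ⟨L, l⟩ := h.lz t tt t1
  obtain ⟨Q, -, hQ⟩ := l.lf.exQ 1 (one_mem _) (one_pow 3)
  obtain ⟨e, he⟩ := l.lf.pow
  obtain ⟨P, hP, QP⟩ := Sylow_superset (hQ.le.trans l.le) (pgroup_of_card (p := 3) (hQ.card.trans he))
  obtain ⟨a, ha, a1⟩ : ∃ a ∈ Q, a ≠ 1 := (bot_or_exists_ne_one Q).resolve_left fun e' => by
    have := hQ.card
    rw [e', card_bot, he, pow_add] at this
    omega
  have h1 : ∀ u ∈ L, u * u = 1 → u ∈ 𝐂[a] → u = 1 := fun u hu uu hc => by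
    have := hQ.cube u (hQ.cent a ha a1 u hu (mem_cent1.1 hc))
    rwa [pow_three, uu, mul_one] at this
  have tP : t ∈ 𝐂(P) := sub_cent1.1 hP.le
  have hT : IsSylowIn 2 (zpowers t) 𝐍(P) := max_pgroup_Sylow (zpowers_le.2 (cent_sub _ tP)) (pg_zp tt)
    fun U h2 h3 h4 u hu => by
      obtain ⟨g, -, hg⟩ := Sylow_Jsub (sylowIn_iff.1 h.syl) le_top h4
      have sq : ∀ x ∈ U, x * x = 1 := fun x hx => sq_conj.1 (h.sq _ (hg (Tr.conj_mem_cj.2 hx)))
      have uu := sq u hu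
      have ut : u ∈ 𝐂[t] := mem_cent1.2 (by
        have := sq _ (mul_mem hu (h2 (mem_zpowers t)))
        rw [← inv_eq_of_mul_eq_one_right this, mul_inv_rev, inv_eq_of_sq uu, inv_eq_of_sq tt])
      have ua : u ∈ 𝐂[a] := cent_le_cent1 (QP ha) (h.nr.cent_of_sq hP.pgroup (h3 hu) (by rw [pow_two, uu]; exact one_mem _))
      rcases l.inv u ut uu with h5 | h5
      · rw [h1 u h5 uu ua]; exact one_mem _
      · have := h1 _ h5 (sq _ (mul_mem (h2 (mem_zpowers t)) hu)) (mul_mem (cent_le_cent1 (QP ha) tP) ua)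
        rw [eq_inv_of_mul_eq_one_right this]; exact inv_mem (mem_zpowers t)
  have tn : TN 𝐍(P) := tn_of_has ((sylowIn_iff.2 hT).hasNormalPComplement_of_burnside fun g hg => by
    rw [cent_cycle, cent1_conj]
    exact (mem_zp tt ((memJ_norm hg.1).2 (mem_zpowers t))).resolve_left (by simpa using t1))
  have oP := odd_p (r := 3) (by norm_num) hP.pgroup
  obtain ⟨R, hR, nR, PR⟩ := syl_inv (odd_core 𝐍(P)) (pg_zp tt) (hT.le.trans (pcore_norm _ _))
    (tn.le (normG P) oP) hP.pgroup hT.le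
  have h2 : R ≤ 𝐂[t] := sub_cent1.2 (h.nr.cent_of_sq hR.pgroup (nR (mem_zpowers t))
    (by rw [pow_two, tt]; exact one_mem _))
  rw [sub_Sylow hP hR.pgroup PR h2] at hR
  have h3 : IsSylowIn 3 P ⊤ := Sylow_subnorm.1 (by
    rw [top_inf_eq]; exact subHall_Sylow tn (by simp) hR)
  simpa using Sylow_not_dvd_index h3 hP.le

end Cfsg.Agent.NR
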