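import Cfsg.Agent.Lib.NR.R8D

/-! The inductive hypothesis for proper subgroups in the form `IHStmt`. -/

set_option autoImplicit false

namespace Cfsg.Agent.NR

open Subgroup FT SF.GP
open scoped MatrixGroups

universe u

theorem two_mul_card_psl (F : Type*) [Field F] [Finite F] (h2 : (2 : F) ≠ 0) :
    Nat.card PSL(2, F) * 2 = Nat.card F * (Nat.card F - 1) * (Nat.card F + 1) := by
  classical
  have := Fintype.ofFinite F
  have h1 := card_eq_card_quotient_mul_card_subgroup (center SL(2, F))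
  rw [Tr.L2.card_SL, Tr.L2.card_center h2, ← Nat.card_eq_fintype_card] at h1
  exact h1.symm

theorem three_pow_mod (f : ℕ) : 3 ^ (2 * f + 1) % 8 = 3 := by
  induction f with
  | zero => rfl
  | succ f ih => rw [show 2 * (f + 1) + 1 = 2 * f + 1 + 2 by ring, pow_add]; omega

theorem card_psl_gal (f : ℕ) : ∃ m, Odd m ∧ Nat.card PSL(2, GaloisField 3 (2 * f + 1)) = 4 * m := by
  have h := two_mul_card_psl (GaloisField 3 (2 * f + 1)) (two_ne (galois_facts f).1)
  rw [GaloisField.card 3 _ (by omega)] at h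
  obtain ⟨a, ha⟩ : ∃ a, 3 ^ (2 * f + 1) = 8 * a + 3 := ⟨3 ^ (2 * f + 1) / 8, by
    have := three_pow_mod f; omega⟩
  rw [ha, show 8 * a + 3 - 1 = 8 * a + 2 by omega] at h
  refine ⟨(2 * (4 * a + 1) + 1) * (2 * (2 * a) + 1) * (2 * a + 1),
    ((odd_two_mul_add_one _).mul (odd_two_mul_add_one _)).mul (odd_two_mul_add_one _), ?_⟩
  refine Nat.eq_of_mul_eq_mul_right two_pos ?_
  rw [h]; ring

theorem IsProd.card {G : Type*} [Group G] (h : IsProd G) :
    Nat.card G = 1 ∨ ∃ k m, 0 < k ∧ Odd m ∧ Nat.card G = 4 ^ k * m := by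
  obtain ⟨k, f, -, ⟨e⟩⟩ := h
  choose m hm hc using card_psl_gal
  have h1 : Nat.card G = 4 ^ k * ∏ i, m (f i) := by
    rw [Nat.card_congr e.toEquiv, Nat.card_pi]
    simp only [hc]
    rw [Finset.prod_mul_distrib]; simp
  rcases Nat.eq_zero_or_pos k with rfl | hk
  · exact .inl (by simpa using h1)
  · exact .inr ⟨k, _, hk, Finset.prod_induction _ Odd (fun _ _ => Odd.mul) odd_one fun i _ => hm _, h1⟩

theorem ih : IHStmt.{u} := fun G _ _ hS h K hK => by
  have : Fact (Nat.Prime 3) := ⟨Nat.prime_three⟩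
  have hc : Nat.card K ≤ Nat.card G - 1 := by
    have h1 := K.card_mul_index
    have h2 : K.index ≠ 1 := fun e => hK (index_eq_one.1 e)
    have h3 : K.index ≠ 0 := index_ne_zero_of_finite
    have h4 : 0 < Nat.card K := Nat.card_pos
    have h5 : Nat.card K * 2 ≤ Nat.card K * K.index := Nat.mul_le_mul_left _ (by omega)
    omega
  have hJ : (O2 K).map K.subtype ⊴ K := nrm_map_subtype _
  have hR : core {3}ᶜ ((O2 K).map K.subtype) =
      ((pPrimeCore 3 (O2 K)).map (O2 K).subtype).map K.subtype := by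
    rw [← p'core_eq_pPrimeCore, injm_pcore K.subtype_injective]
  have hn : K ≤ 𝐍(core {3}ᶜ ((O2 K).map K.subtype)) := norms_pcore _ hJ.nz
  refine ⟨_, core {3}ᶜ ((O2 K).map K.subtype), pcore_sub _ _, hJ.le, hJ.nz, hn,
    fun g hg g2 => ⟨⟨g, hg⟩, mem_O2 (k := 1) (Subtype.ext (by simpa [sq] using g2)), rfl⟩,
    p'groupE.1 (pcore_pgroup _ _), ?_, fun P _ hP hPR => ?_⟩
  · have h1 := card_eq_card_quotient_mul_card_subgroup (pPrimeCore 3 (O2 K))
    have h2 : #|core {3}ᶜ ((O2 K).map K.subtype)| = Nat.card (pPrimeCore 3 (O2 K)) := by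
      rw [hR, card_subtype, card_subtype]
    have h3 : #|(O2 K).map K.subtype| = Nat.card (O2 K) := card_subtype _ _
    rcases (isProd_O2 hS hc (h.subgroup K)).card with e | ⟨k, m, hk, hm, e⟩
    · exact .inl (eq_of_le_of_card_ge (pcore_sub _ _) (by rw [h2, h3, h1, e, one_mul])).ge
    · exact .inr ⟨k, m, hk, hm, by rw [h2, h3, h1, e, mul_comm]⟩
  · rw [map_le_iff_le_comap, O2, closure_le]
    rintro g ⟨k, hk⟩
    obtain ⟨x, hx, e⟩ := hP g g.2 k (by rw [← hk, ← coe_pow, pow_orderOf_eq_one, coe_one])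
    exact (memJ_norm (hn hx)).1 (hPR e)

end Cfsg.Agent.NR
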