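import Cfsg.Agent.Lib.NR.R83D
import Cfsg.Agent.Lib.NR.R8I
import Cfsg.Agent.Lib.GW.PGen

/-! Sylow 2-subgroup of order 8: the row `RB1`. -/

set_option autoImplicit false
set_option linter.unusedSectionVars false

namespace Cfsg.Agent.NR

open Subgroup FT SF.GP SF.T TwoGrp GW

universe u

variable {G : Type u} [Group G] [Finite G] {L H X : Subgroup G} {q : ℕ} {c s w y x : G}

theorem rb_odd (lf : LF L q) (lh : LH L H q c s) : Odd #|H| := by
  obtain ⟨e, he⟩ := lf.pow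
  have h1 := three_pow_mod (e + 1)
  have h2 := lh.card
  rw [show 2 * (e + 1) + 1 = 2 * e + 3 by ring, ← he] at h1
  exact Nat.odd_iff.2 (by omega)

theorem rb_n8 (lf : LF L q) : ¬ 8 ∣ #|L| := by
  obtain ⟨e, he⟩ := lf.pow
  have h1 := three_pow_mod (e + 1)
  rw [show 2 * (e + 1) + 1 = 2 * e + 3 by ring, ← he] at h1
  obtain ⟨a, rfl⟩ : ∃ a, q = 8 * a + 3 := ⟨q / 8, by omega⟩
  have h2 := lf.card
  rw [show (8 * a + 3) ^ 2 - 1 = 8 * (2 * (4 * a ^ 2 + 3 * a) + 1) from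
    Nat.sub_eq_of_eq_add (by ring)] at h2
  rintro ⟨m, hm⟩
  have h3 : (2 * (4 * a + 1) + 1) * (2 * (4 * a ^ 2 + 3 * a) + 1) = 2 * m :=
    Nat.eq_of_mul_eq_mul_left (show 0 < 8 by norm_num) (by rw [hm] at h2; linarith)
  exact (Nat.not_even_iff_odd.2 ((odd_two_mul_add_one _).mul (odd_two_mul_add_one _)))
    ⟨m, h3.trans (two_mul m)⟩

theorem rb_mem_of_sq (ho : Odd (orderOf x)) (h : x * x ∈ X) : x ∈ X := by
  obtain ⟨m, hm⟩ := ho
  have h1 := pow_orderOf_eq_one x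
  rw [hm, pow_succ, pow_mul, sq] at h1
  rw [eq_inv_of_mul_eq_one_right h1]; exact inv_mem (pow_mem h m)

theorem rb_one_of_sq (ho : Odd (orderOf x)) (h : x * x = 1) : x = 1 :=
  mem_bot.1 (rb_mem_of_sq ho (mem_bot.2 h))

section
variable (lh : LH L H q c s) (cc : c * c = 1) (ss : s * s = 1) (cs : c * s = s * c)
include lh cc

theorem rb_c (ho : Odd (orderOf x)) (h : c * x ∈ H) : x ∈ H := by
  refine rb_mem_of_sq ho ?_
  have h1 := lh.cc _ h
  rw [← mul_assoc, cc, one_mul] at h1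
  have h2 : x * x = c * x * (c * x) := by
    rw [← mul_assoc, ← h1]
  exact h2 ▸ mul_mem h h

include ss cs

omit [Finite G] in
theorem rb_sq (h : s * x ∈ H ∨ c * s * x ∈ H) : x * x = 1 := by
  have si := inv_eq_of_sq ss
  rcases h with h | h
  · have h1 := lh.inv _ h
    rw [← mul_assoc, ss, one_mul, mul_inv_rev] at h1
    exact mul_eq_one_iff_eq_inv.2 (mul_right_cancel h1)
  · have h1 := lh.inv _ h
    have h2 := lh.cc _ h
    have e : x = c * s * (c * s * x) := by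
      rw [← mul_assoc, show c * s * (c * s) = c * (s * c) * s by group, ← cs, ← mul_assoc, cc,
        one_mul, ss, one_mul]
    generalize c * s * x = k at *
    rw [e, show c * s * k * (c * s * k) = c * s * (k * c) * s * k by group, ← h2,
      show c * s * (c * k) * s * k = c * (s * c) * k * s * k by group, ← cs,
      show c * (c * s) * k * s * k = c * c * (s * k * s) * k by group, cc, one_mul]
    rw [si] at h1
    rw [h1, inv_mul_cancel]

theorem rb_odd_mem (hx : x ∈ L) (e : x * c = c * x) (ho : Odd (orderOf x)) : x ∈ H := by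
  rcases lh.cent x hx e with h | h | h | h
  · exact h
  · exact rb_c lh cc ho h
  · rw [rb_one_of_sq ho (rb_sq lh cc ss cs (.inl h))]; exact one_mem _
  · rw [rb_one_of_sq ho (rb_sq lh cc ss cs (.inr h))]; exact one_mem _

/-- `C_L(⟨c, s⟩)` has exponent two -/
theorem rb_cent (oH : Odd #|H|) (hx : x ∈ L) (e1 : x * c = c * x) (e2 : x * s = s * x) :
    x = 1 ∨ x = c ∨ x = s ∨ x = c * s := by
  have k : ∀ v, v * s = s * v → v * x ∈ H → v * v = 1 → x = v := fun v h1 h2 h3 => by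
    have h4 : v * x = 1 := Iv.eq_one (lh.inv _ h2) (odd_of_mem oH h2) (mem_cent1.2 (by
      rw [← mul_assoc, ← h1, mul_assoc, ← e2, mul_assoc]))
    rw [eq_inv_of_mul_eq_one_right h4, inv_eq_of_sq h3]
  rcases lh.cent x hx e1 with h | h | h | h
  · exact .inl (k 1 (by simp) (by simpa using h) (by simp))
  · exact .inr (.inl (k c cs h cc))
  · exact .inr (.inr (.inl (k s rfl h ss)))
  · exact .inr (.inr (.inr (k _ (by rw [mul_assoc, ← mul_assoc s, ← cs, mul_assoc]) h (by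
      rw [mul_assoc, ← mul_assoc s, ← cs, mul_assoc, ss, mul_one, cc]))))

theorem rb_comm (oH : Odd #|H|) (hw : w ∈ L) (wc : w * c * w⁻¹ = s) (ws : w * s * w⁻¹ = c * s)
    (hy : y ∈ 𝐍(L)) (yc : y ∈ 𝐂[c]) (ys : y ∈ 𝐂[s]) (ho : Odd (orderOf y)) : w ∈ 𝐂[y] := by
  have h1 : ∀ a, w * a * w⁻¹ ∈ 𝐂[y] → a ∈ 𝐂[w⁻¹ * y * w] := fun a ha => by
    rw [mem_cent1, show a * (w⁻¹ * y * w) = w⁻¹ * (w * a * w⁻¹ * y) * w by group, mem_cent1.1 ha]
    group
  have yc' := cent1C.1 yc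
  have ys' := cent1C.1 ys
  have h2 : ∀ a, a ∈ 𝐂[y] → w * a * w⁻¹ ∈ 𝐂[y] → y⁻¹ * (w⁻¹ * y * w) * a = a * (y⁻¹ * (w⁻¹ * y * w)) :=
    fun a ha hb => mem_cent1.1 (mul_mem (inv_mem (cent1C.1 ha)) (cent1C.1 (h1 a hb)))
  have h3 : y⁻¹ * (w⁻¹ * y * w) ∈ L := by
    have := mul_mem ((memJ_norm' hy).2 (inv_mem hw)) hw
    rwa [show y⁻¹ * w⁻¹ * y * w = y⁻¹ * (w⁻¹ * y * w) by group] at this
  have h4 := rb_cent lh cc ss cs oH h3 (h2 c yc' (wc ▸ ys')) (h2 s ys' (ws ▸ mul_mem yc' ys'))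
  obtain ⟨v, hv, vy, vv⟩ : ∃ v, y⁻¹ * (w⁻¹ * y * w) = v ∧ Commute y v ∧ v * v = 1 := by
    rcases h4 with h | h | h | h
    · exact ⟨_, h, Commute.one_right _, by simp⟩
    · exact ⟨_, h, mem_cent1.1 yc, cc⟩
    · exact ⟨_, h, mem_cent1.1 ys, ss⟩
    · exact ⟨_, h, (mem_cent1.1 (mul_mem yc' ys')).symm, by
        rw [mul_assoc, ← mul_assoc s, ← cs, mul_assoc, ss, mul_one, cc]⟩
  have h5 : w⁻¹ * y * w = y * v := by rw [← hv]; group
  have h6 : v ^ orderOf y = 1 := by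
    have := congrArg (· ^ orderOf y) h5
    simp only [vy.mul_pow, pow_orderOf_eq_one, one_mul] at this
    rw [← this, show w⁻¹ * y * w = w⁻¹ * y * w⁻¹⁻¹ by group, conj_pow, pow_orderOf_eq_one]; group
  obtain ⟨m, hm⟩ := ho
  rw [hm, pow_succ, pow_mul, sq, vv, one_pow, one_mul] at h6
  rw [h6, mul_one] at h5
  rw [mem_cent1]
  conv_lhs => rw [← h5]
  group

theorem rb_end (lf : LF L q) (c1 : c ≠ 1) (s1 : s ≠ 1) (sc : s ≠ c)
    (wc : w * c * w⁻¹ = s) (ws : w * s * w⁻¹ = c * s) (XL : X ≤ L) (h3 : ¬ 3 ∣ #|X|) (cX : c ∈ X)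
    (sX : s ∈ X) (wX : w ∈ 𝐍(X)) (hx : x ∈ X) (xH : x ∈ H) : x = 1 := by
  have oH := rb_odd lf lh
  have V4 := isKleinFour_four cc ss cs c1 s1 sc.symm
  have VX : four c s cc ss cs ≤ X := fun e he => by
    rcases mem_four.1 he with rfl | rfl | rfl | rfl
    exacts [one_mem _, cX, sX, mul_mem cX sX]
  generalize four c s cc ss cs = V at V4 VX
  have hS : IsSylowIn 2 V X := max_pgroup_Sylow VX (kleinFour_isPGroup V4) fun R h1 h2 h3 => by
    obtain ⟨m, hm⟩ := card_pgroup h3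
    have h5 : m ≤ 2 := by
      by_contra h5
      exact rb_n8 lf ((show 8 ∣ #|R| from hm ▸ pow_dvd_pow 2 (show 3 ≤ m by omega)).trans
        (cardSg (h2.trans XL)))
    refine (eq_of_le_of_card_ge h1 ?_).ge
    rw [hm, V4.card_four]; exact Nat.pow_le_pow_right (by norm_num) h5
  have hT : TN X := by
    refine tn_of_has ((sylowIn_iff.2 hS).hasNormalPComplement_of_burnside (relIndex_eq_one.1 ?_))
    have h1 := (kleinFour_three_point V4 (𝐍(V) ⊓ X) 𝐂(V) (fun g hg t ht => (memJ_norm hg.1).2 ht)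
      fun g _ => ⟨fun h t ht => by rw [← h t ht]; group, fun h t ht => by
        conv_lhs => rw [← h t ht]
        group⟩).1
    have h2 : ¬ 2 ∣ (𝐂(V)).relIndex (𝐍(V) ⊓ X) :=
      Sylow_not_dvd_index (Sylow_subl (le_inf (normG V) VX) inf_le_right hS) (four_cent V4)
    have h4 : ¬ 3 ∣ (𝐂(V)).relIndex (𝐍(V) ⊓ X) := fun e =>
      h3 ((e.trans (relIndex_dvd_card _ _)).trans (cardSg inf_le_right))
    have h5 := Nat.le_of_dvd (by norm_num) h1
    generalize (𝐂(V)).relIndex (𝐍(V) ⊓ X) = i at *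
    interval_cases i <;> omega
  by_contra x1
  have h0 : 𝐙(fit 𝐎(X)) ≠ ⊥ := mt (center_nil_eq1 (Fitting_nil _)).1 (Fitting_ne_bot
    (odd_sol (odd_core X)) (trivgPn.2 ⟨x, hT.mem hx (odd_of_mem oH xH), x1⟩))
  have hM : 𝐙(fit 𝐎(X)) ≤ 𝐎(X) := inf_le_left.trans (Fitting_sub _)
  have hn : 𝐍(X) ≤ 𝐍(𝐙(fit 𝐎(X))) := norms_center (norms_Fitting (norms_pcore _ le_rfl))
  have ab : ∀ a ∈ 𝐙(fit 𝐎(X)), ∀ b ∈ 𝐙(fit 𝐎(X)), a * b = b * a := fun a ha b hb => hb.2 a ha.1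
  have oM := odd_of_le hM (odd_core X)
  have ML := hM.trans ((pcore_sub _ _).trans XL)
  generalize 𝐙(fit 𝐎(X)) = M at *
  have cj : ∀ a v, a ∈ M ⊓ 𝐂[w * v * w⁻¹] → w⁻¹ * a * w ∈ M ⊓ 𝐂[v] := fun a v ha =>
    ⟨(memJ_norm' (hn wX)).2 ha.1, Tr.mem_cj.1 (cent1J w v ▸ (mem_inf.1 ha).2)⟩
  have e1 : M ⊓ 𝐂[c] = ⊥ := eq_bot_iff.2 fun a ha => by_contra fun a1 => by
    have aH := rb_odd_mem lh cc ss cs (ML ha.1) (mem_cent1.1 ha.2) (odd_of_mem oM ha.1)
    have hb : w * a * w⁻¹ ∈ M := (memJ_norm (hn wX)).2 ha.1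
    have bH : w * a * w⁻¹ ∈ H := (lh.centh a aH a1 _ (ML hb) (ab _ hb _ ha.1)).elim id
      (rb_c lh cc (odd_of_mem oM hb))
    have := Iv.eq_one (lh.inv _ bH) (odd_of_mem oM hb) (cent1C.1 (by
      rw [← wc, cent1J]; exact Tr.conj_mem_cj.2 ha.2))
    exact a1 (by simpa using this)
  have e2 : M ⊓ 𝐂[s] = ⊥ := eq_bot_iff.2 fun a ha => by
    have := e1.le (cj a c (wc ▸ ha))
    simpa [mul_assoc, mul_eq_one_iff_eq_inv, inv_mul_eq_one] using this
  refine h0 (eq_bot_iff.2 fun a ha => ?_)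
  have := e2.le (cj a s (ws ▸ ⟨ha, cent1C.1 (Iv.mul (inv_of_fpf cc (hn (normG X cX)) e1 ha)
    (inv_of_fpf ss (hn (normG X sX)) e2 ha))⟩))
  simpa [mul_assoc, mul_eq_one_iff_eq_inv, inv_mul_eq_one] using this

end

theorem rb1 : RB1.{u} := fun G _ _ S q t c s z L H L' V h y hy ho x hx x1 e => by
  by_contra y1
  have := h.simp
  have cm : ∀ a ∈ S, ∀ b ∈ S, a * b = b * a := fun a ha b hb => by
    rw [← inv_eq_of_sq (h.sq _ (mul_mem ha hb)), mul_inv_rev, inv_eq_of_sq (h.sq a ha),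
      inv_eq_of_sq (h.sq b hb)]
  have tt := h.sq t h.tS
  have cc := h.sq c h.cS
  have ss := h.sq s h.sS
  have ct : c ≠ t := fun e => h.lt.zL (e ▸ h.cL)
  have yS : ∀ a ∈ S, y ∈ 𝐂[a] := fun a ha => cent_le_cent1 ha hy
  have SK : S ≤ 𝐂[y] := fun a ha => cent1C.1 (yS a ha)
  have oH := rb_odd h.lt.lf h.lh
  obtain ⟨w, wL, -, wc, ws⟩ := h.lt.lf.rot c h.cL s h.sL cc ss h.c1 h.s1 h.sc (cm c h.cS s h.sS)
  obtain ⟨u, uL, -, ut, uc⟩ := h.lz'.lf.rot t h.tL' c h.cL' tt cc h.lt.z1 h.c1 ct (cm t h.tS c h.cS)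
  obtain ⟨H', lh'⟩ := h.lz'.lf.exH t h.tL' c h.cL' tt cc h.lt.z1 h.c1 ct (cm t h.tS c h.cS)
  have wK := rb_comm h.lh cc ss (cm c h.cS s h.sS) oH wL wc ws (h.lt.nrm (yS t h.tS)) (yS c h.cS)
    (yS s h.sS) ho
  have uK := rb_comm lh' tt cc (cm t h.tS c h.cS) (rb_odd h.lz'.lf lh') uL ut uc
    (h.lz'.nrm (yS z h.zS)) (yS t h.tS) (yS c h.cS) ho
  have wt : w * t * w⁻¹ = t := cent1_conj.1 (h.lt.le wL)
  have hK : 𝐂[y] ≠ ⊤ := fun e => by
    rcases (norm_eq_top_iff.1 (top_le_iff.1 ((e.symm.trans (cent_cycle y).symm).le.trans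
      (cent_sub _)))).eq_bot_or_eq_top with e' | e'
    · exact y1 (zpowers_eq_bot.1 e')
    · exact h.lt.z1 (rb_one_of_sq (odd_of_mem (X := zpowers y) (by rwa [Nat.card_zpowers])
        (e' ▸ mem_top t)) tt)
  obtain ⟨J, R, RJ, JK, nJ, nR, hJ, h3, hc, hP⟩ := h.ih _ hK
  have SJ : S ≤ J := fun a ha => hJ a (SK ha) (h.sq a ha)
  have syl : IsSylowIn 2 S 𝐂[y] := Sylow_subl SK le_top (sylowIn_iff.1 h.syl)
  have cw : ∀ {a}, a ∈ R → w * a * w⁻¹ ∈ R := fun ha => (memJ_norm (nR wK)).2 ha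
  have cu : ∀ {a}, a ∈ R → u * a * u⁻¹ ∈ R := fun ha => (memJ_norm (nR uK)).2 ha
  have k1 : c ∈ R → S ≤ R := fun hc a ha => by
    have tR : t ∈ R := (mul_mem_cancel_right hc).1 (uc ▸ cu hc)
    have VR : V ≤ R := fun v hv => by
      rcases (h.memV v).1 hv with rfl | rfl | rfl | rfl
      exacts [one_mem _, tR, hc, mul_mem tR hc]
    rcases (h.memS a).1 ha with e | e
    exacts [VR e, (mul_mem_cancel_left (wc ▸ cw hc)).1 (VR e)]
  have k2 : ∀ v ∈ V, v ≠ 1 → v ∈ R → S ≤ R := fun v hv v1 vR => by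
    rcases (h.memV v).1 hv with rfl | rfl | rfl | rfl
    · exact absurd rfl v1
    · exact k1 (ut ▸ cu vR)
    · exact k1 vR
    · exact k1 ((memJ_norm (nR uK)).1 (uc ▸ vR))
  have JR : J ≤ R := by
    by_cases h0 : R ⊓ S = ⊥
    · have oR : Odd #|R| := Nat.odd_iff.2 (Nat.two_dvd_ne_zero.1 ((Sylow_eq_bot_iff
        (Sylow_setI_normal ⟨RJ.trans JK, nR⟩ syl)).1 h0))
      refine hc.resolve_right fun ⟨k, m, _, hm, e⟩ => ?_
      have h1 := card_Sylow (Sylow_subl SJ JK syl)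
      rw [h.card, e, Nat.factorization_mul (cardG_gt0 R).ne' (by have := hm.pos; positivity),
        Nat.factorization_mul (by positivity) hm.pos.ne', show 4 = 2 ^ 2 from rfl, ← pow_mul,
        Finsupp.add_apply, Finsupp.add_apply, Nat.factorization_eq_zero_of_not_dvd
          (Nat.two_dvd_ne_zero.2 (Nat.odd_iff.1 oR)), Nat.factorization_eq_zero_of_not_dvd
          (Nat.two_dvd_ne_zero.2 (Nat.odd_iff.1 hm)), Nat.prime_two.factorization_pow,
        Finsupp.single_eq_same, show 8 = 2 ^ 3 from rfl] at h1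
      have := Nat.pow_right_injective le_rfl h1
      omega
    · refine hP S SK (fun g hg n e => (sylowIn_iff.2 syl).exists_conj_mem hg e) ?_
      obtain ⟨a, ⟨aR, aS⟩, a1⟩ := trivgPn.1 h0
      rcases (h.memS a).1 aS with e | e
      · exact k2 a e a1 aR
      have e' : a = s * (s * a) := by rw [← mul_assoc, ss, one_mul]
      have sc := cm s h.sS c h.cS
      have st := cm s h.sS t h.tS
      rcases (h.memV _).1 e with e | e | e | e <;> rw [e] at e'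
      · exact k1 ((memJ_norm (nR wK)).1 (by rwa [wc, ← mul_one s, ← e']))
      · refine k2 (t * c) ((h.memV _).2 (by simp)) (fun e => ct (by
          rw [eq_inv_of_mul_eq_one_right e, inv_eq_of_sq tt])) ((memJ_norm (nR wK)).1 ?_)
        rwa [← conj_mul, wt, wc, ← st, ← e']
      · refine k1 ((memJ_norm (nR wK)).1 (wc ▸ (memJ_norm (nR wK)).1 ?_))
        rwa [ws, ← sc, ← e']
      · refine k2 (t * c) ((h.memV _).2 (by simp)) (fun e => ct (by
          rw [eq_inv_of_mul_eq_one_right e, inv_eq_of_sq tt])) ((memJ_norm (nR wK)).1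
            ((memJ_norm (nR wK)).1 ?_))
        rwa [show w * (w * (t * c) * w⁻¹) * w⁻¹ = w * (w * t * w⁻¹) * w⁻¹ * (w * (w * c * w⁻¹) * w⁻¹) by
          group, wt, wc, wt, ws, ← sc, ← mul_assoc, ← st, mul_assoc, ← e']
  have xK : x ∈ 𝐂[y] := mem_cent1.2 e.symm
  have xJ : x ∈ J := rb_mem_of_sq (odd_of_mem oH hx) (by
    have h1 := mul_mem ((memJ_norm (nJ xK)).2 (SJ h.sS)) (inv_mem (SJ h.sS))
    rwa [show x * s * x⁻¹ * s⁻¹ = x * (s * x * s⁻¹)⁻¹ by group, h.lh.inv x hx, inv_inv] at h1)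
  exact x1 (rb_end h.lh cc ss (cm c h.cS s h.sS) h.lt.lf h.c1 h.s1 h.sc wc ws
    (X := J ⊓ L) inf_le_right (fun e => h3 (e.trans (cardSg (inf_le_left.trans JR))))
    ⟨SJ h.cS, h.cL⟩ ⟨SJ h.sS, h.sL⟩ (norms_cycle.1 (normsI (norms_cycle.2 (nJ wK))
      (norms_cycle.2 (normG L wL)))) ⟨xJ, h.lh.le hx⟩ hx)

end Cfsg.Agent.NR
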