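import Cfsg.Agent.Lib.NR.R83c1

/-! Sylow 2-subgroup of order 8: the centralizer of `h` centralizes `V`. -/

set_option autoImplicit false
set_option linter.unusedSectionVars false

namespace Cfsg.Agent.NR

open Subgroup FT SF.GP GW

universe u

variable {G : Type u} [Group G] [Finite G]

theorem c2_cyc {H R : Subgroup G} {k : G} {r : ℕ} [hr : Fact r.Prime] (hc : IsCyclic H) (hk : k ∈ H)
    (ok : orderOf k = r) (hX : ∀ g ∈ 𝐂[k], ∀ n, g ^ r ^ n = 1 → g ∈ H) (hR : IsPGroup r R) :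
    ∃ g, cj g R ≤ H := by
  have k1 : k ≠ 1 := fun e => hr.out.ne_one (by rw [← ok, e, orderOf_one])
  obtain ⟨P, hP, kP⟩ := Tr.exists_sylowIn_ge (Tr.isPGroup_zpowers_of_orderOf_eq ok) (le_top (a := zpowers k))
  have pe : ∀ a ∈ P, a ∈ 𝐂[k] → a ∈ H := fun a ha e => by
    obtain ⟨n, hn⟩ := hP.isPGroup ⟨a, ha⟩
    exact hX a e n (congrArg Subtype.val hn)
  obtain ⟨y, hy, oy⟩ := FT.Cauchy hr.out (pgroup_pdiv (pgroup_sub inf_le_left hP.isPGroup)
    (center_pgroup_ne_bot hP.isPGroup (ne_bot_of_le_ne_bot (mt zpowers_eq_bot.1 k1) kP)))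
  have e : zpowers y = zpowers k := eq_subG_cyclic hc
    (zpowers_le.2 (pe y hy.1 (cent_le_cent1 (zpowers_le.1 kP) hy.2))) (zpowers_le.2 hk)
    (by rw [card_cycle, card_cycle, oy, ok])
  obtain ⟨g, -, hg⟩ := hP.exists_cj_le hR le_top
  exact ⟨g, hg.trans fun a ha => pe a ha (by
    rw [← cent_cycle, ← e, cent_cycle]; exact sub_cent1.2 hy.2 ha)⟩

theorem S83.c2_nine {S L2 H : Subgroup G} {q r : ℕ} (h : S83 S q) [hr : Fact r.Prime] {z2 x k : G}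
    (l2 : LZ z2 L2 q) (xL : x ∈ L2) (x3 : x ^ 3 = 1) (x1 : x ≠ 1) (kx : k ∈ 𝐂[x])
    (iz : z2 * k * z2⁻¹ = k⁻¹) (ok : orderOf k = r) (r2 : r ≠ 2) (hc : IsCyclic H) (hk : k ∈ H)
    (cy : ∀ R : Subgroup G, IsPGroup r R → ∃ g, cj g R ≤ H) : 9 ∣ #|𝐂[k]| := by
  have := h.simp
  have : Fact (Nat.Prime 3) := ⟨Nat.prime_three⟩
  have zx : z2 ∈ 𝐂[x] := cent1C.1 (l2.le xL)
  obtain ⟨Q, xQ, lq⟩ := l2.lf.exQ x xL x3
  have QK : Q ≤ 𝐂[x] := fun a ha => mem_cent1.2 (lq.ab a ha x xQ)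
  have one : ∀ u ∈ L2, u ∈ 𝐂[x] → u * u = 1 → u = 1 := fun u hu e uu => by
    have := lq.cube u (lq.cent x xQ x1 u hu (mem_cent1.1 e))
    rwa [pow_three, uu, mul_one] at this
  have K0 : 𝐂[x] ≠ ⊤ := fun e => by
    rcases (normalizer_eq_top_iff.1 (top_le_iff.1 (e.ge.trans ((cent_cycle x).ge.trans
      (cent_sub _))))).eq_bot_or_eq_top with e' | e'
    · exact x1 (zpowers_eq_bot.1 e')
    · exact l2.zL (zpowers_le.2 xL (e'.ge (mem_top z2)))
  have sy : Tr.SylowIn 2 (zpowers z2) 𝐂[x] := Tr.sylowIn_of_maximal (SF.T.pg_zp l2.zz) (zpowers_le.2 zx)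
    fun P hP h1 h2 => le_antisymm (fun g hg => by
      have k : ∀ g ∈ P, g * g = 1 := fun g hg => by
        obtain ⟨k, hk⟩ := hP ⟨g, hg⟩
        exact h.two_sq (k := k) (congrArg Subtype.val hk)
      have gz : g * z2 = z2 * g := by
        rw [← Tr.inv_eq_of_mul_self (k _ (mul_mem hg (h1 (mem_zpowers z2)))), mul_inv_rev,
          Tr.inv_eq_of_mul_self (k g hg), Tr.inv_eq_of_mul_self l2.zz]
      rcases l2.inv g (mem_cent1.2 gz) (k g hg) with e | e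
      · exact one g e (h2 hg) (k g hg) ▸ one_mem _
      · exact eq_inv_of_mul_eq_one_right (one _ e (mul_mem zx (h2 hg))
          (k _ (mul_mem (h1 (mem_zpowers z2)) hg))) ▸ inv_mem (mem_zpowers z2)) h1
  obtain ⟨J, R, -, JK, nJ, nR, iJ, R3, hJ, -⟩ := h.ih _ K0
  have JR : J ≤ R := hJ.resolve_right fun ⟨j, m, j0, _, e⟩ => sy.not_dvd (by
    have h4 : 4 ∣ #|𝐂[x]| := ((dvd_pow_self 4 j0.ne').trans
      (e ▸ (Dvd.intro _ rfl).trans (Dvd.intro_left _ rfl))).trans (cardSg JK)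
    rw [← Lagrange sy.le, card_cycle, nt_prime_order Nat.prime_two (by rw [pow_two, l2.zz]) l2.z1] at h4
    exact Nat.dvd_of_mul_dvd_mul_left two_pos h4)
  have kR : k ∈ R := by
    have h1 := mul_mem (iJ z2 zx l2.zz) ((memJ_norm (nJ kx)).2 (iJ z2 zx l2.zz))
    rw [show z2 * (k * z2 * k⁻¹) = z2 * k * z2⁻¹ * (z2 * z2) * k⁻¹ by group, iz, l2.zz, mul_one,
      ← mul_inv_rev, inv_mem_iff, ← pow_two] at h1
    exact JR (mem_of_pow_cop h1 (by rw [← ok, pow_orderOf_eq_one]; exact one_mem _)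
      ((Nat.coprime_primes Nat.prime_two hr.out).2 r2.symm))
  obtain ⟨e, he⟩ := l2.lf.pow
  obtain ⟨R1, s1, n1⟩ := sol_coprime_Sylow_exists r (.inl (abelian_sol (abelianP.2 lq.ab))) (QK.trans nR)
    (by rw [lq.card, he]; exact (((Nat.Prime.coprime_iff_not_dvd Nat.prime_three).2 R3).symm).pow_right _)
  obtain ⟨g, hg⟩ := cy R1 s1.pgroup
  obtain ⟨y, hy, oy⟩ := FT.Cauchy hr.out (pgroup_pdiv s1.pgroup
    ((sylowIn_iff.2 s1).ne_bot (ok ▸ order_dvdG kR)))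
  have c1 : IsCyclic R1 := (cyclicJ g).1 (cyclicS hg hc)
  have ny := cyclic_norm_sub c1 (zpowers_le.2 hy) n1
  have e1 : zpowers (g * y * g⁻¹) = zpowers k := eq_subG_cyclic hc
    (zpowers_le.2 (hg (Tr.conj_mem_cj.2 hy))) (zpowers_le.2 hk) (by rw [card_cycle, card_cycle, ord_conj, oy, ok])
  have e2 : #|𝐂[k]| = #|𝐂(zpowers y)| := by
    rw [← cent_cycle, ← e1, cent_cycle, cent1J, Tr.card_cj, cent_cycle]
  have i3 : 𝐂(zpowers y).relIndex Q ∣ 3 := by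
    have := cyclic_quotient_cent_prime (by rw [card_cycle, oy]; exact hr.out) ny
    rw [← card_quotient (norms_cent ny), ← IsCyclic.exponent_eq_card]
    refine Monoid.exponent_dvd_of_forall_pow_eq_one fun a => ?_
    obtain ⟨a, ha⟩ := a
    obtain ⟨b, hb, rfl⟩ := (mem_qt_of_le (norms_cent ny)).1 ha
    exact Subtype.ext (by
      change cst _ b ^ 3 = 1
      rw [← cst_pow (norms_cent ny hb), lq.cube b hb, cst_one])
  have e3 := LagrangeI' Q 𝐂(zpowers y)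
  rw [lq.card, he] at e3
  rw [e2]
  refine Dvd.dvd.trans ?_ (cardSg (inf_le_right : Q ⊓ 𝐂(zpowers y) ≤ _))
  refine Nat.dvd_of_mul_dvd_mul_right three_pos (Dvd.dvd.trans ?_ (Nat.mul_dvd_mul_left _ i3))
  rw [e3]; exact pow_dvd_pow 3 (show 3 ≤ 2 * e + 3 by omega)

theorem rb2 : RB2.{u} := fun G _ _ S q t c s z L H L' V h f3 _ cv cN k0 hk0 k01 g hg => by
  by_contra gV
  obtain ⟨r, hr, hd⟩ := Nat.exists_prime_and_dvd (mt orderOf_eq_one_iff.1 k01)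
  have := Fact.mk hr
  have ok := orderOf_pow_orderOf_div (orderOf_pos k0).ne' hd
  have hk := pow_mem hk0 (orderOf k0 / r)
  have hg' : g ∈ 𝐂[k0 ^ (orderOf k0 / r)] := cent1C.1 (pow_mem (cent1C.1 hg) _)
  generalize k0 ^ (orderOf k0 / r) = k at ok hk hg'
  have k1 : k ≠ 1 := fun e => hr.ne_one (by rw [← ok, e, orderOf_one])
  have rH : r ∣ #|H| := ok ▸ order_dvdG hk
  have r2 : r ≠ 2 := by rintro rfl; exact h.tau.1.not_two_dvd_nat rH
  have r3 : r ≠ 3 := by rintro rfl; exact h.tau.2.1 rH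
  obtain ⟨n9, h6, z2, x, L2, l2, xL, x3, x1, kx, iz⟩ := h.c1_first f3 hk k1 (cv k hk k1) (cN k hk k1) hg' gV
  exact n9 (h.toS83.c2_nine l2 xL x3 x1 kx iz ok r2 h.lh.cyc hk fun R => c2_cyc h.lh.cyc hk ok
    fun a ha n e => mem_of_pow_cop (h6 a ha) (e ▸ one_mem _) (Nat.Coprime.pow_right n
      (Nat.Coprime.mul_left (m := 2) (n := 3) ((Nat.coprime_primes Nat.prime_two hr).2 r2.symm)
        ((Nat.coprime_primes Nat.prime_three hr).2 r3.symm))))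

end Cfsg.Agent.NR
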