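import Cfsg.Agent.Lib.NR.R83g
import Cfsg.Agent.Lib.NR.R83a
import Cfsg.Agent.Lib.NR.KC4

/-! Sylow 2-subgroup of order 8: an element of order 3 in the centralizer of `h`. -/

set_option autoImplicit false
set_option linter.unusedSectionVars false

namespace Cfsg.Agent.NR

open Subgroup FT SF.GP GW

universe u

variable {G : Type u} [Group G] [Finite G]

namespace C83

variable {S : Subgroup G} {q : ℕ} {t c s z : G} {L H L' V : Subgroup G}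
  (h : C83 S q t c s z L H L' V)
include h

theorem c1_v2 {a : G} (ha : a ∈ V) : a * a = 1 := h.sq a (h.VS ha)
theorem c1_vc {a b : G} (ha : a ∈ V) (hb : b ∈ V) : a * b = b * a := h.comm (h.VS ha) (h.VS hb)

theorem c1_mem {a b : G} (ha : a ∈ V) (a1 : a ≠ 1) (at' : a ≠ t) (hb : b ∈ V) :
    b = 1 ∨ b = t ∨ b = a ∨ b = t * a := by
  have e : t * (t * c) = c := by rw [← mul_assoc, h.tt, one_mul]
  rcases (h.memV a).1 ha with rfl | rfl | rfl | rfl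
  exacts [absurd rfl a1, absurd rfl at', (h.memV b).1 hb, by rw [e]; have := (h.memV b).1 hb; tauto]

theorem c1_cV {a g : G} (ha : a ∈ V) (a1 : a ≠ 1) (at' : a ≠ t) (h1 : g ∈ 𝐂[t]) (h2 : g ∈ 𝐂[a]) :
    g ∈ 𝐂(V) := sub_cent1.1 fun b hb => by
  rcases h.c1_mem ha a1 at' hb with rfl | rfl | rfl | rfl
  exacts [one_mem _, cent1C.1 h1, cent1C.1 h2, mul_mem (cent1C.1 h1) (cent1C.1 h2)]

theorem c1_rot {g : G} (hg : g ∈ 𝐍(V)) (hf : ∀ v ∈ V, v ≠ 1 → g ∉ 𝐂[v]) :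
    ∃ a ∈ V, a ≠ 1 ∧ a ≠ t ∧ g * t * g⁻¹ = a ∧ g * a * g⁻¹ = t * a ∧ g * (t * a) * g⁻¹ = t := by
  obtain ⟨a, e⟩ : ∃ a, g * t * g⁻¹ = a := ⟨_, rfl⟩
  have ha : a ∈ V := e ▸ (memJ_norm hg).2 h.tV
  have a1 : a ≠ 1 := by rw [← e]; simpa using h.lt.z1
  have a2 : a ≠ t := fun e' => hf t h.tV h.lt.z1 (cent1_conj.2 (e.trans e'))
  have m : g * (t * a) * g⁻¹ = a * (g * a * g⁻¹) := by rw [← e]; group
  have k : g * a * g⁻¹ = t * a := by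
    rcases h.c1_mem ha a1 a2 ((memJ_norm hg).2 ha) with e' | e' | e' | e'
    · exact absurd (by simpa using e') a1
    · exact absurd (cent1_conj.2 (by rw [m, e', h.c1_vc ha h.tV])) (hf (t * a) (mul_mem h.tV ha) fun e'' =>
        a2 (by rw [eq_inv_of_mul_eq_one_right e'', Tr.inv_eq_of_mul_self h.tt]))
    · exact absurd (cent1_conj.2 e') (hf a ha a1)
    · exact e'
  exact ⟨a, ha, a1, a2, e, k, by rw [m, k, h.c1_vc h.tV ha, ← mul_assoc, h.c1_v2 ha, one_mul]⟩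

theorem c1_A3 : ¬ 3 ∣ #|V ⊔ H| := fun e => by
  have := e.trans (Solv.card_sup_dvd_of_le_normalizer (h.HV.trans (cent_sub V)))
  rw [h.V4.card_four] at this
  exact h.tau.2.1 ((Nat.Coprime.dvd_mul_left (by norm_num)).1 this)

theorem c1_first (f3 : ∀ y ∈ 𝐂(S), y ^ 3 = 1 → y = 1) {k g : G} (hk : k ∈ H) (k1 : k ≠ 1)
    (cv : ∀ v ∈ V, v ≠ 1 → 𝐂[v] ⊓ 𝐂[k] ≤ V ⊔ H) (cN : 𝐂[k] ≤ 𝐍(V)) (hg : g ∈ 𝐂[k]) (gV : g ∉ 𝐂(V)) :
    ¬ 9 ∣ #|𝐂[k]| ∧ (∀ y ∈ 𝐂[k], y ^ 6 ∈ H) ∧ ∃ z2 x L2, LZ z2 L2 q ∧ x ∈ L2 ∧ x ^ 3 = 1 ∧ x ≠ 1 ∧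
      k ∈ 𝐂[x] ∧ z2 * k * z2⁻¹ = k⁻¹ := by
  have : Fact (Nat.Prime 3) := ⟨Nat.prime_three⟩
  have rt : ∀ y ∈ 𝐂[k], y ∉ 𝐂(V) → _ := fun y hy yV =>
    h.c1_rot (cN hy) fun v hv v1 e => yV (h.AV (cv v hv v1 ⟨e, hy⟩))
  have c3 : ∀ y ∈ 𝐂[k], y ^ 3 ∈ V ⊔ H := fun y hy => by
    refine cv t h.tV h.lt.z1 ⟨?_, pow_mem hy 3⟩
    by_cases yV : y ∈ 𝐂(V)
    · exact pow_mem (cent_le_cent1 h.tV yV) 3
    obtain ⟨a, -, -, -, e1, e2, e3⟩ := rt y hy yV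
    exact cent1_conj.2 (by
      rw [show y ^ 3 * t * (y ^ 3)⁻¹ = y * (y * (y * t * y⁻¹) * y⁻¹) * y⁻¹ by rw [pow_three]; group,
        e1, e2, e3])
  have eA : 𝐂[k] ⊓ 𝐂[t] = V ⊔ H := le_antisymm (inf_comm 𝐂[k] 𝐂[t] ▸ cv t h.tV h.lt.z1)
    (le_inf (h.Ah hk) (h.AV.trans (cent_le_cent1 h.tV)))
  have n9 : ¬ 9 ∣ #|𝐂[k]| := fun e => by
    have i1 : 𝐂[t].relIndex 𝐂[k] ≤ #|V| := rel_le_card fun a ha =>
      mul_mem ((memJ_norm (cN ha)).2 h.tV) (inv_mem h.tV)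
    rw [← LagrangeI' 𝐂[k] 𝐂[t], eA] at e
    have := Nat.le_of_dvd (indexg_gt0 _ _) ((Nat.Coprime.dvd_mul_left (Nat.Coprime.pow_left 2
      ((Nat.Prime.coprime_iff_not_dvd Nat.prime_three).2 h.c1_A3))).1 e)
    rw [h.V4.card_four] at i1
    omega
  refine ⟨n9, fun y hy => by
    rw [show y ^ 6 = y ^ 3 * y ^ 3 by rw [← pow_add]]; exact h.Asq (c3 y hy), ?_⟩
  obtain ⟨x, hx, xV, x3⟩ : ∃ x ∈ 𝐂[k], x ∉ 𝐂(V) ∧ x ^ 3 = 1 := ⟨g ^ #|V ⊔ H|, pow_mem hg _,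
    fun e => gV (mem_of_pow_cop (h.AV (c3 g hg)) e
      ((Nat.Prime.coprime_iff_not_dvd Nat.prime_three).2 h.c1_A3)),
    by rw [← pow_mul, mul_comm, pow_mul, expg_cardG (c3 g hg)]⟩
  have x1 : x ≠ 1 := fun e => xV (e ▸ one_mem _)
  obtain ⟨a, ha, a1, a2, e1, e2, e3⟩ := rt x hx xV
  have p3 : IsPGroup 3 (zpowers x) := Tr.isPGroup_zpowers (k := 1) (by rw [pow_one, x3])
  have sy : Tr.SylowIn 3 (zpowers x) 𝐂[k] := ⟨zpowers_le.2 hx, p3, fun e => n9 (by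
    rw [← Lagrange (zpowers_le.2 hx), card_cycle, nt_prime_order Nat.prime_three x3 x1]
    exact Nat.mul_dvd_mul_left 3 e)⟩
  have ik : Iv s k := h.lh.inv k hk
  obtain ⟨n, hn, y, hy, e⟩ := sy.frattini (x := s) (by
    rw [← cent_cycle]; exact norms_cent (norms_cycle.2 ik.nz) (mem_zpowers s))
  have ey : y = n⁻¹ * s := by rw [e]; group
  obtain ⟨m, hm, zz⟩ := h.toS83.odd_pow y
  have iz : y ^ m * k * (y ^ m)⁻¹ = k⁻¹ := conj_odd_pow (ey ▸ ik.mul_cent (inv_mem hn)) hm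
  have zx : y ^ m ∈ 𝐂[x] := cent_cycle x ▸
    h.nr.cent_of_two_elt p3 (a := 1) (pow_mem hy m) (by rw [pow_one, pow_two, zz])
  have zN : y ^ m ∈ 𝐍(V) := pow_mem (ey ▸ mul_mem (inv_mem (cN hn)) (cent_sub V (h.SV h.sS))) m
  generalize y ^ m = z2 at zz iz zx zN
  have z1 : z2 ≠ 1 := fun e => k1 (h.H2 hk (by
    rw [e, one_mul, inv_one, mul_one] at iz; nth_rw 1 [iz]; simp))
  have fx : ∀ u, z2 ∈ 𝐂[u] → z2 ∈ 𝐂[x * u * x⁻¹] := fun u hu => by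
    rw [cent1J, Tr.mem_cj, show x⁻¹ * z2 * x = z2 by rw [mul_assoc, mem_cent1.1 zx]; group]; exact hu
  have zt : z2 ∈ 𝐂[t] := by
    by_contra hc
    obtain ⟨b, -, b1, -, f1, f2, -⟩ := h.c1_rot zN fun v hv v1 e => hc (by
      rcases h.c1_mem ha a1 a2 hv with rfl | rfl | rfl | rfl
      exacts [absurd rfl v1, e, e3 ▸ fx _ (e2 ▸ fx _ e), e3 ▸ fx _ e])
    rw [← f1, show z2 * (z2 * t * z2⁻¹) * z2⁻¹ = z2 * z2 * t * (z2 * z2)⁻¹ by group, zz, f1] at f2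
    exact b1 (by simpa using f2)
  have za : z2 ∈ 𝐂[a] := e1 ▸ fx _ zt
  have zV := h.c1_cV ha a1 a2 zt za
  obtain ⟨L2, l2⟩ := h.lz z2 zz z1
  have xn := l2.nrm (cent1C.1 zx)
  have tL : t ∈ L2 := by
    by_contra hc
    have h1 : a ∉ L2 := fun e => hc ((memJ_norm xn).1 (e1 ▸ e))
    have := mul_mem ((l2.inv t (cent1C.1 zt) h.tt).resolve_left hc)
      ((l2.inv a (cent1C.1 za) (h.c1_v2 ha)).resolve_left h1)
    rw [mem_cent1.1 zt, mul_assoc, ← mul_assoc z2, zz, one_mul, ← e2] at this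
    exact h1 ((memJ_norm xn).1 this)
  have aL : a ∈ L2 := e1 ▸ (memJ_norm xn).2 tL
  have ta := h.c1_vc h.tV ha
  obtain ⟨w, wL, w3, w1, w2⟩ := l2.lf.rot t tL a aL h.tt (h.c1_v2 ha) h.lt.z1 a1 a2 ta
  obtain ⟨H2, lh⟩ := l2.lf.exH t tL a aL h.tt (h.c1_v2 ha) h.lt.z1 a1 a2 ta
  have wN : w ∈ 𝐍(V) := mem_normalizer_fintype fun b hb => by
    rcases h.c1_mem ha a1 a2 hb with rfl | rfl | rfl | rfl
    exacts [by simp, w1 ▸ ha, w2 ▸ mul_mem h.tV ha, by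
      rw [show w * (t * a) * w⁻¹ = w * t * w⁻¹ * (w * a * w⁻¹) by group, w1, w2]
      exact mul_mem ha (mul_mem h.tV ha)]
  obtain ⟨y0, rfl⟩ : ∃ y0, x = w * y0 := ⟨w⁻¹ * x, by group⟩
  have yV : y0 ∈ 𝐂(V) := h.c1_cV ha a1 a2
    (cent1_conj.2 (MulAut.conj w |>.injective (by simp only [MulAut.conj_apply]; rw [w1, ← e1]; group)))
    (cent1_conj.2 (MulAut.conj w |>.injective (by simp only [MulAut.conj_apply]; rw [w2, ← e2]; group)))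
  have yz : y0 ∈ 𝐂[z2] := (mul_mem_cancel_left (l2.le wL)).1 (cent1C.1 zx)
  have yL : y0 * w * y0⁻¹ ∈ L2 := (memJ_norm (l2.nrm yz)).2 wL
  obtain ⟨d, ed⟩ : ∃ d, y0 * w * y0⁻¹ = d * w := ⟨y0 * w * y0⁻¹ * w⁻¹, by group⟩
  have dL : d ∈ L2 := (mul_mem_cancel_right wL).1 (ed ▸ yL)
  have dC : d ∈ 𝐂(V) := by
    have := mul_mem yV ((memJ_norm (norms_cent le_rfl wN)).2 (inv_mem yV))
    rwa [show y0 * (w * y0⁻¹ * w⁻¹) = y0 * w * y0⁻¹ * w⁻¹ by group, ed, mul_inv_cancel_right] at this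
  have dV : d ∈ V := by
    have o2 : Odd #|H2| := by
      have := lh.card.trans h.lh.card.symm
      exact (show #|H2| = #|H| by omega) ▸ h.tau.1
    have k : ∀ v ∈ V, v * d ∈ H2 → d ∈ V := fun v hv e => by
      have := Iv.eq_one (lh.inv _ e) (odd_of_mem o2 e)
        (cent1C.1 (cent_le_cent1 ha (mul_mem (h.SV (h.VS hv)) dC)))
      exact eq_inv_of_mul_eq_one_right this ▸ inv_mem hv
    rcases lh.cent d dL (mem_cent1.1 (cent_le_cent1 h.tV dC)) with e | e | e | e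
    exacts [k 1 (one_mem _) (by simpa using e), k _ h.tV e, k _ ha e, k _ (mul_mem h.tV ha) e]
  have y6 : (y0 ^ 2) ^ 3 = 1 := by
    have e4 : y0 * (d * w) * y0⁻¹ = w := by
      rw [show y0 * (d * w) * y0⁻¹ = y0 * d * y0⁻¹ * (y0 * w * y0⁻¹) by group, ed,
        cent1_conj.1 (cent_le_cent1 dV yV), ← mul_assoc, h.c1_v2 dV, one_mul]
    have e5 : w * d * w⁻¹ * y0 ^ 3 = 1 := by
      calc w * d * w⁻¹ * y0 ^ 3 = w * d * w⁻¹ * w ^ 3 * y0 ^ 3 := by rw [w3, mul_one]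
        _ = w * (d * w) * w * y0 ^ 3 := by simp only [pow_three]; group
        _ = w * (y0 * w * y0⁻¹) * (y0 * (y0 * w * y0⁻¹) * y0⁻¹) * y0 ^ 3 := by rw [ed, e4]
        _ = (w * y0) ^ 3 := by simp only [pow_three]; group
        _ = 1 := x3
    rw [← pow_mul, show 2 * 3 = 3 + 3 from rfl, pow_add, eq_inv_of_mul_eq_one_right e5, ← mul_inv_rev,
      h.c1_v2 ((memJ_norm wN).2 dV), inv_one]
  have y2 : y0 ^ 2 = 1 := by
    have VL : V ≤ L2 := fun b hb => by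
      rcases h.c1_mem ha a1 a2 hb with rfl | rfl | rfl | rfl
      exacts [one_mem _, tL, aL, mul_mem tL aL]
    have c8 : #|V ⊔ zpowers z2| = 8 := by
      rw [TI_cardMg (zpowers_le.2 zN) (eq_bot_iff.2 fun b hb => (SF.T.mem_zp zz hb.2).resolve_right
        fun e => l2.zL (e ▸ VL hb.1)), h.V4.card_four, card_cycle,
        nt_prime_order Nat.prime_two (by rw [pow_two, zz]) z1]
    obtain ⟨g0, -, e0⟩ := h.syl.exists_cj_le (pgroup_of_card (n := 3) c8) le_top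
    have e6 := eq_of_le_card e0 (by rw [Tr.card_cj, c8, h.card])
    have := f3 (g0 * y0 ^ 2 * g0⁻¹) (by
      rw [← e6, Tr.centralizer_cj]
      exact Tr.conj_mem_cj.2 (pow_mem (sub_cent1.1 (sup_le (sub_cent1.2 yV) (zpowers_le.2 (cent1C.1 yz)))) 2))
      (by rw [conj_pow, y6]; group)
    simpa using this
  refine ⟨z2, _, L2, l2, ?_, x3, x1, cent1C.1 hx, iz⟩
  have h2 : (w * y0) ^ 2 ∈ L2 := by
    rw [show (w * y0) ^ 2 = w * (y0 * w * y0⁻¹) * y0 ^ 2 by simp only [pow_two]; group, y2, mul_one]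
    exact mul_mem wL yL
  exact mem_of_pow_cop h2 (x3 ▸ one_mem _) (by norm_num)

end C83

end Cfsg.Agent.NR
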