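import Cfsg.Agent.Lib.NR.R83g

/-! An element of prime order `r ≥ 5` inverted by `z` and centralizing an element of order 3 of
`L` has a centralizer of order divisible by 9 when the Sylow `r`-subgroups are cyclic. -/

set_option autoImplicit false
set_option linter.unusedSectionVars false

namespace Cfsg.Agent.NR

open Subgroup FT SF.GP GW

universe u

variable {G : Type u} [Group G] [Finite G]

theorem nine_dvd_cent {Q : Subgroup G} {y : G} {e : ℕ} (hq : #|Q| = 3 ^ (2 * e + 3))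
    (cube : ∀ a ∈ Q, a ^ 3 = 1) (hy : (orderOf y).Prime) (hn : Q ≤ 𝐍(zpowers y)) :
    9 ∣ #|𝐂[y]| := by
  haveI := Aut_prime_cyclic' (X := zpowers y) (by rwa [card_cycle])
  let f := (zpowers y).normalizerMonoidHom.comp (inclusion hn)
  have h1 : Nat.card f.range ∣ 3 := by
    rw [← IsCyclic.exponent_eq_card]
    refine Monoid.exponent_dvd_of_forall_pow_eq_one ?_
    rintro ⟨_, a, rfl⟩
    refine Subtype.ext ?_
    show f a ^ 3 = 1
    rw [← map_pow, show a ^ 3 = 1 from Subtype.ext (cube a a.2), map_one]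
  have h2 := f.ker.card_mul_index
  rw [index_ker, hq] at h2
  have h3 : f.ker.map Q.subtype ≤ 𝐂[y] := by
    rintro _ ⟨a, ha, rfl⟩
    have := congrArg Subtype.val (DFunLike.congr_fun (MonoidHom.mem_ker.1 ha) ⟨y, mem_zpowers y⟩)
    exact mem_cent1.2 (mul_inv_eq_iff_eq_mul.1 this)
  refine Dvd.dvd.trans ?_ (cardSg h3)
  rw [card_map_of_injective Q.subtype_injective]
  obtain ⟨c, hc⟩ := h1
  have h4 : Nat.card f.ker * 3 = 3 ^ (2 * e + 3) * c := by rw [← h2, mul_assoc, ← hc]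
  exact ⟨3 ^ (2 * e) * c, by
    apply Nat.eq_of_mul_eq_mul_right (show 0 < 3 by norm_num); rw [h4]; ring⟩

theorem S83.no_fix {S : Subgroup G} {q : ℕ} (h : S83 S q) {z x k : G} {L : Subgroup G}
    (lz : LZ z L q) (xL : x ∈ L) (x3 : x ^ 3 = 1) (x1 : x ≠ 1) (hk : k ∈ 𝐂[x])
    (zk : z * k * z⁻¹ = k⁻¹) {r : ℕ} (hr : r.Prime) (r5 : 5 ≤ r) (ok : orderOf k = r)
    (h1 : ∀ y : G, orderOf y = r → ∃ g : G, ∃ n : ℕ, y = g * k ^ n * g⁻¹)
    (h2 : ∀ R : Subgroup G, IsPGroup r R → IsCyclic R) : 9 ∣ #|𝐂[k]| := by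
  haveI := Fact.mk hr
  haveI := h.simp
  obtain ⟨Q, xQ, hQ⟩ := lz.lf.exQ x xL x3
  obtain ⟨e, he⟩ := lz.lf.pow
  have zK : z ∈ 𝐂[x] := cent1C.1 (lz.le xL)
  have r2 : (orderOf k).Coprime 2 := by
    rw [ok]; exact (Nat.coprime_primes hr Nat.prime_two).2 (by omega)
  have o2 : orderOf (k ^ 2) = r := by rw [r2.orderOf_pow, ok]
  have hK : 𝐂[x] ≠ ⊤ := fun hK => by
    rcases (inferInstance : (center G).Normal).eq_bot_or_eq_top with e | e
    · exact x1 (mem_bot.1 (e ▸ mem_center_iff.2 fun g => mem_cent1.1 (hK ▸ mem_top g)))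
    · have : k * z = z * k := mem_center_iff.1 (e ▸ mem_top z) k
      rw [← this, mul_inv_cancel_right, eq_inv_iff_mul_eq_one, ← pow_two] at zk
      rw [zk, orderOf_one] at o2
      omega
  have one : ∀ g ∈ 𝐂[x], g ∈ L → g * g = 1 → g = 1 := fun g gK gL gg => by
    have := hQ.cube g (hQ.cent x xQ x1 g gL (mem_cent1.1 gK))
    rwa [pow_succ, pow_two, gg, one_mul] at this
  have zp : IsPGroup 2 (zpowers z) :=
    Tr.isPGroup_zpowers (k := 1) (by rw [pow_one, pow_two, lz.zz])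
  have syl : Tr.SylowIn 2 (zpowers z) 𝐂[x] := by
    refine Tr.sylowIn_of_maximal zp (zpowers_le.2 zK) fun P hP zP PK => le_antisymm ?_ zP
    have sq : ∀ g ∈ P, g * g = 1 := fun g hg =>
      let ⟨_, hn⟩ := Tr.isPGroup_iff_forall_mem.1 hP g hg
      h.two_sq hn
    intro g hg
    have zP' := zP (mem_zpowers z)
    have gz : g * z = z * g := by
      rw [← Tr.inv_eq_of_mul_self (sq _ (mul_mem hg zP')), mul_inv_rev,
        Tr.inv_eq_of_mul_self (sq g hg), Tr.inv_eq_of_mul_self lz.zz]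
    rcases lz.inv g (mem_cent1.2 gz) (sq g hg) with gL | gL
    · rw [one g (PK hg) gL (sq g hg)]; exact one_mem _
    · rw [eq_inv_of_mul_eq_one_right (one _ (PK (mul_mem zP' hg)) gL (sq _ (mul_mem zP' hg)))]
      exact inv_mem (mem_zpowers z)
  have n4 : ¬ 4 ∣ #|𝐂[x]| := by
    have e1 := Tr.card_mul_relIndex syl.le
    rw [card_cycle, orderOf_eq_prime (p := 2) (by rw [pow_two, lz.zz]) lz.z1] at e1
    have e2 := syl.not_dvd
    omega
  obtain ⟨J, R, -, JK, KJ, -, hJ, R3, hc, -⟩ := h.ih _ hK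
  have J3 : ¬ 3 ∣ #|J| := by
    rcases hc with hc | ⟨a, m, ha, -, hc⟩
    · exact fun d => R3 (d.trans (cardSg hc))
    · refine absurd (Dvd.dvd.trans ?_ (cardSg JK)) n4
      rw [hc]
      exact ((dvd_pow_self 4 ha.ne').mul_right m).mul_left _
  have kJ : k ^ 2 ∈ J := by
    have := mul_mem (hJ z zK lz.zz) (hJ (k⁻¹ * z * k) (mul_mem (mul_mem (inv_mem hk) zK) hk)
      (by rw [show k⁻¹ * z * k * (k⁻¹ * z * k) = k⁻¹ * (z * z) * k by group, lz.zz]; group))
    rwa [show z * (k⁻¹ * z * k) = (z⁻¹ * k * z⁻¹)⁻¹ * k by group, Tr.inv_eq_of_mul_self lz.zz,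
      show z * k * z = k⁻¹ by rw [← zk, Tr.inv_eq_of_mul_self lz.zz], inv_inv, ← pow_two] at this
  have QK : Q ≤ 𝐂[x] := fun a ha => mem_cent1.2 (hQ.ab a ha x xQ)
  obtain ⟨P, hP, QP⟩ := sol_coprime_Sylow_exists r (Or.inl (abelian_sol (abelianP.2 hQ.ab)))
    (QK.trans KJ) (by
      rw [hQ.card, he]
      exact Nat.Coprime.pow_right _ ((Nat.Prime.coprime_iff_not_dvd Nat.prime_three).2 J3).symm)
  obtain ⟨y, yP, oy⟩ := Cauchy hr ((Sylow_dvd_iff hP).2 (o2 ▸ order_dvdG kJ))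
  have h9 := nine_dvd_cent (hQ.card.trans he) hQ.cube (oy ▸ hr)
    (cyclic_norm_sub (h2 P hP.pgroup) (zpowers_le.2 yP) QP)
  obtain ⟨g, n, rfl⟩ := h1 y oy
  rw [cent1J, Tr.card_cj] at h9
  refine h9.trans (cardSg fun a ha => ?_)
  have n1 : k ^ n ≠ 1 := fun e => by
    rw [e, mul_one, mul_inv_cancel, orderOf_one] at oy
    omega
  have : k ∈ zpowers (k ^ n) := by
    have hc : (orderOf k).Coprime n := by
      rw [ok, hr.coprime_iff_not_dvd, ← ok, orderOf_dvd_iff_pow_eq_one]; exact n1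
    rw [eq_of_le_of_card_ge (zpowers_le.2 (npow_mem_zpowers k n)) (by
      rw [card_cycle, card_cycle, hc.orderOf_pow])]
    exact mem_zpowers k
  obtain ⟨m, hm⟩ := this
  rw [mem_cent1, ← hm]
  exact ((show Commute a (k ^ n) from mem_cent1.1 ha).zpow_right m).eq

end Cfsg.Agent.NR
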