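import Cfsg.Agent.Lib.NR.R83g
import Cfsg.Agent.Lib.Transfer.Focal

/-! Local analysis for a Sylow 2-subgroup of order 8: `C(S)` has no element of order three. -/

set_option autoImplicit false
set_option linter.unusedSectionVars false

namespace Cfsg.Agent.NR

open Subgroup FT SF.GP GW

universe u

variable {G : Type u} [Group G] [Finite G]

namespace S83

variable {S : Subgroup G} {q : ℕ} (h : S83 S q)
include h

theorem f3_inS {d : G} (hd : d ∈ 𝐂(S)) (e : d * d = 1) : d ∈ S := by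
  have hS := sylowIn_iff.1 h.syl
  have := sub_Sylow hS (isPGroup_sup hS.pgroup (Tr.isPGroup_zpowers (k := 1) (by rw [pow_one, pow_two, e])) (zpowers_le.2 (cent_sub S hd))) le_sup_left le_top
  exact this ▸ mem_sup_right (mem_zpowers d)

theorem f3_LS {L H : Subgroup G} {a b d : G} (lh : LH L H q a b) (ha : a ∈ S) (hb : b ∈ S)
    (hd : d ∈ 𝐂(S)) (dL : d ∈ L) : d ∈ S := by
  have k : ∀ v ∈ S, v * d ∈ H → d * d ∈ H := fun v hv e => by
    have := mul_mem e e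
    rwa [mul_assoc, ← mul_assoc d, ← hd v hv, ← mul_assoc, ← mul_assoc, h.sq v hv, one_mul] at this
  have d2 : d * d ∈ H := by
    rcases lh.cent d dL (hd a ha).symm with e | e | e | e
    exacts [mul_mem e e, k _ ha e, k _ hb e, k _ (mul_mem ha hb) e]
  have e := lh.inv _ d2
  rw [mul_mem hd hd b hb, mul_inv_cancel_right] at e
  refine h.f3_inS hd (h.two_sq (k := 2) ?_)
  rw [show 2 ^ 2 = 2 + 2 from rfl, pow_add, pow_two]
  exact mul_eq_one_iff_eq_inv.2 e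

theorem f3_rot {L H : Subgroup G} {z a b w y : G} (lz : LZ z L q) (lh : LH L H q a b) (hz : z ∈ S)
    (ha : a ∈ S) (hb : b ∈ S) (wL : w ∈ L) (wS : w ∈ 𝐍(S)) (hy : y ∈ 𝐂(S)) (y3 : y ^ 3 = 1) :
    w ∈ 𝐂[y] := by
  have c1 : w * y * w⁻¹ ∈ 𝐂(S) := Tr.conj_mem_of_mem_normalizer (cent_norm S wS) hy
  have dS : w * y * w⁻¹ * y⁻¹ ∈ S := h.f3_LS lh ha hb (mul_mem c1 (inv_mem hy)) (by
    rw [mul_assoc, mul_assoc, ← mul_assoc y]
    exact mul_mem wL (Tr.conj_mem_of_mem_normalizer (lz.nrm (cent_le_cent1 hz hy)) (inv_mem wL)))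
  obtain ⟨d, hd⟩ : ∃ d, d = w * y * w⁻¹ * y⁻¹ := ⟨_, rfl⟩
  rw [← hd] at dS
  have e : w * y * w⁻¹ = d * y := by rw [hd]; group
  have cm : Commute d y := hy d dS
  have e3 : (d * y) ^ 3 = 1 := by rw [← e, conj_pow, y3]; group
  rw [cm.mul_pow, y3, mul_one, pow_succ, pow_two, h.sq d dS, one_mul] at e3
  rw [cent1_conj, e, e3, one_mul]

end S83

namespace C83

variable {S : Subgroup G} {q : ℕ} {t c s z : G} {L H L' V : Subgroup G}
  (h : C83 S q t c s z L H L' V)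
include h

theorem f3_nS {g u : G} (h1 : g * t * g⁻¹ ∈ S) (h2 : g * c * g⁻¹ ∈ S) (hu : s * u ∈ V)
    (h3 : g * u * g⁻¹ ∈ S) : g ∈ 𝐍(S) := by
  have k : ∀ v ∈ V, g * v * g⁻¹ ∈ S := fun v hv => by
    rcases (h.memV v).1 hv with rfl | rfl | rfl | rfl
    exacts [by simp, h1, h2, by
      rw [show g * (t * c) * g⁻¹ = g * t * g⁻¹ * (g * c * g⁻¹) by group]; exact mul_mem h1 h2]
  refine mem_normalizer_fintype fun a ha => ((h.memS a).1 ha).elim (k a) fun e => ?_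
  rw [show g * a * g⁻¹ = g * u * g⁻¹ * (g * ((s * u)⁻¹ * (s * a)) * g⁻¹) by group]
  exact mul_mem h3 (k _ (mul_mem (inv_mem hu) e))

theorem f3_tr {y a : G} (hy : y ∈ 𝐂(S)) (y3 : y ^ 3 = 1) (ha : a ∈ S) (a1 : a ≠ 1) :
    ∃ k ∈ 𝐂[y], k * t * k⁻¹ = a := by
  have cs := h.comm h.cS h.sS
  obtain ⟨w, wL, -, w1, w2⟩ := h.lt.lf.rot c h.cL s h.sL h.cc h.ss h.c1 h.s1 h.sc cs
  obtain ⟨v, vL, -, v1, v2⟩ := h.lz'.lf.rot t h.tL' c h.cL' h.tt h.cc h.lt.z1 h.c1 h.ct h.tc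
  obtain ⟨H', lh'⟩ := h.lz'.lf.exH t h.tL' c h.cL' h.tt h.cc h.lt.z1 h.c1 h.ct h.tc
  have w0 : w * t * w⁻¹ = t := cent1_conj.1 (h.lt.le wL)
  have v0 : v * z * v⁻¹ = z := cent1_conj.1 (h.lz'.le vL)
  have zV : s * z ∈ V := ((h.memS z).1 h.zS).resolve_left fun e => h.lz'.zL (by
    rcases (h.memV z).1 e with e | e | e | e <;> rw [e]
    exacts [one_mem _, h.tL', h.cL', mul_mem h.tL' h.cL'])
  have wy := h.f3_rot h.lt h.lh h.tS h.cS h.sS wL (h.f3_nS (by rw [w0]; exact h.tS) (w1 ▸ h.sS) (u := s)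
    (h.ss ▸ one_mem V) (w2 ▸ mul_mem h.cS h.sS)) hy y3
  have vy := h.f3_rot h.lz' lh' h.zS h.tS h.cS vL (h.f3_nS (v1 ▸ h.cS) (v2 ▸ mul_mem h.tS h.cS) zV
    (by rw [v0]; exact h.zS)) hy y3
  have st := h.comm h.sS h.tS
  have step : ∀ g ∈ 𝐂[y], ∀ b, (∃ k ∈ 𝐂[y], k * t * k⁻¹ = b) → ∃ k ∈ 𝐂[y], k * t * k⁻¹ = g * b * g⁻¹ :=
    fun g hg b ⟨k, hk, e⟩ => ⟨g * k, mul_mem hg hk, by rw [← e]; group⟩
  have r0 : ∃ k ∈ 𝐂[y], k * t * k⁻¹ = t := ⟨1, one_mem _, by simp⟩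
  have r1 := v1 ▸ step v vy _ r0
  have r2 := v2 ▸ step v vy _ r1
  have r3 := w1 ▸ step w wy _ r1
  have r4 := w2 ▸ step w wy _ r3
  have r5 := step w wy _ r2
  rw [show w * (t * c) * w⁻¹ = w * t * w⁻¹ * (w * c * w⁻¹) by group, w0, w1] at r5
  have r6 := step w wy _ r5
  rw [show w * (t * s) * w⁻¹ = w * t * w⁻¹ * (w * s * w⁻¹) by group, w0, w2] at r6
  rcases (h.memS a).1 ha with e | e
  · rcases (h.memV a).1 e with rfl | rfl | rfl | rfl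
    exacts [absurd rfl a1, r0, r1, r2]
  · have ea : a = s * (s * a) := by rw [← mul_assoc, h.ss, one_mul]
    rcases (h.memV _).1 e with e | e | e | e <;> rw [ea, e]
    exacts [by rwa [mul_one], by rwa [st], by rwa [← cs], by rwa [← mul_assoc, st, mul_assoc, ← cs]]

theorem f3_dec {g : G} (hg : g ∈ 𝐂[t]) : ∃ m ∈ L, m * g ∈ 𝐂(S) := by
  have cs := h.comm h.cS h.sS
  have cj : ∀ {g a}, g ∈ 𝐂[t] → a ∈ L → g * a * g⁻¹ ∈ L := fun hg ha =>
    Tr.conj_mem_of_mem_normalizer (h.lt.nrm hg) ha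
  obtain ⟨l, lL, e1⟩ := h.lt.lf.one _ (cj hg h.cL) (sq_conj.2 h.cc) (mt conj_eq_one_iff.1 h.c1) c h.cL
    h.cc h.c1
  obtain ⟨g1, hg1⟩ : ∃ g1, g1 = l * g := ⟨_, rfl⟩
  have t1 : g1 ∈ 𝐂[t] := hg1 ▸ mul_mem (h.lt.le lL) hg
  have c1 : g1 * c * g1⁻¹ = c := by rw [hg1]; conv_rhs => rw [← e1]
                                    group
  have uc : g1 * s * g1⁻¹ * c = c * (g1 * s * g1⁻¹) := by
    conv_lhs => rw [← c1]
    conv_rhs => rw [← c1]
    rw [show g1 * s * g1⁻¹ * (g1 * c * g1⁻¹) = g1 * (s * c) * g1⁻¹ by group, ← cs]; group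
  have uu : g1 * s * g1⁻¹ * (g1 * s * g1⁻¹) = 1 := sq_conj.2 h.ss
  have fin : ∀ v, v = 1 ∨ v = c → v * s * (g1 * s * g1⁻¹) ∈ H → ∃ m ∈ L, m * g ∈ 𝐂(S) := fun v hv e => by
    obtain ⟨n, hn⟩ := h.tau.1
    obtain ⟨k, hk⟩ : ∃ k, k = (v * s * (g1 * s * g1⁻¹)) ^ (n + 1) := ⟨_, rfl⟩
    have kH : k ∈ H := hk ▸ pow_mem e _
    have kk : k * k = v * s * (g1 * s * g1⁻¹) := by
      have := pow_card_eq_one' (G := H) (x := ⟨_, e⟩)
      rw [hk, ← pow_add, show n + 1 + (n + 1) = #|H| + 1 by omega, pow_succ,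
        show (v * s * (g1 * s * g1⁻¹)) ^ #|H| = 1 from congrArg Subtype.val this, one_mul]
    have vv : v * v = 1 := by rcases hv with rfl | rfl; exacts [one_mul _, h.cc]
    have vk : v * k = k * v := by rcases hv with rfl | rfl; exacts [by simp, h.lh.cc k kH]
    have vs : v * s = s * v := by rcases hv with rfl | rfl; exacts [by simp, cs]
    have sk : s * k = k⁻¹ * s := by rw [← h.lh.inv k kH]; group
    have e2 : k * g1 * s * (k * g1)⁻¹ = v * s := by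
      have : g1 * s * g1⁻¹ = v * s * (k * k) := by
        rw [kk, ← mul_assoc, show v * s * (v * s) = 1 by
          rw [mul_assoc, ← mul_assoc s, ← vs, mul_assoc, h.ss, mul_one, vv], one_mul]
      rw [show k * g1 * s * (k * g1)⁻¹ = k * (g1 * s * g1⁻¹) * k⁻¹ by group, this,
        show k * (v * s * (k * k)) * k⁻¹ = k * v * (s * k) by group, ← vk, sk]
      group
    have t2 : k * g1 ∈ 𝐂[t] := mul_mem (h.lt.le (h.lh.le kH)) t1
    have c2 : k * g1 ∈ 𝐂[c] := mul_mem (mem_cent1.2 (h.lh.cc k kH).symm) (cent1_conj.2 c1)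
    have s2 : k * g1 ∈ 𝐂[s] := by
      rcases hv with rfl | rfl
      · exact cent1_conj.2 (by rw [e2, one_mul])
      exfalso
      generalize k * g1 = x at e2 c2
      obtain ⟨m, ⟨j, rfl⟩, hm⟩ := h.odd_pow x
      have x2 : x * x ∈ 𝐂[s] := cent1_conj.2 (by
        rw [show x * x * s * (x * x)⁻¹ = x * (x * s * x⁻¹) * x⁻¹ by group, e2,
          show x * (v * s) * x⁻¹ = x * v * x⁻¹ * (x * s * x⁻¹) by group, cent1_conj.1 c2, e2,
          ← mul_assoc, vv, one_mul])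
      have e3 : x ^ (2 * j + 1) * s * (x ^ (2 * j + 1))⁻¹ = v * s := by
        rw [pow_succ', pow_mul, pow_two,
          show x * (x * x) ^ j * s * (x * (x * x) ^ j)⁻¹ = x * ((x * x) ^ j * s * ((x * x) ^ j)⁻¹) * x⁻¹
            by group, cent1_conj.1 (pow_mem x2 j), e2]
      generalize x ^ (2 * j + 1) = u at e3 hm
      have e4 : u * s * (u * s) = v := by
        rw [show u * s * (u * s) = u * s * u⁻¹ * (u * u) * s by group, e3, hm, mul_one, mul_assoc, h.ss,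
          mul_one]
      refine h.c1 (e4.symm.trans (h.two_sq (k := 2) ?_))
      rw [show (u * s) ^ 2 ^ 2 = u * s * (u * s) * (u * s * (u * s)) by
        rw [show 2 ^ 2 = 2 + 2 from rfl, pow_add, pow_two], e4, vv]
    refine ⟨k * l, mul_mem (h.lh.le kH) lL, mem_cent.2 fun a ha => ?_⟩
    rw [mul_assoc k, ← hg1]
    have hV := h.mem_CV.2 ⟨t2, c2⟩
    rcases (h.memS a).1 ha with e | e
    · exact hV a e
    · exact (mem_cent1.1 ((mul_mem_cancel_left (cent1C.1 s2)).1 (mem_cent1.2 (hV _ e))))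
  rcases h.lh.cent _ (cj t1 h.sL) uc with e | e | e | e
  · exact absurd (conj_eq_one_iff.1 (h.H2 e uu)) h.s1
  · have := h.H2 e (by rw [mul_assoc, ← mul_assoc _ c, uc, mul_assoc, uu, mul_one, h.cc])
    rw [mul_eq_one_iff_inv_eq, Tr.inv_eq_of_mul_self h.cc] at this
    exact absurd (by simpa using this.symm.trans c1.symm) h.sc
  · exact fin 1 (Or.inl rfl) (by rwa [one_mul])
  · exact fin c (Or.inr rfl) e

theorem f3_ab (hb : ∀ y ∈ 𝐂(S), Odd (orderOf y) → ∀ x ∈ H, x ≠ 1 → y * x = x * y → y = 1)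
    {x y : G} (hx : x ∈ 𝐂[t]) (hy : y ∈ 𝐂[t]) : x * y * x⁻¹ * y⁻¹ ∈ zpowers t ⊔ L := by
  obtain ⟨m, hm, ha⟩ := h.f3_dec hx
  obtain ⟨n, hn, hb'⟩ := h.f3_dec hy
  obtain ⟨a, rfl⟩ : ∃ a, x = m⁻¹ * a := ⟨m * x, by group⟩
  obtain ⟨b, rfl⟩ : ∃ b, y = n⁻¹ * b := ⟨n * y, by group⟩
  rw [mul_inv_cancel_left] at ha hb'
  have cj : ∀ {g a}, g ∈ 𝐂(S) → a ∈ L → g * a * g⁻¹ ∈ zpowers t ⊔ L := fun hg ha => mem_sup_right
    (Tr.conj_mem_of_mem_normalizer (h.lt.nrm (cent_le_cent1 h.tS hg)) ha)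
  rw [show m⁻¹ * a * (n⁻¹ * b) * (m⁻¹ * a)⁻¹ * (n⁻¹ * b)⁻¹ =
    m⁻¹ * (a * n⁻¹ * a⁻¹) * (a * b * a⁻¹ * b⁻¹) * (b * m * b⁻¹) * n by group]
  refine mul_mem (mul_mem (mul_mem (mul_mem (mem_sup_right (inv_mem hm)) (cj ha (inv_mem hn))) ?_)
    (cj hb' hm)) (mem_sup_right hn)
  obtain ⟨x, hx0⟩ := cyclicP.1 h.lh.cyc
  have xH : x ∈ H := hx0 ▸ mem_zpowers x
  have x1 : x ≠ 1 := fun e => by have := h.tau.2.2; rw [hx0, e] at this; simp at this
  have nH : ∀ g ∈ 𝐂(S), ∃ i : ℤ, x ^ i = g * x * g⁻¹ := fun g hg =>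
    (hx0 ▸ Tr.conj_mem_of_mem_normalizer (h.NH (cent_sub V (centS h.VS hg))) xH :)
  obtain ⟨i, hi⟩ := nH a ha
  obtain ⟨j, hj⟩ := nH b hb'
  have dC : a * b * a⁻¹ * b⁻¹ ∈ 𝐂(S) := mul_mem (mul_mem (mul_mem ha hb') (inv_mem ha)) (inv_mem hb')
  have e1 : a * b * x * (a * b)⁻¹ = b * a * x * (b * a)⁻¹ := by
    rw [show a * b * x * (a * b)⁻¹ = a * (b * x * b⁻¹) * a⁻¹ by group, ← hj, ← conj_zpow, ← hi,
      show b * a * x * (b * a)⁻¹ = b * (a * x * a⁻¹) * b⁻¹ by group, ← hi, ← conj_zpow, ← hj,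
      ← zpow_mul, ← zpow_mul, mul_comm]
  have dx : a * b * a⁻¹ * b⁻¹ ∈ 𝐂[b * a * x * (b * a)⁻¹] := cent1_conj.2 (by
    conv_rhs => rw [← e1]
    group)
  generalize a * b * a⁻¹ * b⁻¹ = d at dC dx
  obtain ⟨k, hk, e⟩ := h.odd_pow d
  have dd := hb (d * d) (mul_mem dC dC) (hk.of_dvd_nat (orderOf_dvd_of_pow_eq_one (by
    rw [(Commute.refl d).mul_pow, e]))) _ (Tr.conj_mem_of_mem_normalizer
      (h.NH (cent_sub V (centS h.VS (mul_mem hb' ha)))) xH) (mt conj_eq_one_iff.1 x1)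
      (mem_cent1.1 (mul_mem dx dx))
  rcases h.lt.inv d (cent_le_cent1 h.tS dC) dd with e | e
  · exact mem_sup_right e
  · exact (mul_mem_cancel_left (mem_sup_left (mem_zpowers t))).1 (mem_sup_right e)

end C83

theorem rf3 : RF3.{u} := fun G _ _ S q t c s z L H L' V h hi hb y hy y3 => by
  by_contra y1
  have := h.simp
  have : Fact (Nat.Prime 3) := ⟨Nat.prime_three⟩
  have yt := cent_le_cent1 h.tS hy
  obtain ⟨N, hN, hc, yN, -⟩ := Tr.exists_normal_not_mem_of_control (p := 3) (H := 𝐂[t])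
    (K := zpowers t ⊔ L) (fun _ hx _ hy => h.f3_ab hb hx hy) hi yt (k := 1) (fun e => y1 (by
      obtain ⟨a, ha, l, hl, rfl⟩ := (mem_join_norm' (zpowers_le.2 (h.lt.nrm (cent1id t)))).1 e
      have cm : Commute a l := (mem_cent1.1 (zpowers_le.2 (cent1C.1 (h.lt.le hl)) ha) :)
      have aa := h.sq a (zpowers_le.2 h.tS ha)
      have e2 := h.sq _ (h.f3_LS h.lh h.cS h.sS (mul_mem hy hy) (by
        rw [← pow_two, cm.mul_pow, pow_two, aa, one_mul]; exact pow_mem hl 2))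
      rw [show a * l * (a * l) * (a * l * (a * l)) = (a * l) ^ 3 * (a * l) by
        simp only [pow_succ, pow_zero, one_mul, mul_assoc], y3, one_mul] at e2
      exact e2)) (by rwa [pow_one]) (fun m a ha => by
      have hy' := pow_mem hy m
      have y3' : (y ^ m) ^ 3 = 1 := by rw [← pow_mul, mul_comm, pow_mul, y3, one_pow]
      have SK : S ≤ 𝐂[y ^ m] := fun b hb => mem_cent1.2 (hy' b hb)
      obtain ⟨x, hx, e⟩ := (sylowIn_iff.2 ((sylowIn_iff.1 h.syl).of_le SK le_top)).exists_conj_mem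
        (show a⁻¹ * t * a⁻¹⁻¹ ∈ 𝐂[y ^ m] from mem_cent1.2 (by
          calc a⁻¹ * t * a⁻¹⁻¹ * y ^ m = a⁻¹ * (t * (a * y ^ m * a⁻¹)) * a := by group
            _ = _ := by rw [← mem_cent1.1 ha]; group)) (k := 1)
        (by rw [pow_one, pow_two]; exact sq_conj.2 h.tt)
      obtain ⟨k, hk, e2⟩ := h.f3_tr hy' y3' e (mt conj_eq_one_iff.1 (mt conj_eq_one_iff.1 h.lt.z1))
      have h1 : a * (x⁻¹ * k) ∈ 𝐂[t] := cent1_conj.2 (by
        rw [show a * (x⁻¹ * k) * t * (a * (x⁻¹ * k))⁻¹ = a * x⁻¹ * (k * t * k⁻¹) * x * a⁻¹ by group, e2]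
        group)
      have h2 := h.f3_ab hb h1 (pow_mem yt m)
      rwa [show a * (x⁻¹ * k) * y ^ m * (a * (x⁻¹ * k))⁻¹ = a * (x⁻¹ * k * y ^ m * (x⁻¹ * k)⁻¹) * a⁻¹
        by group, cent1_conj.1 (mul_mem (inv_mem hx) hk)] at h2)
  rcases hN.eq_bot_or_eq_top with rfl | rfl
  · obtain ⟨w, -, e, -⟩ := h.rotV
    have : w * t * w⁻¹ * t⁻¹ = 1 := mem_bot.1 (hc (commutator_mem_commutator (mem_top w) (mem_top t)))
    exact h.ct (e.symm.trans (mul_inv_eq_one.1 this))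
  · exact yN (mem_top y)

end Cfsg.Agent.NR
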