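import Cfsg.Agent.Lib.NR.R84b

/-! The character theoretic contradiction for a Sylow 2-subgroup of order 8, end. -/

set_option autoImplicit false
set_option linter.unusedSectionVars false

namespace Cfsg.Agent.NR

open Subgroup Finset FT SF.GP Cfsg.Agent.Char GW
open scoped ComplexConjugate Classical

variable {G : Type*} [Group G] [Fintype G]

theorem arith84 {q τ f i : ℕ} {a b d : ℤ} (hτ : 4 * τ = q + 1) (τ1 : 1 < τ) (hf : 2 * f ≤ τ)
    (cop : q.Coprime i) (d0 : d ≠ 0) (e : i * (a - b) = 2 * q ^ 2 * d)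
    (hb : a ^ 2 + b ^ 2 ≤ (f * (q * (q ^ 2 - 1)) : ℕ)) : False := by
  have h1 : ((q : ℤ) ^ 2) ∣ a - b :=
    (Nat.isCoprime_iff_coprime.2 cop).pow_left.dvd_of_dvd_mul_left ⟨2 * d, by rw [e]; ring⟩
  have h2 : a - b ≠ 0 := fun h => by
    rw [h] at e
    have : (q : ℤ) ≠ 0 := by omega
    exact mul_ne_zero (mul_ne_zero two_ne_zero (pow_ne_zero 2 this)) d0 (by rw [← e, mul_zero])
  obtain ⟨k, hk⟩ := h1
  have k0 : k ≠ 0 := by rintro rfl; exact h2 (by simpa using hk)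
  have k1 : 1 ≤ k ^ 2 := by have := sq_pos_of_ne_zero k0; omega
  have h3 : f * (q * (q ^ 2 - 1)) ≤ f * (q * q ^ 2) := by gcongr; omega
  have h4 : a ^ 2 + b ^ 2 ≤ f * (q * q ^ 2) := hb.trans (by exact_mod_cast h3)
  have h5 : (a - b) ^ 2 ≤ 2 * (a ^ 2 + b ^ 2) := by nlinarith [sq_nonneg (a + b)]
  have h6 : ((q : ℤ) ^ 2) ^ 2 ≤ (a - b) ^ 2 := by rw [hk, mul_pow]; nlinarith [sq_nonneg ((q : ℤ) ^ 2)]
  have h7 : (2 * f : ℤ) < q := by omega
  have h8 : (0 : ℤ) < q * q ^ 2 := by have : (0 : ℤ) < q := by omega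
                                      positivity
  nlinarith

namespace D84

variable {t c s g₀ : G} {Q H Y A N : Subgroup G} {q τ f : ℕ} (h : D84 t c s g₀ Q H Y A N q τ f)
include h

theorem tY_iff {u : G} (hu : u ∈ A ∨ t * u ∈ Y) (uu : u * u = 1) : t * u ∈ Y ↔ u = t ∨ u = t * c := by
  have e : ∀ y, t * u = y ↔ u = t * y := fun y =>
    ⟨fun e => by rw [← e, ← mul_assoc, h.tt, one_mul], fun e => by rw [e, ← mul_assoc, h.tt, one_mul]⟩
  have hA : u ∈ A := hu.elim id fun e => (h.hA u).2 (Or.inr e)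
  refine ⟨fun h1 => ?_, fun h1 => ?_⟩
  · simpa [e] using h.Y2 h1 (by
      rw [mul_assoc, ← mul_assoc u, h.Aab u hA t h.tA, mul_assoc, uu, mul_one, h.tt])
  · rcases h1 with h1 | h1
    · rw [h1, h.tt]; exact one_mem _
    · rw [(e c).2 h1]; exact h.cY

theorem cnt2 (X : Subgroup G) (hX : g₀ ∈ X) {v : G} (hv : v = t ∨ v = t * c) (k : ℂ) :
    ∑ x : G, (if x ∈ X ∧ (x * v * x⁻¹ = t ∨ x * v * x⁻¹ = t * c) then k else 0) =
      2 * (#|X ⊓ 𝐂[t]| * k) := by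
  obtain ⟨a, ha, rfl⟩ : ∃ a ∈ X, v = a * t * a⁻¹ := hv.elim (fun e => ⟨1, one_mem _, by simp [e]⟩)
    fun e => ⟨g₀, hX, e.trans h.n5.symm⟩
  have h1 := cnt X (t := t) ha (one_mem _) k
  have h2 := cnt X (t := t) ha hX k
  rw [one_mul, inv_one, mul_one] at h1
  rw [h.n5] at h2
  rw [two_mul, ← h1]
  conv_rhs => rw [h1, ← h2]; enter [1]; rw [h2, ← h1]
  rw [← sum_add_distrib]
  refine sum_congr rfl fun x _ => ?_
  have ne : t ≠ t * c := fun e => h.c1 (by simpa using e)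
  by_cases e1 : x * (a * t * a⁻¹) * x⁻¹ = t
  · simp [e1, ne]
  · simp [e1]

variable {μ : G → ℂ} (m1 : μ 1 = 1) (mm : ∀ a ∈ A, ∀ b ∈ A, μ (a * b) = μ a * μ b)
  (mv : ∀ v ∈ A, v * v = 1 → μ v = 1)
include m1 mm mv

theorem secY_v {v : G} (hv : v = t ∨ v = t * c) : sec t Y μ v = 2 * #|𝐂[t]| := by
  have := h.cnt2 ⊤ (mem_top _) hv 1
  simp only [mem_top, true_and, top_inf_eq, mul_one] at this
  rw [← this]
  refine sum_congr rfl fun g _ => ?_
  have uu := Tr.conj_mul_self (h.vA hv).2.1 g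
  by_cases e : t * (g * v * g⁻¹) ∈ Y
  · rw [if_pos e, if_pos ((h.tY_iff (Or.inr e) uu).1 e), mv _ ((h.hA _).2 (Or.inr e)) uu]
  · rw [if_neg e, if_neg fun e' => e ((h.tY_iff (Or.inl (h.vA e').1) uu).2 e')]

theorem secY_H {v x : G} (hv : v = t ∨ v = t * c) (hx : x ∈ H) (x1 : x ≠ 1) :
    sec t Y μ (v * x) = ∑ g : G, if g ∈ N ∧ (g * v * g⁻¹ = t ∨ g * v * g⁻¹ = t * c) then
      μ (g * x * g⁻¹) else 0 := by
  refine sum_congr rfl fun g _ => ?_
  obtain ⟨vA, vv, -⟩ := h.vA hv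
  have uu := Tr.conj_mul_self vv g
  have e0 : g * (v * x) * g⁻¹ = g * v * g⁻¹ * (g * x * g⁻¹) := by group
  by_cases hg : g ∈ N
  · have h1 := (memJ_norm (h.n2 hg)).2 hx
    have h2 := (memJ_norm (h.n2' hg)).2 vA
    simp only [e0, hg, true_and, ← mul_assoc t, mul_mem_cancel_right (h.HY h1)]
    simp only [mul_assoc t, h.tY_iff (Or.inl h2) uu, mm _ h2 _ (h.YA (h.HY h1)), mv _ h2 uu, one_mul]
  · rw [if_neg fun e => hg (h.n1 v hv x hx x1 g ((h.hA _).2 (Or.inr e))), if_neg fun e => hg e.1]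

theorem mconj {a : G} (ha : a ∈ A) : μ a⁻¹ = conj (μ a) := (ir_lin m1 mm).gc.inv ha

theorem sumH {x₀ : G} (hx₀ : x₀ ∈ H) (h0 : μ x₀ ≠ 1) {g : G} (hg : g ∈ N) :
    SS (fun x => x ∈ H ∧ x ≠ 1) (fun x => μ x * conj (μ (g * x * g⁻¹))) =
      (if g ∈ A then (τ : ℂ) else 0) - 1 := by
  have HA : H ≤ A := h.HY.trans h.YA
  have cj : ∀ x ∈ H, g * x * g⁻¹ ∈ H := fun x hx => (memJ_norm (h.n2 hg)).2 hx
  have e := sm_erase (X := H) fun x => μ x * conj (μ (g * x * g⁻¹))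
  simp only [mul_one, mul_inv_cancel, m1, map_one] at e
  rw [eq_sub_iff_add_eq', ← e]
  have k : ∀ x ∈ H, μ x * conj (μ (g * x * g⁻¹)) = μ (x * (g * x * g⁻¹)⁻¹) := fun x hx => by
    rw [mm _ (HA hx) _ (HA (inv_mem (cj x hx))), h.mconj m1 mm mv (HA (cj x hx))]
  split_ifs with hA
  · rw [sm_congr (g := fun _ => 1) fun x hx => by
      rw [k x hx, h.Aab g hA x (HA hx), mul_inv_cancel_right, mul_inv_cancel, m1], sm_const, h.cardH,
      mul_one]
  · let φ : H → H := fun x => ⟨x * (g * x * g⁻¹)⁻¹, mul_mem x.2 (inv_mem (cj x x.2))⟩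
    have inj : Function.Injective φ := fun a b e => by
      have e1 : (a : G) * (g * a * g⁻¹)⁻¹ = b * (g * b * g⁻¹)⁻¹ := congrArg Subtype.val e
      by_contra ne
      refine hA (h.n3 g hg ((b : G)⁻¹ * a) (mul_mem (inv_mem b.2) a.2)
        (fun e => ne (Subtype.ext (inv_mul_eq_one.1 e).symm)) ?_)
      calc g * ((b : G)⁻¹ * a) * g⁻¹ = (b : G)⁻¹ * (b * (g * b * g⁻¹)⁻¹) * (g * a * g⁻¹) := by group
        _ = _ := by rw [← e1]; group
    obtain ⟨x, hx⟩ := Finite.surjective_of_injective inj ⟨x₀, hx₀⟩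
    refine sm_lin (x := x) (fun a ha b hb => ?_) x.2 ?_
    · rw [show g * (a * b) * g⁻¹ = g * a * g⁻¹ * (g * b * g⁻¹) by group, mm _ (HA ha) _ (HA hb),
        mm _ (HA (cj a ha)) _ (HA (cj b hb)), map_mul]
      ring
    · rw [k x x.2, show (x : G) * (g * x * g⁻¹)⁻¹ = x₀ from congrArg Subtype.val hx]
      exact h0

theorem sumY {x₀ : G} (hx₀ : x₀ ∈ H) (h0 : μ x₀ ≠ 1) {v : G} (hv : v = t ∨ v = t * c) :
    sm H (fun x => μ (v * x) * conj (sec t Y μ (v * x))) =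
      2 * #|𝐂[t]| + (4 * τ * τ - 2 * (8 * τ * f)) := by
  obtain ⟨vA, vv, -⟩ := h.vA hv
  rw [sm_erase, mul_one, mv v vA vv, h.secY_v m1 mm mv hv, one_mul]
  congr 1
  · simp [map_ofNat]
  rw [SS_congr (q := fun x => x ∈ H ∧ x ≠ 1) (fun _ => Iff.rfl) (g := fun x => ∑ g : G,
    if g ∈ N ∧ (g * v * g⁻¹ = t ∨ g * v * g⁻¹ = t * c) then μ x * conj (μ (g * x * g⁻¹)) else 0)
    fun x hx => by
      rw [h.secY_H m1 mm mv hv hx.1 hx.2, mm v vA x (h.YA (h.HY hx.1)), mv v vA vv, one_mul, map_sum,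
        mul_sum]
      exact sum_congr rfl fun g _ => by split_ifs <;> simp, SS, sum_comm]
  have e1 := h.cnt2 N h.g0 hv 1
  have e2 := sm_const (X := A) (τ : ℂ)
  rw [h.n4] at e1
  rw [h.cardA, sm, sum_filter] at e2
  push_cast at e1 e2
  rw [mul_one] at e1
  rw [← e1, ← e2, ← sum_sub_distrib]
  refine sum_congr rfl fun g _ => ?_
  by_cases hg : g ∈ N ∧ (g * v * g⁻¹ = t ∨ g * v * g⁻¹ = t * c)
  · simp only [if_pos hg]
    exact h.sumH m1 mm mv hx₀ h0 hg.1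
  · simp only [if_neg hg, sum_const_zero, sub_zero]
    rw [if_neg fun e => hg ⟨h.AN e, by rwa [h.Aab g e v vA, mul_inv_cancel_right]⟩]

omit m1 mm mv in
theorem smY (F : G → ℂ) : sm Y (fun y => F (t * y)) =
    sm H (fun x => F (t * x)) + sm H fun x => F (t * c * x) := by
  rw [h.Yeq, sm_dbl h.cH]; simp only [mul_assoc]

omit m1 mm mv in
theorem false : False := by
  obtain ⟨x₀, hx₀, x1⟩ := h.exH
  obtain ⟨y₀, hy₀, y1⟩ := h.exQ
  obtain ⟨μ, m1, mm, m0, mv⟩ := exists_lin h.Aab (h.YA (h.HY hx₀)) fun e => x1 (h.H2 hx₀ e)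
  obtain ⟨l, l1, lm, l0, lv⟩ := exists_lin (ab_dbl (zz := h.tt) (hz := h.Qt) h.Qab) (le_dbl hy₀)
    fun e => y1 (h.Q2 hy₀ e)
  have lg := (ir_lin l1 lm).gc
  set Λ : G → ℂ := fun g => l g + conj (l g) with hΛ
  have lt : l t = 1 := lv t self_dbl h.tt
  have L1 : ∀ x ∈ Q, Λ (t * x) = Λ x := fun x hx => by
    simp only [hΛ, lm t self_dbl x (le_dbl hx), lt, one_mul]
  have L2 : ∀ x ∈ Q, Λ x⁻¹ = Λ x := fun x hx => by
    simp only [hΛ, lg.inv (le_dbl hx), Complex.conj_conj, add_comm]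
  have Lt : Λ t = 2 := by simp only [hΛ, lt, map_one]; ring
  have L3 : SS (fun g => g ∈ Q ∧ g ≠ 1) Λ = -2 := by
    have e1 := sm_lin (X := Q) (fun a ha b hb => lm a (le_dbl ha) b (le_dbl hb)) hy₀ l0
    have e2 : sm Q (fun g => conj (l g)) = 0 := by rw [sm, ← map_sum, ← sm, e1, map_zero]
    have e3 := sm_erase (X := Q) Λ
    rw [hΛ, sm_add, e1, e2] at e3
    simp only [l1, map_one] at e3
    linear_combination -e3
  have g1 := sec_gen (tt := h.tt) (ht := h.Qt) h.tQ (lg.add lg.conj)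
  have g2 := sec_gen (tt := h.tt) (ht := h.Yt) h.tY (h.Aeq ▸ (ir_lin m1 mm).gc)
  rw [h.cardQ] at g1
  rw [h.cardY] at g2
  have hv1 : t = t ∨ t = t * c := Or.inl rfl
  have hv2 : t * c = t ∨ t * c = t * c := Or.inr rfl
  have mt : ∀ v, v = t ∨ v = t * c → μ v = 1 := fun v hv => mv v (h.vA hv).1 (h.vA hv).2.1
  have s1 : sec t Q Λ t = 2 * #|𝐂[t]| := by rw [h.secQ_t, Lt, mul_comm]
  have s2 : sec t Q Λ (t * c) = 2 * #|𝐂[t]| := by rw [← h.n5, sec_cls, s1]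
  have I11 : classInner (sec t Q Λ) (sec t Q Λ) = 4 * #|𝐂[t]| + 4 * f * q := by
    rw [sec_inner h.tt sec_cls, sm_erase, SS_congr (q := fun g => g ∈ Q ∧ g ≠ 1) (fun _ => Iff.rfl)
      (g := fun x => (-2 * f * q) * Λ x) fun x hx => by
        rw [h.secQ_Q L1 L2 L3 hx.1 hx.2, L1 x hx.1, mul_comm]; simp [map_ofNat], SS_mul, L3, mul_one, s1, Lt]
    simp only [map_mul, map_natCast, map_ofNat]; ring
  have I21 : classInner (sec t Y μ) (sec t Q Λ) = 4 * #|𝐂[t]| := by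
    have k : ∀ v, v = t ∨ v = t * c → sec t Q Λ v = 2 * #|𝐂[t]| →
        sm H (fun x => μ (v * x) * conj (sec t Q Λ (v * x))) = 2 * #|𝐂[t]| := fun v hv e => by
      rw [sm_erase, SS_zero fun x hx => by rw [h.secQ_H hv hx.1 hx.2]; simp, mul_one, e, mt v hv]
      simp [map_ofNat]
    rw [sec_inner h.tt sec_cls, h.smY fun g => μ g * conj (sec t Q Λ g), k _ hv1 s1, k _ hv2 s2]
    ring
  have I12 : classInner (sec t Q Λ) (sec t Y μ) = 4 * #|𝐂[t]| := by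
    rw [← conj_inner, I21]; simp [map_ofNat]
  have I22 : classInner (sec t Y μ) (sec t Y μ) = 4 * #|𝐂[t]| + 2 * (4 * τ * τ - 2 * (8 * τ * f)) := by
    rw [sec_inner h.tt sec_cls, h.smY fun g => μ g * conj (sec t Y μ g),
      h.sumY m1 mm mv hx₀ m0 hv1, h.sumY m1 mm mv hx₀ m0 hv2]
    ring
  have q3 := h.q3
  have τ1 := h.τ1
  have eC : (#|𝐂[t]| : ℂ) = f * (q * (q ^ 2 - 1)) := by
    rw [h.cardC]; push_cast [Nat.cast_sub (Nat.one_le_pow 2 q (by omega))]; rfl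
  have eτ : (q : ℂ) = 4 * τ - 1 := by
    rw [eq_sub_iff_add_eq]; exact_mod_cast h.hτ.symm
  have q0 : (q : ℂ) ≠ 0 := by exact_mod_cast (by omega : q ≠ 0)
  have τ0 : (τ : ℂ) ≠ 0 := by exact_mod_cast (by omega : τ ≠ 0)
  have eC' : (#|𝐂[t]| : ℂ) = f * (q * (4 * τ * (q - 1))) := by rw [eC]; linear_combination f * q * (q - 1) * eτ
  set Δ : G → ℂ := (2 / q : ℂ) • sec t Q Λ - (2 * τ : ℂ)⁻¹ • sec t Y μ with hΔ
  have gΔ : IsGeneralizedCharacter G Δ := by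
    convert isGen_sub (isGen_add g1 g1) g2 using 1
    ext g
    simp only [hΔ, Pi.sub_apply, Pi.add_apply, Pi.smul_apply, smul_eq_mul]
    push_cast; ring
  have nΔ : classInner Δ Δ = 2 := by
    simp only [hΔ, Char.inner_sub_left, Char.inner_sub_right, Char.inner_smul_left,
      Char.inner_smul_right, I11, I12, I21, I22, map_div₀, map_inv₀, map_mul, map_natCast, map_ofNat, eC']
    field_simp
    rw [eτ]; ring
  obtain ⟨ξ, η, hξ, hη, e, h0⟩ := exists_si gΔ nΔ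
  obtain ⟨a, ha⟩ := exists_int_invol hξ.gen h.tt
  obtain ⟨b, hb⟩ := exists_int_invol hη.gen h.tt
  obtain ⟨d, hd⟩ := exists_int_invol hξ.gen (mul_one (1 : G))
  have d0 : (d : ℂ) ≠ 0 := hd ▸ hξ.one_ne
  have e1 : η 1 = -d := by
    have := congrFun e 1
    simp only [hΔ, Pi.sub_apply, Pi.add_apply, Pi.smul_apply, sec_one h.tQ, sec_one h.tY, hd] at this
    linear_combination -this
  have e2 : (a + b : ℂ) = 4 * f * (q - 1) := by
    have := congrFun e t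
    simp only [hΔ, Pi.sub_apply, Pi.add_apply, Pi.smul_apply, s1, h.secY_v m1 mm mv hv1, ha, hb,
      smul_eq_mul, eC'] at this
    rw [← this]; field_simp; rw [eτ]; ring
  have ncl : IsClassFunction G fun g => (nb t g : ℂ) := fun g x => by simp only [nb_conj]
  have nt : (nb t t : ℂ) = q * (q - 1) := by
    have := congrArg (Nat.cast : ℕ → ℂ) h.nbt
    push_cast at this; linear_combination this
  have B1 : ∑ g, sec t Q Λ g * nb t g = Nat.card G * (2 * (q * (q - 1))) := by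
    rw [sec_sum h.tt ncl, sm_erase, SS_zero fun x hx => by rw [h.nbQ hx.1 hx.2]; simp, mul_one, Lt, nt,
      add_zero]
  have B2 : ∑ g, sec t Y μ g * nb t g = Nat.card G * (2 * (q * (q - 1) - (q + 1))) := by
    have k : ∀ v, v = t ∨ v = t * c → (nb t v : ℂ) = q * (q - 1) →
        sm H (fun x => μ (v * x) * nb t (v * x)) = q * (q - 1) - (q + 1) := fun v hv e => by
      have e3 := sm_erase (X := H) μ
      rw [sm_lin (fun a ha b hb => mm a (h.YA (h.HY ha)) b (h.YA (h.HY hb))) hx₀ m0, m1] at e3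
      rw [sm_erase, SS_congr (q := fun g => g ∈ H ∧ g ≠ 1) (fun _ => Iff.rfl)
        (g := fun x => (q + 1) * μ x) fun x hx => by
          rw [h.nbH hv hx.1 hx.2, mm v (h.vA hv).1 x (h.YA (h.HY hx.1)), mt v hv]
          push_cast; ring, SS_mul, mul_one, e, mt v hv]
      linear_combination -(q + 1) * e3
    rw [sec_sum h.tt ncl, h.smY fun g => μ g * nb t g, k _ hv1 nt, k _ hv2 (by rw [← h.n5, nb_conj, nt])]
    ring
  have B : Bf t Δ = (2 / q : ℂ) * (Nat.card G * (2 * (q * (q - 1)))) -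
      (2 * τ : ℂ)⁻¹ * (Nat.card G * (2 * (q * (q - 1) - (q + 1)))) := by
    rw [Bf_eq, ← B1, ← B2, mul_sum, mul_sum, ← sum_sub_distrib]
    exact sum_congr rfl fun g _ => by simp only [hΔ, Pi.sub_apply, Pi.smul_apply, smul_eq_mul]; ring
  rw [e, Bf_add, hξ.bf, hη.bf, ha, hb, hd, e1, card_cl, ← 𝐂[t].card_mul_index, Nat.cast_mul, eC'] at B
  have i0 : (𝐂[t].index : ℂ) ≠ 0 := by exact_mod_cast index_ne_zero_of_finite
  have f0 : (f : ℂ) ≠ 0 := fun e => cX 𝐂[t] (by rw [eC, e, zero_mul])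
  have q1 : (q : ℂ) - 1 ≠ 0 := by
    rw [sub_ne_zero]; exact_mod_cast (by omega : q ≠ 1)
  refine arith84 h.hτ h.τ1 h.f_le h.cop (by exact_mod_cast d0) (a := a) (b := b) ?_
    (h.cardC ▸ si_bound hξ hη h0 t ha hb)
  have : (𝐂[t].index : ℂ) * (a - b) = 2 * q ^ 2 * d := by
    field_simp at B
    refine mul_left_cancel₀ (mul_ne_zero (mul_ne_zero (by norm_num : (4 : ℂ) ≠ 0) f0) q1) ?_
    linear_combination B - (𝐂[t].index : ℂ) * (a - b) * e2 - 4 * d * q * f * (q - 1) ^ 2 * eτ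
  exact_mod_cast this

end D84

end Cfsg.Agent.NR
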