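import Cfsg.Agent.Lib.NR.R83D
import Cfsg.Agent.Lib.NR.R84c
import Cfsg.Agent.Lib.Solv.Hall

/-! Local analysis for a Sylow 2-subgroup of order 8: the normalizer of `V`. -/

set_option autoImplicit false
set_option linter.unusedSectionVars false

namespace Cfsg.Agent.NR

open Subgroup FT SF.GP GW

universe u

variable {G : Type u} [Group G] [Finite G]

namespace S83

variable {S : Subgroup G} {q : ℕ} (h : S83 S q)
include h

theorem comm {a b : G} (ha : a ∈ S) (hb : b ∈ S) : a * b = b * a := by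
  rw [← Tr.inv_eq_of_mul_self (h.sq _ (mul_mem ha hb)), mul_inv_rev,
    Tr.inv_eq_of_mul_self (h.sq a ha), Tr.inv_eq_of_mul_self (h.sq b hb)]

theorem two_sq {g : G} {k : ℕ} (e : g ^ 2 ^ k = 1) : g * g = 1 := by
  obtain ⟨x, -, hx⟩ := h.syl.exists_conj_mem (mem_top g) e
  have := h.sq _ hx
  rwa [show x * g * x⁻¹ * (x * g * x⁻¹) = x * (g * g) * x⁻¹ by group, conj_eq_one_iff] at this

theorem odd_pow (g : G) : ∃ m, Odd m ∧ g ^ m * g ^ m = 1 := by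
  obtain ⟨a, m, hm, he⟩ := Nat.exists_eq_two_pow_mul_odd (orderOf_pos g).ne'
  exact ⟨m, hm, h.two_sq (k := a) (by rw [← pow_mul, mul_comm, ← he, pow_orderOf_eq_one])⟩

theorem one {t u : G} (ht : t ∈ S) (t1 : t ≠ 1) (uu : u * u = 1) (u1 : u ≠ 1) : IsConj t u := by
  obtain ⟨x, -, hx⟩ := h.syl.exists_conj_mem (mem_top u) (k := 1) (by rw [pow_one, pow_two, uu])
  obtain ⟨n, -, e⟩ := h.tr t ht t1 _ hx (by simpa using u1)
  exact isConj_iff.2 ⟨x⁻¹ * n, by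
    rw [show x⁻¹ * n * t * (x⁻¹ * n)⁻¹ = x⁻¹ * (n * t * n⁻¹) * x by group, e]; group⟩

end S83

namespace C83

variable {S : Subgroup G} {q : ℕ} {t c s z : G} {L H L' V : Subgroup G}
  (h : C83 S q t c s z L H L' V)
include h

theorem tt : t * t = 1 := h.lt.zz
theorem cc : c * c = 1 := h.sq c h.cS
theorem ss : s * s = 1 := h.sq s h.sS
theorem tc : t * c = c * t := h.comm h.tS h.cS
theorem ct : c ≠ t := fun e => h.lt.zL (e ▸ h.cL)
theorem tcL : t * c ∉ L := fun e => h.lt.zL ((mul_mem_cancel_right h.cL).1 e)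
theorem tV : t ∈ V := (h.memV t).2 (by simp)
theorem cV : c ∈ V := (h.memV c).2 (by simp)
theorem VS : V ≤ S := fun a ha => (h.memS a).2 (Or.inl ha)
theorem Ht (x : G) (hx : x ∈ H) : t * x = x * t := (mem_cent1.1 (h.lt.le (h.lh.le hx))).symm
theorem Hab (a : G) (ha : a ∈ H) (b : G) (hb : b ∈ H) : a * b = b * a :=
  abelianP.1 (cyclic_abelian h.lh.cyc) a ha b hb
theorem mem_CV {g : G} : g ∈ 𝐂(V) ↔ g ∈ 𝐂[t] ⊓ 𝐂[c] := by
  refine ⟨fun e => ⟨cent_le_cent1 h.tV e, cent_le_cent1 h.cV e⟩, fun e => mem_cent.2 fun v hv => ?_⟩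
  have e1 := mem_cent1.1 e.1
  have e2 := mem_cent1.1 e.2
  rcases (h.memV v).1 hv with rfl | rfl | rfl | rfl
  exacts [by simp, e1.symm, e2.symm, by rw [mul_assoc, ← e2, ← mul_assoc, ← e1, mul_assoc]]
theorem HV : H ≤ 𝐂(V) := fun x hx =>
  h.mem_CV.2 ⟨mem_cent1.2 (h.Ht x hx).symm, mem_cent1.2 (h.lh.cc x hx).symm⟩
theorem SV : S ≤ 𝐂(V) := fun x hx => mem_cent.2 fun v hv => h.comm (h.VS hv) hx
theorem AV : V ⊔ H ≤ 𝐂(V) := sup_le (h.VS.trans h.SV) h.HV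
theorem tau : Odd #|H| ∧ ¬ 3 ∣ #|H| ∧ 1 < #|H| := by
  obtain ⟨e, he⟩ := h.lt.lf.pow
  have h1 := h.lh.card
  have h2 : 9 ^ e % 8 = 1 := by rw [Nat.pow_mod]; simp
  have h3 : q = 27 * 9 ^ e := by rw [he, pow_add, pow_mul]; ring
  rw [Nat.odd_iff]
  omega
theorem H6 (x : G) (hx : x ∈ H) (e : x ^ 6 = 1) : x = 1 := by
  have h1 : (6 : ℕ).Coprime #|H| := Nat.Coprime.mul_left (m := 2) (n := 3)
    (Nat.coprime_two_left.2 h.tau.1) ((Nat.Prime.coprime_iff_not_dvd Nat.prime_three).2 h.tau.2.1)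
  exact orderOf_eq_one_iff.1 (Nat.eq_one_of_dvd_coprimes h1 (orderOf_dvd_of_pow_eq_one e)
    (orderOf_dvd_natCard H hx))
theorem H2 {x : G} (hx : x ∈ H) (e : x * x = 1) : x = 1 :=
  h.H6 x hx (by rw [show 6 = 2 * 3 from rfl, pow_mul, pow_two, e, one_pow])
theorem mem_A {g : G} : g ∈ V ⊔ H ↔ ∃ v ∈ V, ∃ x ∈ H, v * x = g :=
  Tr.mem_sup_of_le_normalizer' (h.HV.trans (cent_sub V))
theorem vx {v x : G} (hv : v ∈ V) (hx : x ∈ H) : Commute v x := h.HV hx v hv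
theorem vxsq {v x : G} (hv : v ∈ V) (hx : x ∈ H) : v * x * (v * x) = x * x := by
  rw [← pow_two, (h.vx hv hx).mul_pow, pow_two, h.sq v (h.VS hv), one_mul, pow_two]
theorem A2 {a : G} (ha : a ∈ V ⊔ H) (e : a * a = 1) : a ∈ V := by
  obtain ⟨v, hv, x, hx, rfl⟩ := h.mem_A.1 ha
  rw [h.vxsq hv hx] at e
  rwa [h.H2 hx e, mul_one]
theorem Asq {a : G} (ha : a ∈ V ⊔ H) : a * a ∈ H := by
  obtain ⟨v, hv, x, hx, rfl⟩ := h.mem_A.1 ha
  rw [h.vxsq hv hx]; exact mul_mem hx hx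
theorem Ah {x : G} (hx : x ∈ H) : V ⊔ H ≤ 𝐂[x] :=
  sup_le (fun v hv => mem_cent1.2 (h.vx hv hx)) fun y hy => mem_cent1.2 (h.Hab y hy x hx)
theorem sA {a : G} (ha : a ∈ V ⊔ H) : s * a * s⁻¹ = a⁻¹ := by
  obtain ⟨v, hv, x, hx, rfl⟩ := h.mem_A.1 ha
  conv_rhs => rw [(h.vx hv hx).eq, mul_inv_rev, Tr.inv_eq_of_mul_self (h.sq v (h.VS hv)),
    ← h.lh.inv x hx]
  rw [← mul_assoc, h.comm h.sS (h.VS hv)]
  group
theorem sN : s ∈ 𝐍(V ⊔ H) := mem_normalizer_fintype fun a ha => h.sA ha ▸ inv_mem ha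
theorem mem_B {g : G} : g ∈ (V ⊔ H) ⊔ zpowers s ↔ g ∈ V ⊔ H ∨ s * g ∈ V ⊔ H := by
  refine ⟨fun e => ?_, fun e => e.elim mem_sup_left fun e =>
    (mul_mem_cancel_left (mem_sup_right (mem_zpowers s))).1 (mem_sup_left e)⟩
  obtain ⟨a, ha, b, hb, rfl⟩ := (Tr.mem_sup_of_le_normalizer' (zpowers_le.2 h.sN)).1 e
  obtain ⟨j, rfl⟩ := hb
  have h1 := (memJ_norm h.sN).2 ha
  obtain ⟨i, rfl | rfl⟩ := Int.even_or_odd' j
  · exact Or.inl (by simpa [zpow_mul, pow_two, h.ss] using ha)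
  · refine Or.inr ?_
    rw [Tr.inv_eq_of_mul_self h.ss] at h1
    simpa [zpow_add, zpow_mul, pow_two, h.ss, mul_assoc] using h1
theorem LB {g : G} (hg : g ∈ L) (e : g * c = c * g) : g ∈ (V ⊔ H) ⊔ zpowers s := by
  have cA : c ∈ V ⊔ H := mem_sup_left h.cV
  rw [h.mem_B]
  rcases h.lh.cent g hg e with e | e | e | e
  · exact Or.inl (mem_sup_right e)
  · exact Or.inl ((mul_mem_cancel_left cA).1 (mem_sup_right e))
  · exact Or.inr (mem_sup_right e)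
  · exact Or.inr ((mul_mem_cancel_left cA).1 (mem_sup_right (mul_assoc c s g ▸ e)))
theorem invB {u : G} (hu : u ∈ 𝐂(V)) (uu : u * u = 1) : u ∈ (V ⊔ H) ⊔ zpowers s := by
  obtain ⟨h1, h2⟩ := h.mem_CV.1 hu
  rcases h.lt.inv u h1 uu with e | e
  · exact h.LB e (mem_cent1.1 h2)
  · exact (mul_mem_cancel_left (mem_sup_left (mem_sup_left h.tV))).1 (h.LB e (by
      rw [mul_assoc, mem_cent1.1 h2, ← mul_assoc, h.tc, mul_assoc]))
theorem outB {u : G} (hu : s * u ∈ V ⊔ H) : u * u = 1 := by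
  have := h.sA hu
  rw [mul_inv_rev, ← mul_assoc, h.ss, one_mul] at this
  exact mul_eq_one_iff_eq_inv.2 (mul_right_cancel this)

theorem NH : 𝐍(V) ≤ 𝐍(H) := fun g hg => mem_normalizer_fintype fun x hx => by
  have k : ∀ u ∈ 𝐂(V), u * u = 1 → g * u * g⁻¹ ∈ (V ⊔ H) ⊔ zpowers s := fun u hu uu =>
    h.invB ((memJ_norm (norms_cent (le_refl 𝐍(V)) hg)).2 hu) (Tr.conj_mul_self uu g)
  have h1 := mul_mem (k s (h.SV h.sS) h.ss) (k (s * x) (mul_mem (h.SV h.sS) (h.HV hx))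
    (h.outB (by rw [← mul_assoc, h.ss, one_mul]; exact mem_sup_right hx)))
  rw [show g * s * g⁻¹ * (g * (s * x) * g⁻¹) = g * (s * s * x) * g⁻¹ by group, h.ss, one_mul,
    h.mem_B] at h1
  rcases h1 with h1 | h1
  · obtain ⟨k, hk⟩ := h.tau.1
    have e : (g * x * g⁻¹) ^ (2 * k + 1) = 1 := by
      rw [conj_pow, ← hk, show x ^ #|H| = 1 from congrArg Subtype.val (pow_card_eq_one' (x := (⟨x, hx⟩ : H)))]
      simp
    rw [pow_succ, pow_mul, pow_two] at e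
    rw [eq_inv_of_mul_eq_one_right e]
    exact inv_mem (pow_mem (h.Asq h1) k)
  · have := h.outB h1
    rw [show g * x * g⁻¹ * (g * x * g⁻¹) = g * (x * x) * g⁻¹ by group, conj_eq_one_iff] at this
    rw [h.H2 hx this]; simp
theorem NA : 𝐍(V) ≤ 𝐍(V ⊔ H) := normsY le_rfl h.NH

theorem b1 (hb : RB1.{u}) {x g : G} (hx : x ∈ H) (x1 : x ≠ 1) (hg : g ∈ 𝐂(V)) (e : g ∈ 𝐂[x]) :
    g ∈ V ⊔ H := by
  have BV : (V ⊔ H) ⊔ zpowers s ≤ 𝐂(V) := sup_le h.AV (zpowers_le.2 (h.SV h.sS))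
  have SB : S ≤ (V ⊔ H) ⊔ zpowers s := fun a ha =>
    h.mem_B.2 (((h.memS a).1 ha).imp mem_sup_left mem_sup_left)
  have gB : g ∈ 𝐍((V ⊔ H) ⊔ zpowers s) := mem_normalizer_fintype fun a ha => by
    have gA := h.NA (cent_sub V hg)
    rcases h.mem_B.1 ha with e | e
    · exact mem_sup_left ((memJ_norm gA).2 e)
    · exact h.invB (mul_mem (mul_mem hg (BV ha)) (inv_mem hg)) (Tr.conj_mul_self (h.outB e) g)
  obtain ⟨b, hb', n, hn, rfl⟩ := (h.syl.mono SB le_top).frattini gB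
  have nV : n ∈ 𝐂(V) := (mul_mem_cancel_left (BV hb')).1 hg
  obtain ⟨m, hm, mm⟩ := h.toS83.odd_pow n
  have mS : n ^ m ∈ S := h.syl.le_of_le_normalizer' (Tr.isPGroup_zpowers (k := 1)
    (by rw [pow_one, pow_two, mm])) le_top (zpowers_le.2 (pow_mem hn m)) (mem_zpowers _)
  have n2 : n ^ 2 ∈ 𝐂(S) := by
    have h1 : s * (n * s * n⁻¹) ∈ V := ((h.memS _).1 ((memJ_norm hn).2 h.sS)).resolve_left fun e => by
      have := (memJ_norm (cent_sub V nV)).1 e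
      rcases (h.memV s).1 this with e | e | e | e
      exacts [h.s1 e, h.lt.zL (e ▸ h.sL), h.sc e, h.tcL (e ▸ h.sL)]
    have h2 : n * s * n⁻¹ = s * (s * (n * s * n⁻¹)) := by rw [← mul_assoc s s, h.ss, one_mul]
    have h3 : n ^ 2 ∈ 𝐂[s] := cent1_conj.2 (by
      rw [show n ^ 2 * s * (n ^ 2)⁻¹ = n * (n * s * n⁻¹) * n⁻¹ by rw [pow_two]; group, h2,
        show ∀ v, n * (s * v) * n⁻¹ = n * s * n⁻¹ * (n * v * n⁻¹) from fun v => by group,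
        cent1_conj.1 (cent_le_cent1 h1 nV)]
      conv_lhs => enter [1]; rw [h2]
      rw [mul_assoc, h.sq _ (h.VS h1), mul_one])
    refine mem_cent.2 fun a ha => ((h.memS a).1 ha).elim (fun e => pow_mem nV 2 a e) fun e => ?_
    have := pow_mem nV 2 _ e
    rw [← mul_assoc, mem_cent1.1 h3, mul_assoc, mul_assoc] at this
    exact mul_left_cancel this
  obtain ⟨k, rfl⟩ := hm
  set y := (n ^ 2) ^ (k + 1) with hy
  have yS : y ∈ 𝐂(S) := pow_mem n2 _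
  have yo : y ^ (2 * k + 1) = 1 := by
    rw [hy, ← pow_mul, mul_comm (k + 1), pow_mul, ← pow_mul n, mul_comm 2, pow_mul, pow_two, mm, one_pow]
  have ny : n = n ^ (2 * k + 1) * y := by
    rw [hy, ← pow_mul, ← pow_add, show 2 * k + 1 + 2 * (k + 1) = (2 * k + 1) + (2 * k + 1) + 1 by ring,
      pow_succ, pow_add, mm, one_mul]
  have yH : y * x * y⁻¹ ∈ H := (memJ_norm (h.NH (cent_sub V (centS h.VS yS)))).2 hx
  have e1 := cent1_conj.1 e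
  rw [ny, ← mul_assoc] at e1 ⊢
  generalize hb2 : b * n ^ (2 * k + 1) = b₂ at e1 ⊢
  rw [show b₂ * y * x * (b₂ * y)⁻¹ = b₂ * (y * x * y⁻¹) * b₂⁻¹ by group] at e1
  rcases h.mem_B.1 (hb2 ▸ mul_mem hb' (SB mS)) with e2 | e2
  · rw [cent1_conj.1 (h.Ah yH e2), mul_inv_eq_iff_eq_mul] at e1
    rwa [hb G S q t c s z L H L' V h y yS (Odd.of_dvd_nat ⟨k, rfl⟩ (orderOf_dvd_of_pow_eq_one yo))
      x hx x1 e1, mul_one]
  · have e3 := cent1_conj.1 (h.Ah yH e2)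
    rw [show ∀ w, s * b₂ * w * (s * b₂)⁻¹ = s * (b₂ * w * b₂⁻¹) * s⁻¹ from fun w => by group, e1,
      h.lh.inv x hx] at e3
    have := conj_odd_pow e3.symm ⟨k, rfl⟩
    rw [yo, one_mul, inv_one, mul_one] at this
    exact absurd (h.H2 hx (mul_eq_one_iff_eq_inv.2 this)) x1

theorem rotV : ∃ w ∈ 𝐍(V), w * t * w⁻¹ = c ∧ w * c * w⁻¹ = t * c := by
  obtain ⟨w, -, -, e1, e2⟩ := h.lz'.lf.rot t h.tL' c h.cL' h.tt h.cc h.lt.z1 h.c1 h.ct h.tc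
  refine ⟨w, mem_normalizer_fintype fun v hv => ?_, e1, e2⟩
  rcases (h.memV v).1 hv with rfl | rfl | rfl | rfl
  · simp
  · exact e1 ▸ h.cV
  · exact e2 ▸ mul_mem h.tV h.cV
  · rw [show w * (t * c) * w⁻¹ = w * t * w⁻¹ * (w * c * w⁻¹) by group, e1, e2]
    exact mul_mem h.cV (mul_mem h.tV h.cV)

theorem trV {v : G} (hv : v ∈ V) (v1 : v ≠ 1) : ∃ a ∈ 𝐍(V), a * t * a⁻¹ = v := by
  obtain ⟨w, hw, e1, e2⟩ := h.rotV
  rcases (h.memV v).1 hv with rfl | rfl | rfl | rfl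
  exacts [absurd rfl v1, ⟨1, one_mem _, by simp⟩, ⟨w, hw, e1⟩,
    ⟨w * w, mul_mem hw hw, by rw [← e2, ← e1]; group⟩]

theorem cvh (hb : RB1.{u}) (x : G) (hx : x ∈ H) (x1 : x ≠ 1) (v : G) (hv : v ∈ V) (v1 : v ≠ 1) :
    𝐂[v] ⊓ 𝐂[x] ≤ V ⊔ H := by
  have k : ∀ x ∈ H, x ≠ 1 → 𝐂[t] ⊓ 𝐂[x] ≤ V ⊔ H := fun x hx x1 g hg => by
    refine h.b1 hb hx x1 (h.mem_CV.2 ⟨hg.1, cent1_conj.2 ?_⟩) hg.2
    have uu := Tr.conj_mul_self h.cc g
    rcases h.lh.centh x hx x1 _ ((memJ_norm (h.lt.nrm hg.1)).2 h.cL) (mem_cent1.1 (mul_mem (mul_mem hg.2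
      (mem_cent1.2 (h.lh.cc x hx))) (inv_mem hg.2))) with e | e
    · exact absurd (by simpa using h.H2 e uu) h.c1
    · have h1 := h.H2 e (by rw [← mul_assoc, ← h.lh.cc _ e, ← mul_assoc c c, h.cc, one_mul, uu])
      rw [eq_inv_of_mul_eq_one_right h1, Tr.inv_eq_of_mul_self h.cc]
  obtain ⟨a, ha, rfl⟩ := h.trV hv v1
  intro g hg
  refine (memJ_norm' (h.NA ha)).1 (k (a⁻¹ * x * a) ((memJ_norm' (h.NH ha)).2 hx)
    (fun e => x1 (by simpa [mul_assoc] using (conj_eq_one_iff (a := a⁻¹)).1 (by simpa using e))) ⟨?_, ?_⟩)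
  · exact Tr.mem_cj.1 (cent1J a t ▸ hg.1)
  · exact cent1_conj.2 (by
      conv_rhs => rw [← cent1_conj.1 hg.2]
      group)

theorem V4 : IsKleinFour V := by
  have e : V = dbl (dbl ⊥ c h.cc (by simp)) t h.tt (comm_dbl h.tc (by simp)) := by
    ext v
    simp only [h.memV, mem_dbl, mem_bot, mul_eq_one_iff_inv_eq, Tr.inv_eq_of_mul_self h.cc,
      Tr.inv_eq_of_mul_self h.tt, ← inv_mul_eq_iff_eq_mul, eq_comm (a := v)]
    tauto
  haveI : Nontrivial V := ⟨⟨t, h.tV⟩, 1, fun e => h.lt.z1 (congrArg Subtype.val e)⟩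
  refine ⟨?_, (Monoid.exponent_eq_prime_iff Nat.prime_two).2 fun g g1 => ?_⟩
  · rw [e, card_dbl, card_dbl (by simpa using h.c1), card_bot]
    simp only [mem_dbl, mem_bot, mul_eq_one_iff_inv_eq, Tr.inv_eq_of_mul_self h.cc]
    exact fun e => e.elim h.lt.z1 h.ct
  · exact orderOf_eq_prime (Subtype.ext (by simpa [pow_two] using h.sq g (h.VS g.2))) g1

theorem chN (hb : RB1.{u}) (hse : RSE.{u}) (x : G) (hx : x ∈ H) (x1 : x ≠ 1) : 𝐂[x] ≤ 𝐍(V) := by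
  refine hse G V _ h.nr (Tr.sylowIn_of_maximal (pgroup_sub h.VS h.syl.isPGroup)
    (le_sup_left.trans (h.Ah hx)) fun P hP h1 h2 => le_antisymm (fun g hg => ?_) h1) h.V4
    fun v hv v1 g hg => cent_sub V (h.AV (h.cvh hb x hx x1 v hv v1 ⟨hg.2, hg.1⟩))
  have k : ∀ g ∈ P, g * g = 1 := fun g hg => by
    obtain ⟨k, hk⟩ := hP ⟨g, hg⟩
    exact h.toS83.two_sq (k := k) (congrArg Subtype.val hk)
  refine h.A2 (h.cvh hb x hx x1 t h.tV h.lt.z1 ⟨mem_cent1.2 ?_, h2 hg⟩) (k g hg)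
  rw [← Tr.inv_eq_of_mul_self (k _ (mul_mem hg (h1 h.tV))), mul_inv_rev,
    Tr.inv_eq_of_mul_self (k g hg), Tr.inv_eq_of_mul_self h.tt]

end C83

end Cfsg.Agent.NR
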