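import Cfsg.Agent.Lib.NR.R83g

/-! Local analysis for a Sylow 2-subgroup of order 8: the data for the character argument. -/

set_option autoImplicit false
set_option linter.unusedSectionVars false

namespace Cfsg.Agent.NR

open Subgroup Finset FT SF.GP GW
open scoped Classical

universe u

variable {G : Type u} [Group G] [Fintype G]

theorem LZ.cardC {t : G} {L : Subgroup G} {q : ℕ} (h : LZ t L q) :
    #|𝐂[t]| = (zpowers t ⊔ L).relIndex 𝐂[t] * (2 * #|L|) := by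
  have tC : zpowers t ≤ 𝐂[t] := zpowers_le.2 (cent1id t)
  rw [← Solv.card_mul_relIndex (sup_le tC h.le), mul_comm, sup_comm,
    card_sup_cycle (p := 2) (h.nrm (cent1id t)) h.zL (by rw [pow_two, h.zz]), mul_comm _ 2]

theorem LZ.cardN {t : G} {L Q : Subgroup G} {q : ℕ} (h : LZ t L q) (hQ : LQ L Q q) :
    #|𝐂[t] ⊓ 𝐍(Q)| * (q + 1) = #|𝐂[t]| := by
  obtain ⟨e, he⟩ := h.lf.pow
  have q0 : 0 < q := by rw [he]; positivity
  have hS : Tr.SylowIn 3 Q L := ⟨hQ.le, fun x => ⟨1, Subtype.ext (by simpa using hQ.cube x x.2)⟩, by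
    rintro ⟨k, hk⟩
    have h1 := h.lf.card
    rw [← Solv.card_mul_relIndex hQ.le, hQ.card, hk, mul_left_comm] at h1
    have h2 := Nat.eq_of_mul_eq_mul_left q0 h1
    have h3 : q ^ 2 = 3 * (3 ^ (2 * e + 2) * q) := by rw [he]; ring
    have h4 : 0 < q ^ 2 := by positivity
    omega⟩
  have h1 : L ⊔ 𝐂[t] ⊓ 𝐍(Q) = 𝐂[t] := le_antisymm (sup_le h.le inf_le_left) fun g hg => by
    obtain ⟨n, hn, y, hy, rfl⟩ := hS.frattini (h.nrm hg)
    exact mul_mem (mem_sup_left hn) (mem_sup_right ⟨(mul_mem_cancel_left (h.le hn)).1 hg, hy⟩)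
  have h2 := Solv.card_sup_mul_card_inf (N := L) (H := 𝐂[t] ⊓ 𝐍(Q)) (inf_le_left.trans h.nrm)
  rw [h1, ← inf_assoc, inf_eq_left.2 h.le] at h2
  conv_rhs at h2 => rw [← hQ.idx]
  refine Nat.eq_of_mul_eq_mul_left (Nat.card_pos (α := ↥(L ⊓ 𝐍(Q)))) ?_
  rw [mul_comm _ #|𝐂[t]|, h2]; ring

namespace C83

variable {S : Subgroup G} {q : ℕ} {t c s z : G} {L H L' V : Subgroup G}
  (h : C83 S q t c s z L H L' V)
include h

theorem mem_cl' {u : G} : u ∈ clX L c ↔ u ∈ L ∧ u * u = 1 ∧ u ≠ 1 :=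
  ⟨fun e => ⟨clX_le h.cL e, clX_sq h.cc e, clX_ne h.c1 e⟩,
    fun e => mem_clX.2 (h.lt.lf.one c h.cL h.cc h.c1 u e.1 e.2.1 e.2.2)⟩

theorem cardD : #|L ⊓ 𝐂[c]| = 4 * #|H| := by
  have cH : c ∉ H := fun e => h.c1 (h.H2 e h.cc)
  have cs := h.comm h.cS h.sS
  have sY : s ∉ dbl H c h.cc h.lh.cc := by
    rintro (e | e)
    · exact h.s1 (h.H2 e h.ss)
    · have := h.H2 e (h.sq _ (mul_mem h.cS h.sS))
      exact h.sc (by rw [eq_inv_of_mul_eq_one_right this, Tr.inv_eq_of_mul_self h.cc])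
  have nY : s ∈ 𝐍(dbl H c h.cc h.lh.cc) := mem_normalizer_fintype fun a ha => by
    rcases ha with e | e
    · exact Or.inl (h.lh.inv a e ▸ inv_mem e)
    · refine Or.inr ?_
      rw [← mul_assoc, ← mul_assoc, cs, mul_assoc s c, h.lh.inv _ e]; exact inv_mem e
  have e : L ⊓ 𝐂[c] = dbl H c h.cc h.lh.cc ⊔ zpowers s := by
    refine le_antisymm (fun g hg => ?_) (sup_le (fun g hg => ?_) (zpowers_le.2 ⟨h.sL, mem_cent1.2 cs.symm⟩))
    · have k : s * g ∈ dbl H c h.cc h.lh.cc → g ∈ dbl H c h.cc h.lh.cc ⊔ zpowers s := fun e =>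
        (mul_mem_cancel_left (mem_sup_right (mem_zpowers s))).1 (mem_sup_left e)
      rcases h.lh.cent g hg.1 (mem_cent1.1 hg.2) with e | e | e | e
      exacts [mem_sup_left (Or.inl e), mem_sup_left (Or.inr e), k (Or.inl e),
        k (Or.inr (mul_assoc c s g ▸ e))]
    · refine ⟨hg.elim (h.lh.le ·) fun e => (mul_mem_cancel_left h.cL).1 (h.lh.le e), mem_cent1.2 ?_⟩
      exact (comm_dbl rfl h.lh.cc g hg).symm
  rw [e, card_sup_cycle (p := 2) nY sY (by rw [pow_two, h.ss]), card_dbl cH]; ring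

theorem cardL : #|L| = 4 * #|H| * (clX L c).card := by
  rw [card_clX, ← h.cardD, ← inf_relIndex_left, Solv.card_mul_relIndex inf_le_left]

theorem n4 : #|𝐍(V) ⊓ 𝐂[t]| = 8 * #|H| * (zpowers t ⊔ L).relIndex 𝐂[t] := by
  have e1 : 𝐍(V) ⊓ 𝐂[t] = 𝐂[t] ⊓ 𝐂[c] := by
    refine le_antisymm (fun g hg => ⟨hg.2, cent1_conj.2 ?_⟩) fun g hg =>
      ⟨cent_sub V (h.mem_CV.2 hg), hg.1⟩
    have h1 := (memJ_norm (h.lt.nrm hg.2)).2 h.cL
    rcases (h.memV _).1 ((memJ_norm hg.1).2 h.cV) with e | e | e | e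
    exacts [absurd (by simpa using e) h.c1, absurd (e ▸ h1) h.lt.zL, e, absurd (e ▸ h1) h.tcL]
  have e2 : clX 𝐂[t] c = clX L c := by
    ext u
    refine ⟨fun e => h.mem_cl'.2 ⟨?_, clX_sq h.cc e, clX_ne h.c1 e⟩, clX_mono h.lt.le⟩
    obtain ⟨g, hg, rfl⟩ := mem_clX.1 e
    exact (memJ_norm (h.lt.nrm hg)).2 h.cL
  have e3 := Solv.card_mul_relIndex (inf_le_left : 𝐂[t] ⊓ 𝐂[c] ≤ 𝐂[t])
  rw [inf_relIndex_left, ← card_clX, e2, h.lt.cardC, h.cardL] at e3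
  rw [e1]
  refine Nat.eq_of_mul_eq_mul_right (card_pos.2 ⟨c, (self_clX : c ∈ clX L c)⟩) ?_
  rw [e3]; ring

theorem nbt : nb t t + q = q ^ 2 := by
  have cl' : ∀ u, u ∈ cl t ↔ u * u = 1 ∧ u ≠ 1 := fun u => mem_cl.trans ⟨fun e => by
    obtain ⟨g, rfl⟩ := isConj_iff.1 e
    exact ⟨Tr.conj_mul_self h.tt g, by simpa using h.lt.z1⟩,
    fun e => h.toS83.one h.tS h.lt.z1 e.1 e.2⟩
  have tl : ∀ u ∈ L, t * u = u * t := fun u hu => (mem_cent1.1 (h.lt.le hu)).symm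
  have sq' : ∀ u, t * u = u * t → u * u = 1 → t * u * (t * u) = 1 := fun u e uu => by
    rw [mul_assoc, ← mul_assoc u, ← e, mul_assoc, uu, mul_one, h.tt]
  have e1 : nb t t = 2 * (clX L c).card := by
    rw [nb, two_mul]
    conv_rhs => enter [2]; rw [← card_image_of_injective _ (mul_right_injective t)]
    rw [← card_union_of_disjoint (disjoint_left.2 fun u h1 h2 => by
      obtain ⟨v, hv, rfl⟩ := mem_image.1 h2
      exact h.lt.zL ((mul_mem_cancel_right (h.mem_cl'.1 hv).1).1 (h.mem_cl'.1 h1).1))]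
    congr 1
    ext u
    simp only [mem_filter, cl', mem_union, mem_image, h.mem_cl']
    constructor
    · rintro ⟨⟨uu, u1⟩, h1, h2⟩
      rw [Tr.inv_eq_of_mul_self uu] at h1 h2
      have e : u * t = t * u := by
        rw [← Tr.inv_eq_of_mul_self h1, mul_inv_rev, Tr.inv_eq_of_mul_self uu, Tr.inv_eq_of_mul_self h.tt]
      rcases h.lt.inv u (mem_cent1.2 e) uu with e' | e'
      · exact Or.inl ⟨e', uu, u1⟩
      · exact Or.inr ⟨t * u, ⟨e', e ▸ h1, e ▸ h2⟩, by rw [← mul_assoc, h.tt, one_mul]⟩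
    · rintro (⟨uL, uu, u1⟩ | ⟨v, ⟨vL, vv, v1⟩, rfl⟩)
      · rw [Tr.inv_eq_of_mul_self uu, ← tl u uL]
        exact ⟨⟨uu, u1⟩, sq' u (tl u uL) uu, fun e => h.lt.zL ((mul_mem_cancel_right uL).1 (e ▸ one_mem L))⟩
      · rw [Tr.inv_eq_of_mul_self (sq' v (tl v vL) vv), mul_assoc t v t, ← tl v vL, ← mul_assoc t t, h.tt, one_mul]
        exact ⟨⟨sq' v (tl v vL) vv, fun e => h.lt.zL ((mul_mem_cancel_right vL).1 (e ▸ one_mem L))⟩, vv, v1⟩
  have e2 := h.lt.lf.card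
  have e3 := h.lh.card
  have e4 := h.tau.2.2
  rw [h.cardL, e3] at e2
  obtain ⟨r, rfl⟩ : ∃ r, q = r + 1 := ⟨q - 1, by omega⟩
  rw [show (r + 1) ^ 2 - 1 = r * (r + 2) by rw [Nat.sub_eq_iff_eq_add (Nat.one_le_pow _ _ (by omega))]; ring]
    at e2
  have e5 : 2 * (clX L c).card = (r + 1) * r :=
    Nat.eq_of_mul_eq_mul_left (show 0 < r + 2 by omega) (by linear_combination e2)
  rw [e1, e5]; ring

theorem false (ha : RA.{u}) (hb : RB1.{u}) (hf : RF3.{u}) (hse : RSE.{u}) (hb2 : RB2.{u}) : False := by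
  obtain ⟨Q, -, hQ⟩ := h.lt.lf.exQ 1 (one_mem _) (one_pow 3)
  have ne : t * c ≠ 1 := fun e => h.tcL (e ▸ one_mem L)
  obtain ⟨g₀, hg₀, e₀⟩ := h.trV (mul_mem h.tV h.cV) ne
  have i3 := ha G S q h.toS83 t h.tt h.lt.z1
  have cA : ∀ x ∈ H, x ≠ 1 → 𝐂[x] ≤ V ⊔ H := fun x hx x1 g hg => h.b1 hb hx x1
    (hb2 G S q t c s z L H L' V h (hf G S q t c s z L H L' V h i3 (hb G S q t c s z L H L' V h)) h.NH
      (h.cvh hb) (h.chN hb hse) x hx x1 hg) hg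
  obtain ⟨e, he⟩ := h.lt.lf.pow
  refine D84.false (t := t) (c := c) (s := s) (g₀ := g₀) (Q := Q) (H := H) (Y := dbl H c h.cc h.lh.cc)
    (A := V ⊔ H) (N := 𝐍(V)) (q := q) (τ := #|H|) (f := (zpowers t ⊔ L).relIndex 𝐂[t])
    ⟨h.nr, h.tt, h.lt.z1, fun u => h.toS83.one h.tS h.lt.z1, h.cc, h.c1, h.ct, h.tc, h.ss,
      h.comm h.sS h.tS, h.comm h.sS h.cS, fun x hx => (mem_cent1.1 (h.lt.le (hQ.le hx))).symm, hQ.ab,
      hQ.cube, hQ.card, fun x hx x1 g hg e => mem_normalizer_fintype fun y hy => ?_,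
      fun a ha a1 b hb b1 => ?_, h.lt.cardN hQ, by rw [h.lt.cardC, h.lt.lf.card], ?_, h.Ht, h.lh.cc,
      h.Hab, h.H6, rfl, h.lh.card, h.tau.2.2, h.lh.inv, fun _ => Iff.rfl, fun g => ?_,
      fun v hv x hx x1 g hg => mem_normalizer_fintype fun u hu => ?_, h.NH, h.NA,
      fun g _ x hx x1 e => cA x hx x1 (cent1_conj.2 e), h.n4, hg₀, e₀, h.AV.trans (cent_sub V),
      cent_sub V (h.SV h.sS), h.nbt⟩
  · refine hQ.cent _ e (by simpa using x1) _ ((memJ_norm (h.lt.nrm hg)).2 (hQ.le hy)) ?_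
    rw [show ∀ a b, g * a * g⁻¹ * (g * b * g⁻¹) = g * (a * b) * g⁻¹ from fun a b => by group,
      hQ.ab y hy x hx]
    group
  · obtain ⟨g, hg, e⟩ := hQ.tr a ha a1 b hb b1
    exact ⟨g, ⟨h.lt.le hg.1, hg.2⟩, e⟩
  · rw [he]
    exact ((Nat.Prime.coprime_iff_not_dvd Nat.prime_three).2 i3).pow_left _
  · have k : ∀ g, g ∈ dbl H c h.cc h.lh.cc → g ∈ V ⊔ H := fun g e => e.elim mem_sup_right fun e =>
      (mul_mem_cancel_left (mem_sup_left h.cV)).1 (mem_sup_right e)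
    refine ⟨fun e => ?_, fun e => e.elim (k g) fun e => (mul_mem_cancel_left (mem_sup_left h.tV)).1 (k _ e)⟩
    obtain ⟨v, hv, x, hx, rfl⟩ := h.mem_A.1 e
    rcases (h.memV v).1 hv with rfl | rfl | rfl | rfl
    · exact Or.inl (Or.inl (by simpa using hx))
    · exact Or.inr (Or.inl (by rwa [← mul_assoc, h.tt, one_mul]))
    · exact Or.inl (Or.inr (by rwa [← mul_assoc, h.cc, one_mul]))
    · exact Or.inr (Or.inr (by
        rwa [← mul_assoc t, ← mul_assoc t, h.tt, one_mul, ← mul_assoc, h.cc, one_mul]))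
  · have vV : v ∈ V := hv.elim (· ▸ h.tV) (· ▸ mul_mem h.tV h.cV)
    have h1 := h.Asq hg
    rw [show g * (v * x) * g⁻¹ * (g * (v * x) * g⁻¹) = g * (v * x * (v * x)) * g⁻¹ by group,
      h.vxsq vV hx] at h1
    refine h.A2 (cA _ h1 (by simpa using fun e => x1 (h.H2 hx e)) ?_)
      (Tr.conj_mul_self (h.sq u (h.VS hu)) g)
    rw [cent1J]
    exact Tr.conj_mem_cj.2 (h.Ah (mul_mem hx hx) (mem_sup_left hu))

end C83

end Cfsg.Agent.NR
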