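import Cfsg.Agent.Lib.NR.R8Fin
import Cfsg.Agent.Lib.NR.R83D

/-! Sylow 2-subgroup of order 8: existence of the settings `S83`, `C83`. -/

set_option autoImplicit false

namespace Cfsg.Agent.NR

open Subgroup FT SF.GP SF.T TwoGrp GW
open scoped MatrixGroups

universe u

variable {G : Type u} [Group G] [Finite G] {S L : Subgroup G} {q : ℕ} {t s g : G}

omit [Finite G] in
theorem inv_of_idx (tt : t * t = 1) (hL : L ⊴ 𝐂[t]) (hi : Odd ((zpowers t ⊔ L).relIndex 𝐂[t]))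
    (hg : g ∈ 𝐂[t]) (gg : g * g = 1) : g ∈ L ∨ t * g ∈ L := by
  have n1 : 𝐂[t] ≤ 𝐍(zpowers t ⊔ L) := normsY ((cent_cycle t).ge.trans (cent_sub _)) hL.nz
  have := normal_subgroupOf_of_le_normalizer n1
  have h1 : g ^ (zpowers t ⊔ L).relIndex 𝐂[t] ∈ zpowers t ⊔ L :=
    pow_index_mem (H := (zpowers t ⊔ L).subgroupOf 𝐂[t]) ⟨g, hg⟩
  obtain ⟨k, hk⟩ := hi
  rw [hk, pow_succ, pow_mul, pow_two, gg, one_pow, one_mul] at h1
  obtain ⟨a, ha, l, hl, rfl⟩ := (mem_join_norm' (zpowers_le.2 (hL.nz (cent1id t)))).1 h1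
  rcases mem_zp tt ha with rfl | rfl
  · exact .inl (by rwa [one_mul])
  · exact .inr (by rwa [← mul_assoc, tt, one_mul])

theorem s83_of [IsSimpleGroup G] (ih : IHStmt.{u}) (hs : SimpleLe.{u} (Nat.card G - 1)) (nr : NoReal G)
    (syl : IsSylowIn 2 S ⊤) (sq : ∀ a ∈ S, a * a = 1) (h8 : #|S| = 8)
    (tr : ∀ s ∈ S, s ≠ 1 → ∀ t ∈ S, t ≠ 1 → ∃ g ∈ 𝐍(S), g * s * g⁻¹ = t) (ht : t ∈ S) (t1 : t ≠ 1)
    (hL : L ⊴ 𝐂[t]) (lf : ∀ g, LF (Tr.cj g L) q) (tL : t ∉ L) (cen : 𝐂[t] ⊓ 𝐂(L) ≤ zpowers t)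
    (hi : Odd ((zpowers t ⊔ L).relIndex 𝐂[t])) : S83 S q := by
  refine ⟨‹_›, nr, ih G hs nr, sylowIn_iff.2 syl, sq, h8, tr, fun z zz z1 => ?_⟩
  obtain ⟨x, -, hx⟩ := (sylowIn_iff.2 syl).exists_conj_mem (mem_top z) (k := 1) (by rwa [pow_one, pow_two])
  obtain ⟨n, -, e⟩ := tr t ht t1 _ hx (mt conj_eq_one_iff.1 z1)
  obtain ⟨g, rfl⟩ : ∃ g, g * t * g⁻¹ = z := ⟨x⁻¹ * n, by
    rw [show x⁻¹ * n * t * (x⁻¹ * n)⁻¹ = x⁻¹ * (n * t * n⁻¹) * x by group, e]; group⟩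
  have n1 : Tr.cj g L ⊴ 𝐂[g * t * g⁻¹] := by
    rw [cent1J]; exact ⟨Tr.cj_mono g hL.le, Tr.normalizer_cj g L ▸ Tr.cj_mono g hL.nz⟩
  have i1 : Odd ((zpowers (g * t * g⁻¹) ⊔ Tr.cj g L).relIndex 𝐂[g * t * g⁻¹]) := by
    rwa [cent1J, ← Tr.cj_zpowers, ← Tr.cj_sup, Tr.relIndex_cj]
  refine ⟨Tr.cj g L, zz, z1, n1.le, n1.nz, lf g, fun e => tL (Tr.conj_mem_cj.1 e), ?_, i1,
    fun u hu uu => inv_of_idx zz n1 i1 hu uu⟩
  rw [cent1J, centJ, ← Tr.cj_inf, ← Tr.cj_zpowers]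
  exact Tr.cj_mono g cen

/-- the final contradiction -/
def End83 : Prop := ∀ (G : Type u) [Group G] [Finite G] (S : Subgroup G) (q : ℕ), S83 S q → False

theorem r8_of83 (h0 : R80Stmt.{u}) (lf : LFStmt.{u}) (ih : IHStmt.{u}) (he : End83.{u}) : R8Stmt.{u} :=
  fun G _ _ _ hs nr hse T S e hS tr h8 => by
  obtain ⟨h, hL⟩ := h0 G hs nr hse T S e hS tr h8
  obtain ⟨t, ht, t1⟩ := exists_not_mem (S := S) (X := ⊥) (by rw [h.card, card_bot]; norm_num)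
  have hD := h.core_eq_bot hL ht t1
  obtain ⟨L, F, _, _, f, lt, -⟩ := hL t ht t1
  refine he G S _ (s83_of ih hs nr h.syl h.sq h.card h.tr ht t1 ⟨lt.le, lt.nC⟩ (fun g =>
    lf G _ F lt.h3 lt.hs lt.big ⟨(Tr.cjEquiv g L).symm.trans (MulEquiv.ofBijective f
      ⟨(injective_iff_map_eq_one f).2 fun x hx => Subtype.ext (hD.le ((lt.ker x).1 hx)), lt.surj⟩)⟩)
    lt.tL (fun g hg => ?_) lt.idx)
  rcases lt.gam g (GO.mem_Gam.2 ⟨hg.1, fun y hy => by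
    rw [← mem_cent.1 hg.2 y hy, mul_inv_cancel_right, mul_inv_cancel]; exact one_mem _⟩) with e | e
  · exact mem_bot.1 (hD.le e) ▸ one_mem _
  · exact eq_inv_of_mul_eq_one_right (mem_bot.1 (hD.le e)) ▸ inv_mem (mem_zpowers t)

omit [Finite G] in
theorem S83.cms (h : S83 S q) (ht : t ∈ S) (hs : s ∈ S) : s ∈ 𝐂[t] := mem_cent1.2 (comm_of_sq h.sq hs ht)

omit [Finite G] in
theorem S83.pick (h : S83 S q) (ht : t ∈ S) (hL : LZ t L q) (hs : s ∈ S) :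
    ∃ a ∈ S, a ∈ L ∧ (a = s ∨ a = t * s) :=
  (hL.inv s (h.cms ht hs) (h.sq s hs)).elim (fun e => ⟨s, hs, e, .inl rfl⟩)
    fun e => ⟨_, mul_mem ht hs, e, .inr rfl⟩

theorem c83_ex (h : S83 S q) : ∃ t c s z L H L' V, C83 S q t c s z L H L' V := by
  have lt8 : ∀ {X : Subgroup G}, #|X| ≤ 4 → ∃ a ∈ S, a ∉ X := fun e =>
    exists_not_mem (by rw [h.card]; omega)
  obtain ⟨z, zS, z1⟩ := lt8 (X := ⊥) (by rw [card_bot]; norm_num)
  have zz := h.sq z zS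
  obtain ⟨L', hz⟩ := h.lz z zz z1
  obtain ⟨a, aS, a0⟩ := lt8 (X := zpowers z) (by
    rw [Nat.card_zpowers]
    exact (orderOf_le_of_pow_eq_one two_pos (by rw [pow_two, zz])).trans (by norm_num))
  obtain ⟨t, tS, tL', et⟩ := h.pick zS hz aS
  have t0 : t ∉ zpowers z := fun e => a0 (by
    rcases et with rfl | rfl
    exacts [e, (mul_mem_cancel_left (mem_zpowers z)).1 e])
  have t1 : t ≠ 1 := fun e => t0 (e ▸ one_mem _)
  have tt := h.sq t tS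
  have k4 := isKleinFour_four zz tt (comm_of_sq h.sq zS tS) z1 t1 fun e => t0 (e ▸ mem_zpowers z)
  obtain ⟨b, bS, b0⟩ := lt8 k4.card_four.le
  obtain ⟨b', b'S, bL', eb⟩ := h.pick zS hz bS
  obtain ⟨L, ht⟩ := h.lz t tt t1
  obtain ⟨c, cS, cL, ec⟩ := h.pick tS ht b'S
  have zm : z ∈ four z t zz tt (comm_of_sq h.sq zS tS) := .inr (.inl rfl)
  have tm : t ∈ four z t zz tt (comm_of_sq h.sq zS tS) := .inr (.inr (.inl rfl))
  have b'0 : b' ∉ four z t zz tt (comm_of_sq h.sq zS tS) := fun e => b0 (by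
    rcases eb with rfl | rfl
    exacts [e, (mul_mem_cancel_left zm).1 e])
  have c0 : c ∉ four z t zz tt (comm_of_sq h.sq zS tS) := fun e => b'0 (by
    rcases ec with rfl | rfl
    exacts [e, (mul_mem_cancel_left tm).1 e])
  have cL' : c ∈ L' := by
    rcases ec with rfl | rfl
    exacts [bL', mul_mem tL' bL']
  obtain ⟨s, sS, sL, es⟩ := h.pick tS ht zS
  have s0 : s ∉ L' := fun e => hz.zL (by
    rcases es with rfl | rfl
    exacts [e, (mul_mem_cancel_left tL').1 e])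
  have c1 : c ≠ 1 := fun e => c0 (e ▸ one_mem _)
  have s1 : s ≠ 1 := fun e => s0 (e ▸ one_mem _)
  have sc : s ≠ c := fun e => s0 (e ▸ cL')
  have cc := h.sq c cS
  obtain ⟨H, hH⟩ := ht.lf.exH c cL s sL cc (h.sq s sS) c1 s1 sc (comm_of_sq h.sq cS sS)
  have hV : ∀ X : Subgroup G, t ∈ X → c ∈ X → four t c tt cc (comm_of_sq h.sq tS cS) ≤ X := fun X h1 h2 => by
    rintro x (rfl | rfl | rfl | rfl)
    exacts [one_mem _, h1, h2, mul_mem h1 h2]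
  refine ⟨t, c, s, z, L, H, L', four t c tt cc (comm_of_sq h.sq tS cS), h, tS, cS, sS, zS, ht, hz, cL, sL,
    c1, s1, sc, hH, tL', cL', fun _ => Iff.rfl, fun x => ⟨fun hx => ?_, ?_⟩⟩
  · by_cases e : x ∈ four t c tt cc (comm_of_sq h.sq tS cS)
    · exact .inl e
    · exact .inr (mul_mem_of_four h.card (isKleinFour_four _ _ _ t1 c1 fun e => c0 (e ▸ tm))
        (hV S tS cS) sS hx (fun e => s0 (hV L' tL' cL' e)) e)
  · rintro (e | e)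
    exacts [hV S tS cS e, (mul_mem_cancel_left sS).1 (hV S tS cS e)]

end Cfsg.Agent.NR
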