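import Cfsg.Agent.Lib.NR.R83h
import Cfsg.Agent.Lib.NR.R83s

/-! The contradiction for a Sylow 2-subgroup of order 8 from the local rows. -/

set_option autoImplicit false

namespace Cfsg.Agent.NR

universe u

theorem end83_of (ha : RA.{u}) (hb : RB1.{u}) (hf : RF3.{u}) (hse : RSE.{u}) (hb2 : RB2.{u}) :
    End83.{u} := by
  intro G _ _ S q h
  obtain ⟨t, c, s, z, L, H, L', V, h⟩ := c83_ex h
  haveI := Fintype.ofFinite G
  exact h.false ha hb hf hse hb2

end Cfsg.Agent.NR
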