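import Cfsg.Agent.Lib.NR.R8D
import Cfsg.Agent.Lib.NR.KB2a
import Cfsg.Agent.Lib.NR.KCh1
import Cfsg.Agent.Lib.GW.Cyc
import Cfsg.Agent.Lib.GW.PGen
import Cfsg.Agent.Lib.Mat.SL2

/-! The properties of `L₂(q)`, `q = 3^(odd) > 3`. -/

set_option autoImplicit false

namespace Cfsg.Agent.NR

open Subgroup FT SF.GP Matrix
open scoped MatrixGroups

section transport

variable {Γ G : Type*} [Group Γ] [Group G] {ι : Γ →* G} (hι : Function.Injective ι) {q : ℕ}
include hι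

theorem LQ.map {Q : Subgroup Γ} (h : LQ ⊤ Q q) : LQ ι.range (Q.map ι) q := by
  have nrm : ι.range ⊓ 𝐍(Q.map ι) = (⊤ ⊓ 𝐍(Q)).map ι := by
    have := comap_normalizer_eq_of_le_range (map_le_range ι Q)
    rw [comap_map_eq_self_of_injective hι] at this
    rw [top_inf_eq, ← this, map_comap_eq]
  refine ⟨map_le_range _ _, by rw [card_map_of_injective hι, h.card], ?_, ?_, ?_, ?_, ?_⟩
  · rintro _ ⟨a, ha, rfl⟩ _ ⟨b, hb, rfl⟩
    rw [← map_mul, h.ab a ha b hb, map_mul]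
  · rintro _ ⟨a, ha, rfl⟩
    rw [← map_pow, h.cube a ha, map_one]
  · rintro _ ⟨a, ha, rfl⟩ a1 _ ⟨g, rfl⟩ e
    exact mem_map_of_mem _ (h.cent a ha (fun e => a1 (by rw [e, map_one])) g trivial
      (hι (by rw [map_mul, map_mul, e])))
  · rw [nrm, card_map_of_injective hι, h.idx, MonoidHom.range_eq_map, card_map_of_injective hι]
  · rintro _ ⟨a, ha, rfl⟩ a1 _ ⟨b, hb, rfl⟩ b1
    obtain ⟨g, hg, e⟩ := h.tr a ha (fun e => a1 (by rw [e, map_one])) b hb
      fun e => b1 (by rw [e, map_one])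
    refine ⟨ι g, nrm ▸ mem_map_of_mem _ hg, ?_⟩
    rw [← map_inv, ← map_inv, ← map_mul, ← map_mul]
    exact e.imp (congrArg ι) (congrArg ι)

theorem LH.map {H : Subgroup Γ} {c s : Γ} (h : LH ⊤ H q c s) :
    LH ι.range (H.map ι) q (ι c) (ι s) := by
  have := h.cyc
  refine ⟨map_le_range _ _, isCyclic_of_surjective _ (ι.subgroupMap_surjective H),
    by rw [card_map_of_injective hι, h.card], ?_, ?_, ?_, ?_⟩
  · rintro _ ⟨a, ha, rfl⟩
    rw [← map_mul, h.cc a ha, map_mul]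
  · rintro _ ⟨a, ha, rfl⟩
    rw [← map_inv, ← map_inv, ← map_mul, ← map_mul, h.inv a ha]
  · rintro _ ⟨g, rfl⟩ e
    simp only [← map_mul, mem_map_iff_mem hι]
    exact h.cent g trivial (hι (by rw [map_mul, map_mul, e]))
  · rintro _ ⟨a, ha, rfl⟩ a1 _ ⟨g, rfl⟩ e
    simp only [← map_mul, mem_map_iff_mem hι]
    exact h.centh a ha (fun e => a1 (by rw [e, map_one])) g trivial
      (hι (by rw [map_mul, map_mul, e]))

theorem LF.map (h : LF (⊤ : Subgroup Γ) q) : LF ι.range q := by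
  have sq : ∀ {a}, ι a * ι a = 1 → a * a = 1 := fun e => hι (by rw [map_mul, e, map_one])
  have ne : ∀ {a}, ι a ≠ 1 → a ≠ 1 := fun e e' => e (by rw [e', map_one])
  refine ⟨h.pow, by rw [MonoidHom.range_eq_map, card_map_of_injective hι, h.card], ?_, ?_, ?_, ?_⟩
  · rintro _ ⟨x, rfl⟩ e
    obtain ⟨Q, hx, hQ⟩ := h.exQ x trivial (hι (by rw [map_pow, e, map_one]))
    exact ⟨_, mem_map_of_mem _ hx, hQ.map hι⟩
  · rintro _ ⟨a, rfl⟩ a2 a1 _ ⟨b, rfl⟩ b2 b1
    obtain ⟨g, -, e⟩ := h.one a trivial (sq a2) (ne a1) b trivial (sq b2) (ne b1)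
    exact ⟨_, ⟨g, rfl⟩, by rw [← e, map_mul, map_mul, map_inv]⟩
  · rintro _ ⟨a, rfl⟩ _ ⟨b, rfl⟩ a2 b2 a1 b1 ab e
    obtain ⟨H, hH⟩ := h.exH a trivial b trivial (sq a2) (sq b2) (ne a1) (ne b1)
      (fun e => ab (by rw [e])) (hι (by rw [map_mul, map_mul, e]))
    exact ⟨_, hH.map hι⟩
  · rintro _ ⟨a, rfl⟩ _ ⟨b, rfl⟩ a2 b2 a1 b1 ab e
    obtain ⟨w, -, e1, e2, e3⟩ := h.rot a trivial b trivial (sq a2) (sq b2) (ne a1) (ne b1)
      (fun e => ab (by rw [e])) (hι (by rw [map_mul, map_mul, e]))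
    exact ⟨_, ⟨w, rfl⟩, by rw [← map_pow, e1, map_one], by rw [← e2, map_mul, map_mul, map_inv],
      by rw [← map_mul ι a, ← e3, map_mul, map_mul, map_inv]⟩

end transport

theorem quat_rot {R : Type*} [Ring R] {i j : R} (h3 : (3 : R) = 0) (hi : i * i = -1) (hj : j * j = -1)
    (hij : j * i = -(i * j)) : (1 + i + j + i * j) * i = j * (1 + i + j + i * j) ∧
      (1 + i + j + i * j) * j = i * j * (1 + i + j + i * j) ∧ (1 + i + j + i * j) ^ 3 = 1 := by
  have a1 : ∀ x, i * (i * x) = -x := fun x => by rw [← mul_assoc, hi, neg_one_mul]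
  have a2 : ∀ x, j * (j * x) = -x := fun x => by rw [← mul_assoc, hj, neg_one_mul]
  have a3 : ∀ x, j * (i * x) = -(i * (j * x)) := fun x => by rw [← mul_assoc, hij, neg_mul, mul_assoc]
  refine ⟨?_, ?_, ?_⟩
  · simp only [mul_add, add_mul, mul_assoc, a1, a2, a3, hi, hj, hij, mul_one, one_mul, mul_neg, neg_neg]
    abel
  · simp only [mul_add, add_mul, mul_assoc, a1, a2, a3, hi, hj, hij, mul_one, one_mul, mul_neg, neg_neg]
    abel
  · have : (1 + i + j + i * j) ^ 3 = 1 - 3 - 3 - 3 := by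
      simp only [pow_three, mul_add, add_mul, mul_assoc, a1, a2, a3, hi, hj, hij, mul_one, one_mul,
        mul_neg, neg_neg, show (3 : R) = 1 + 1 + 1 by norm_num]
      abel
    rw [this, h3]; simp

variable {F : Type*} [Field F]

theorem pr_neg (h2 : (2 : F) ≠ 0) (m : SL(2, F)) : pr (-m) = pr m := by
  rw [← neg_one_mul, map_mul, (b2_pr_eq_one h2 _).2 (.inr rfl), one_mul]

theorem pr_eq_pm (h2 : (2 : F) ≠ 0) {a b : SL(2, F)} (h : pr a = pr b) : a = b ∨ a = -b := by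
  rcases (b2_pr_eq_one h2 (a * b⁻¹)).1 (by rw [map_mul, map_inv, h, mul_inv_cancel]) with e | e
  · exact .inl (mul_inv_eq_one.1 e)
  · exact .inr (by rw [mul_inv_eq_iff_eq_mul.1 e, neg_one_mul])

theorem lift_inv (h2 : (2 : F) ≠ 0) {a : SL(2, F)} (h : pr a * pr a = 1) (h1 : pr a ≠ 1) :
    a * a = -1 := ((b2_pr_eq_one h2 _).1 (by rw [map_mul, h])).resolve_left fun e =>
  h1 ((b2_pr_eq_one h2 _).2 (QGrp.sq_eq_one h2 e))

theorem lift_anti (h2 : (2 : F) ≠ 0) {a b : SL(2, F)} (ha : a * a = -1) (hb : b * b = -1)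
    (hab : pr b ≠ pr a) (h : pr a * pr b = pr b * pr a) : b * a = -(a * b) := by
  refine (pr_eq_pm h2 (by rw [map_mul, map_mul, h])).resolve_left fun e => hab ?_
  have h1 : a * b * (a * b) = 1 := by
    rw [mul_assoc, ← mul_assoc b, e, mul_assoc, hb, ← mul_assoc, ha]; simp
  have h3 := (b2_pr_eq_one h2 _).2 (QGrp.sq_eq_one h2 h1)
  have h4 : pr a * pr a = 1 := by rw [← map_mul, ha, (b2_pr_eq_one h2 _).2 (.inr rfl)]
  rw [map_mul, ← h4] at h3
  exact mul_left_cancel h3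

theorem mem_norm_U {g : SL(2, F)} (h : pr g ∈ 𝐍(U F)) : g 1 0 = 0 := by
  obtain ⟨a, ha⟩ := mem_U.1 ((mem_normalizer_iff.1 h _).1 (u_mem (1 : F)))
  rw [eq_mul_inv_iff_mul_eq, u, u, ← map_mul, ← map_mul] at ha
  obtain ⟨r, -, h1⟩ := pr_eq ha
  have e : ∀ i j, (g.1 * !![1, 1; 0, 1] : Matrix (Fin 2) (Fin 2) F) i j =
    r * (!![1, a; 0, 1] * g.1) i j := h1
  have e10 := e 1 0
  have e11 := e 1 1
  simp [mul_apply, Fin.sum_univ_two] at e10 e11
  by_contra h0
  have h0' : g.1 1 0 ≠ 0 := h0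
  have r1 : r = 1 := mul_right_cancel₀ h0' (by linear_combination -e10)
  exact h0' (by rw [r1] at e11; linear_combination e11)

theorem index_norm_U [Finite F] : 𝐍(U F).index = Nat.card F + 1 := by
  let f : Option F → PSL(2, F) ⧸ 𝐍(U F) := fun o =>
    o.elim (QuotientGroup.mk 1) fun a => QuotientGroup.mk (u a * pr wS)
  have hN : ∀ a, u a ∈ 𝐍(U F) := fun a => le_normalizer (u_mem a)
  have key : ∀ a : F, (QuotientGroup.mk 1 : PSL(2, F) ⧸ 𝐍(U F)) ≠ QuotientGroup.mk (u a * pr wS) :=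
    fun a e =>
    w_not_mem ((mul_mem_cancel_left (hN a)).1 (by simpa using QuotientGroup.eq.1 e))
  rw [← Finite.card_option]
  refine (Nat.card_congr (Equiv.ofBijective f ⟨?_, fun x => ?_⟩)).symm
  · rintro (_ | a) (_ | b) e
    · rfl
    · exact absurd e (key b)
    · exact absurd e.symm (key a)
    · have h1 : pr (wS⁻¹ * uS (-a + b) * wS) ∈ 𝐍(U F) := by
        rw [map_mul, map_mul, map_inv, ← u, u_add, u_neg]
        simpa [mul_assoc] using QuotientGroup.eq.1 e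
      have h2 : (adjugate !![0, -1; 1, 0] * !![1, -a + b; 0, 1] * !![0, -1; 1, 0] :
        Matrix (Fin 2) (Fin 2) F) 1 0 = 0 := mem_norm_U h1
      rw [adjugate_fin_two_of] at h2
      simp [mul_apply, Fin.sum_univ_two] at h2
      congr 1
      linear_combination h2
  · obtain ⟨g, rfl⟩ := QuotientGroup.mk_surjective x
    rcases bruhat g with h | ⟨y, hy, b, hb, rfl⟩
    · exact ⟨none, QuotientGroup.eq.2 (by simpa using h)⟩
    · obtain ⟨a, rfl⟩ := mem_U.1 hy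
      exact ⟨some a, QuotientGroup.eq.2 (by rwa [inv_mul_cancel_left])⟩

theorem card_U' [Finite F] : #|U F| = Nat.card F := by
  rw [U, ← Nat.card_congr (MonoidHom.ofInjective (f := uHom (F := F))
    ((injective_iff_map_eq_one _).2 fun a ha => u_eq_one (a := a.toAdd) ha)).toEquiv]
  rfl

theorem lq_U [Finite F] (h3 : (3 : F) = 0) (hs : ¬ IsSquare (-1 : F)) :
    LQ ⊤ (U F) (Nat.card F) := by
  have h2 := two_ne h3
  refine ⟨le_top, card_U', fun _ ha _ hb => U_comm ha hb, fun a ha => ?_, fun a ha a1 g _ e => ?_,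
    by rw [top_inf_eq, ← index_norm_U, card_mul_index, card_top], fun a ha a1 b hb b1 => ?_⟩
  · obtain ⟨a, rfl⟩ := mem_U.1 ha
    exact u_pow h3 a
  · obtain ⟨a, rfl⟩ := mem_U.1 ha
    obtain ⟨g, rfl⟩ := pr_surj g
    have a0 : a ≠ 0 := by rintro rfl; exact a1 u_zero
    have h1 := Ree.comm_iff.1 (b2_lift_comm h2 (y := uS a) (g := g) (by
      rw [show orderOf (pr (uS a)) = 3 from orderOf_eq_prime (u_pow h3 a) a1]; decide) e)
    simp [uS, a0] at h1
    have hd := QGrp.det2 g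
    obtain ⟨e1, e2⟩ := h1
    have e3 : g 1 1 = g 0 0 := sub_eq_zero.1 e2
    rw [e1, e3, mul_zero, sub_zero] at hd
    rcases mul_self_eq_one_iff.1 hd with e4 | e4
    · exact mem_U.2 ⟨g 0 1, congrArg pr (QGrp.ext2 (by simp [uS, e4]) (by simp [uS]) (by simp [uS, e1])
        (by simp [uS, e3, e4]))⟩
    · refine mem_U.2 ⟨-g 0 1, ?_⟩
      rw [← pr_neg h2 g]
      exact congrArg pr (QGrp.ext2 (by simp [uS, e4]) (by simp [uS]) (by simp [uS, e1])
        (by simp [uS, e3, e4]))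
  · obtain ⟨a, rfl⟩ := mem_U.1 ha
    obtain ⟨b, rfl⟩ := mem_U.1 hb
    have a0 : a ≠ 0 := by rintro rfl; exact a1 u_zero
    have b0 : b ≠ 0 := by rintro rfl; exact b1 u_zero
    rcases sq_or_neg_sq hs (div_ne_zero b0 a0) with ⟨r, hr⟩ | ⟨r, hr⟩
    · have r0 : r ≠ 0 := by rintro rfl; exact div_ne_zero b0 a0 (by simpa using hr)
      refine ⟨pr (hS r r0), ⟨trivial, pr_mem_normalizer rfl⟩, .inl ?_⟩
      rw [conj_u rfl]; congr 1
      change r ^ 2 * a = b
      rw [sq, ← hr]; field_simp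
    · have r0 : r ≠ 0 := by rintro rfl; exact div_ne_zero b0 a0 (by simpa using hr)
      refine ⟨pr (hS r r0), ⟨trivial, pr_mem_normalizer rfl⟩, .inr ?_⟩
      rw [conj_u rfl, ← u_neg]; congr 1
      change r ^ 2 * a = -b
      rw [sq, ← hr]; field_simp

theorem card_psl [Finite F] (h2 : (2 : F) ≠ 0) :
    2 * Nat.card PSL(2, F) = Nat.card F * (Nat.card F ^ 2 - 1) := by
  have := Fintype.ofFinite F
  have h1 := card_eq_card_quotient_mul_card_subgroup (center SL(2, F))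
  rw [Tr.L2.card_SL, Tr.L2.card_center h2, ← Nat.card_eq_fintype_card] at h1
  rw [mul_comm, ← h1, mul_assoc, mul_comm (_ - 1), ← Nat.sq_sub_sq, one_pow]

theorem card_torus (h2 : (2 : F) ≠ 0) (hs : ¬ IsSquare (-1 : F)) [Finite F] :
    #|𝐂[(wS : SL(2, F))]| = Nat.card F + 1 := by
  have n0 : ∀ m : F, 1 + m ^ 2 ≠ 0 := fun m h => hs ⟨m, by linear_combination -h⟩
  have mem : ∀ g : SL(2, F), g ∈ 𝐂[(wS : SL(2, F))] ↔ g 1 0 = -g 0 1 ∧ g 1 1 = g 0 0 := fun g => by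
    rw [mem_cent1, Ree.comm_iff]
    simp only [wS]
    simp
    exact ⟨fun h => ⟨by linear_combination h.1, by linear_combination -h.2.2⟩,
      fun h => ⟨by linear_combination h.1, by linear_combination h.2, by linear_combination -h.2⟩⟩
  let M : F → SL(2, F) := fun m => ⟨!![(1 - m ^ 2) / (1 + m ^ 2), 2 * m / (1 + m ^ 2);
    -(2 * m / (1 + m ^ 2)), (1 - m ^ 2) / (1 + m ^ 2)], by
      have := n0 m
      rw [det_fin_two_of]; field_simp; ring⟩
  let f : Option F → 𝐂[(wS : SL(2, F))] := fun o =>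
    o.elim ⟨-1, mem_cent1.2 (by simp)⟩ fun m => ⟨M m, (mem _).2 ⟨rfl, rfl⟩⟩
  have key : ∀ m, M m ≠ -1 := fun m e => by
    have e1 : (1 - m ^ 2) / (1 + m ^ 2) = -1 := by simpa [M] using (QGrp.ents e).1
    rw [div_eq_iff (n0 m)] at e1
    exact h2 (by linear_combination e1)
  rw [← Finite.card_option]
  refine (Nat.card_congr (Equiv.ofBijective f ⟨?_, fun ⟨g, hg⟩ => ?_⟩)).symm
  · rintro (_ | a) (_ | b) e
    · rfl
    · exact absurd (congrArg Subtype.val e).symm (key b)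
    · exact absurd (congrArg Subtype.val e) (key a)
    · have e0 := QGrp.ents (congrArg Subtype.val e)
      have e1 : (1 - a ^ 2) / (1 + a ^ 2) = (1 - b ^ 2) / (1 + b ^ 2) := e0.1
      have e2 : 2 * a / (1 + a ^ 2) = 2 * b / (1 + b ^ 2) := e0.2.1
      rw [div_eq_div_iff (n0 a) (n0 b)] at e1 e2
      have e3 : a ^ 2 = b ^ 2 := mul_left_cancel₀ h2 (by linear_combination -e1)
      rw [e3] at e2
      exact congrArg some (mul_left_cancel₀ h2 (mul_right_cancel₀ (n0 b) e2))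
  · obtain ⟨e1, e2⟩ := (mem g).1 hg
    have hd := QGrp.det2 g
    rw [e1, e2] at hd
    by_cases h : g 0 0 + 1 = 0
    · have e3 : g 0 0 = -1 := by linear_combination h
      have e4 : g 0 1 = 0 := mul_self_eq_zero.1 (by rw [e3] at hd; linear_combination hd)
      exact ⟨none, Subtype.ext (QGrp.ext2 (by simp [f, e3]) (by simp [f, e4]) (by simp [f, e1, e4])
        (by simp [f, e2, e3]))⟩
    · have e3 : 1 + (g 0 1 / (g 0 0 + 1)) ^ 2 = 2 / (g 0 0 + 1) := by
        field_simp; linear_combination hd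
      have e4 : (1 - (g 0 1 / (g 0 0 + 1)) ^ 2) / (1 + (g 0 1 / (g 0 0 + 1)) ^ 2) = g 0 0 := by
        rw [e3]; field_simp; linear_combination -hd
      have e5 : 2 * (g 0 1 / (g 0 0 + 1)) / (1 + (g 0 1 / (g 0 0 + 1)) ^ 2) = g 0 1 := by
        rw [e3]; field_simp
      exact ⟨some (g 0 1 / (g 0 0 + 1)), Subtype.ext (QGrp.ext2 e4 e5 ((congrArg Neg.neg e5).trans e1.symm)
        (e4.trans e2.symm))⟩

theorem conj_wS [Finite F] (h2 : (2 : F) ≠ 0) {c : SL(2, F)} (hc : c * c = -1) : IsConj wS c := by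
  obtain ⟨a, b, hab⟩ := Mat.exists_quad h2 one_ne_zero one_ne_zero (-1 : F)
  have hab' : a ^ 2 + b ^ 2 = -1 := by linear_combination hab
  exact (Mat.isSL_coe (Fin 2) F).isConj h2 hab' (z := -1) (i := wS) (j := ⟨_, Mat.det_mJ hab'⟩)
    rfl rfl rfl c hc

theorem card_cent (h2 : (2 : F) ≠ 0) (hs : ¬ IsSquare (-1 : F)) [Finite F] {c s : SL(2, F)}
    (hc : c * c = -1) (h : s * c = -(c * s)) : #|𝐂[pr c]| = Nat.card F + 1 := by
  have h1 : #|𝐂[c]| = Nat.card F + 1 := by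
    obtain ⟨g, rfl⟩ := isConj_iff.1 (conj_wS h2 hc)
    rw [← card_torus h2 hs]
    exact (Nat.card_congr ((MulAut.conj g).toEquiv.subtypeEquiv fun a => by
      simp only [mem_cent1, MulEquiv.toEquiv_eq_coe, EquivLike.coe_coe, MulAut.conj_apply, conj_mul,
        mul_left_inj, mul_right_inj])).symm
  have ne : ∀ a : SL(2, F), a ≠ -a := fun a e => QGrp.neg_one_ne h2 (by
    have := congrArg (· * a⁻¹) e
    simpa using this.symm)
  have h3 : 𝐂[c].relIndex (𝐂[pr c].comap pr) = 2 := relIndex_eq_two_iff_exists_notMem_and.2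
    ⟨s, mem_cent1.2 (by rw [← map_mul, h, pr_neg h2, map_mul]),
      fun e => ne _ ((mem_cent1.1 e).symm.trans h), fun b hb => by
        rcases pr_eq_pm h2 (a := b * c) (b := c * b) (by
          rw [map_mul, map_mul]; exact mem_cent1.1 hb) with e | e
        · exact .inr (mem_cent1.2 e)
        · exact .inl (mem_cent1.2 (by
            rw [mul_assoc, h, mul_neg, ← mul_assoc, e, neg_mul, neg_neg, mul_assoc]))⟩
  have h4 := Solv.card_mul_relIndex (H := 𝐂[c]) (K := 𝐂[pr c].comap pr) fun a ha =>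
    mem_cent1.2 (by rw [← map_mul, mem_cent1.1 ha, map_mul])
  rw [h3, h1, Fit.card_comap_of_surjective' pr_surj,
    show (pr : SL(2, F) →* PSL(2, F)).ker = center _ from QuotientGroup.ker_mk' _,
    Tr.L2.card_center h2] at h4
  omega

theorem lf_top {F : Type} [Field F] [Finite F] (h3 : (3 : F) = 0) (hs : ¬ IsSquare (-1 : F))
    (hq : 3 < Nat.card F) : LF (⊤ : Subgroup PSL(2, F)) (Nat.card F) := by
  classical
  have h2 := two_ne h3
  have := Fintype.ofFinite F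
  have hb : ∃ b : F, b ≠ 0 ∧ b ≠ 1 ∧ b ≠ -1 := by
    by_contra! hb
    have : (Finset.univ : Finset F) ⊆ {0, 1, -1} := fun b _ => by
      by_cases b0 : b = 0
      · simp [b0]
      by_cases b1 : b = 1
      · simp [b1]
      · simp [hb b b0 b1]
    have := (Finset.card_le_card this).trans Finset.card_le_three
    rw [Finset.card_univ, ← Nat.card_eq_fintype_card] at this
    omega
  obtain ⟨f, hf, ⟨σ⟩⟩ := exists_galois h3 hs hb
  have hpow : Nat.card F = 3 ^ (2 * (f - 1) + 3) := by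
    rw [Nat.card_congr σ.toEquiv, GaloisField.card 3 _ (by omega)]; congr 1; omega
  have h8 : ¬ 8 ∣ Nat.card PSL(2, F) := fun h => by
    have h1 : 16 ∣ Nat.card F * (Nat.card F ^ 2 - 1) := card_psl h2 ▸ Nat.mul_dvd_mul_left 2 h
    have h4 : Nat.card F % 8 = 3 := by
      rw [hpow, pow_add, pow_mul, Nat.mul_mod, Nat.pow_mod]; simp
    obtain ⟨k, hk⟩ : ∃ k, Nat.card F = 8 * k + 3 := ⟨Nat.card F / 8, by omega⟩
    rw [hk, show (8 * k + 3) ^ 2 - 1 = 16 * (4 * k ^ 2 + 3 * k) + 8 by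
      rw [Nat.sub_eq_iff_eq_add (Nat.one_le_pow _ _ (by omega))]; ring,
      show (8 * k + 3) * (16 * (4 * k ^ 2 + 3 * k) + 8) =
        16 * ((8 * k + 3) * (4 * k ^ 2 + 3 * k) + 4 * k + 1) + 8 by ring] at h1
    omega
  have pl : Ree.PL (⊤ : Subgroup PSL(2, F)) :=
    Ree.PL.of_cover h2 pr (fun x => by simpa using pr_surj x) (b2_pr_eq_one h2)
  have rot : ∀ c s : PSL(2, F), c * c = 1 → s * s = 1 → c ≠ 1 → s ≠ 1 → s ≠ c → c * s = s * c →
      ∃ w, w ^ 3 = 1 ∧ w * c * w⁻¹ = s ∧ w * s * w⁻¹ = c * s := fun c s c2 s2 c1 s1 sc e => by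
    obtain ⟨c, rfl⟩ := pr_surj c
    obtain ⟨s, rfl⟩ := pr_surj s
    have a1 := lift_inv h2 c2 c1
    have a2 := lift_inv h2 s2 s1
    obtain ⟨r1, r2, r3⟩ := quat_rot (i := c.1) (j := s.1) (by
      rw [show (3 : Matrix (Fin 2) (Fin 2) F) = algebraMap F _ 3 from (map_ofNat _ 3).symm, h3, map_zero])
      (congrArg Subtype.val a1) (congrArg Subtype.val a2)
      (congrArg Subtype.val (lift_anti h2 a1 a2 sc e))
    have hd : (1 + c.1 + s.1 + c.1 * s.1).det = 1 := by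
      have h := congrArg det r3
      rw [det_pow, det_one] at h
      refine sub_eq_zero.1 (pow_eq_zero_iff (n := 3) (by norm_num) |>.1 ?_)
      linear_combination h + (_ - _ ^ 2) * h3
    let w : SL(2, F) := ⟨_, hd⟩
    refine ⟨pr w, ?_, ?_, ?_⟩
    · rw [← map_pow, show w ^ 3 = 1 from Subtype.ext r3, map_one]
    · rw [mul_inv_eq_iff_eq_mul, ← map_mul, show w * c = s * w from Subtype.ext r1, map_mul]
    · rw [mul_inv_eq_iff_eq_mul, ← map_mul, show w * s = c * s * w from Subtype.ext r2, map_mul, map_mul]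
  refine ⟨⟨_, hpow⟩, by rw [card_top, card_psl h2], fun x _ hx => ?_, fun a _ a2 a1 b _ b2 b1 => ?_,
    fun c _ s _ c2 s2 c1 s1 sc e => ?_, fun c _ s _ c2 s2 c1 s1 sc e => ?_⟩
  · obtain ⟨k, -, hk⟩ := (sylow_U h3).exists_conj_le (U := zpowers x) le_top
      (TwoGrp.isPGroup_zpowers_of_pow (k := 1) (by rw [pow_one, hx]))
    have := (lq_U h3 hs).map (ι := (MulAut.conj k).toMonoidHom) (MulAut.conj k).injective
    rw [MonoidHom.range_eq_top.2 (MulAut.conj k).surjective] at this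
    exact ⟨_, hk (mem_zpowers x), this⟩
  · obtain ⟨a, rfl⟩ := pr_surj a
    obtain ⟨b, rfl⟩ := pr_surj b
    obtain ⟨g, hg⟩ := isConj_iff.1 ((conj_wS h2 (lift_inv h2 a2 a1)).symm.trans
      (conj_wS h2 (lift_inv h2 b2 b1)))
    exact ⟨pr g, trivial, by rw [← hg, map_mul, map_mul, map_inv]⟩
  · obtain ⟨w, -, e1, e2⟩ := rot c s c2 s2 c1 s1 sc e
    let P : KF PSL(2, F) := ⟨c, s, w, c2, s2, c1, s1, sc, e, h8, e1, e2⟩
    have oc : orderOf c = 2 := orderOf_eq_prime (by rw [sq, c2]) c1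
    have hB : P.B = ⊥ := eq_bot_iff.2 fun y hy => mem_bot.2 (by_contra fun y1 =>
      sc ((pl.odd y trivial y1 (GW.odd_of_mem P.oddB hy) s trivial c trivial
        (mem_cent1.1 hy.2).symm (mem_cent1.1 (P.U_le hy.1)).symm).2
        (orderOf_eq_prime (by rw [sq, s2]) s1) oc))
    have hi : ∀ h ∈ P.U, s * h * s⁻¹ = h⁻¹ := fun h hh => by
      obtain ⟨k, -, hk, v, hv, rfl⟩ := GW.dec' P.oddU s2 (P.U_nrm.nz P.sH) hh
      rw [mem_bot.1 (hB ▸ hv : v ∈ (⊥ : Subgroup _)), mul_one]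
      exact hk
    have hc : ∀ g, g * c = c * g → g ∈ P.U ∨ c * g ∈ P.U ∨ s * g ∈ P.U ∨ c * s * g ∈ P.U := fun g hg => by
      obtain ⟨y, hy, v, hv, rfl⟩ := P.sdH.exists (mem_cent1.2 hg)
      have h1 := P.U_nrm.conj_mem (P.V_cent P.tV hv) hy
      rw [inv_eq_of_mul_eq_one_right (P.V_sq hv), mul_assoc] at h1
      rcases hv with rfl | rfl | rfl | rfl
      exacts [.inl (by simpa using h1), .inr (.inl h1), .inr (.inr (.inl h1)), .inr (.inr (.inr h1))]
    obtain ⟨C, hC⟩ := pr_surj c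
    obtain ⟨S, hS⟩ := pr_surj s
    have a1 := lift_inv h2 (hC ▸ c2) (hC ▸ c1)
    refine ⟨P.U, le_top, ?_, ?_, fun h hh => (mem_cent1.1 (P.U_le hh)).symm, hi, fun g _ => hc g,
      fun h hh h1 g _ hg => ?_⟩
    · have : IsCyclic (P.U.comap pr) := GW.isCyclic_of_comm h2 (x := C) (fun y hy =>
        (b2_lift_comm h2 (P.mem_U.1 hy).2 (hC ▸ (mem_cent1.1 (P.U_le hy)).symm)).symm) (by
          have ht := Mat.trace_eq_zero C.2 (congrArg Subtype.val a1)
          rw [trace_fin_two] at ht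
          rw [show C 0 0 + C 1 1 = 0 from ht]
          exact fun h => h2 (by linear_combination h + 2 * h3))
      exact isCyclic_of_surjective _ (MonoidHom.subgroupComap_surjective_of_surjective _ _ pr_surj)
    · rw [← P.card_H, ← card_cent h2 hs a1 (lift_anti h2 a1 (lift_inv h2 (hS ▸ s2) (hS ▸ s1))
        (hC ▸ hS ▸ sc) (hC ▸ hS ▸ e)), hC]
    · have h4 := (pl.odd h trivial h1 (P.mem_U.1 hh).2 g trivial c trivial hg
        (mem_cent1.1 (P.U_le hh)).symm).1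
      have h5 : ∀ y ∈ P.U, y ∈ 𝐂[h] := fun y hy => mem_cent1.2 (by
        have := hi _ (mul_mem hy hh)
        rw [← conj_mul, hi y hy, hi h hh, ← _root_.mul_inv_rev, _root_.inv_inj] at this
        exact this.symm)
      have h6 : s ∉ 𝐂[h] := fun h' => h1 (mem_bot.1 (hB ▸ ⟨hh, cent1C.1 h'⟩ : h ∈ (⊥ : Subgroup _)))
      have h7 : c ∈ 𝐂[h] := cent1C.1 (P.U_le hh)
      rcases hc g h4 with k | k | k | k
      exacts [.inl k, .inr k, absurd ((mul_mem_cancel_right (mem_cent1.2 hg)).1 (h5 _ k)) h6,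
        absurd ((mul_mem_cancel_left h7).1 ((mul_mem_cancel_right (mem_cent1.2 hg)).1 (h5 _ k))) h6]
  · obtain ⟨w, hw⟩ := rot c s c2 s2 c1 s1 sc e
    exact ⟨w, trivial, hw⟩

universe u

theorem lf : LFStmt.{u} := fun _ _ _ L _ _ _ h3 hs hq ⟨e⟩ => by
  have := (lf_top h3 hs hq).map (ι := L.subtype.comp e.symm.toMonoidHom)
    (L.subtype_injective.comp e.symm.injective)
  rwa [MonoidHom.range_comp, MonoidHom.range_eq_top.2 e.symm.surjective, ← MonoidHom.range_eq_map,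
    range_subtype] at this

end Cfsg.Agent.NR
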