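import Cfsg.Agent.Lib.NR.R83e2
import Cfsg.Agent.Lib.NR.R83c1
import Cfsg.Agent.Lib.NR.R83z
import Cfsg.Agent.Lib.NR.R83b
import Cfsg.Agent.Lib.NR.R83f
import Cfsg.Agent.Lib.NR.R80
import Cfsg.Agent.Lib.NR.R8L
import Cfsg.Agent.Lib.NR.R8I

/-! The case of a Sylow 2-subgroup of order 8 is impossible. -/

set_option autoImplicit false
set_option linter.unusedSectionVars false

namespace Cfsg.Agent.NR

open Subgroup FT SF.GP GW

universe u

theorem ry_cyc {G : Type u} [Group G] [Finite G] {H : Subgroup G} (hc : IsCyclic H) {k : G}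
    (hk : k ∈ H) {r : ℕ} (hr : r.Prime) (ok : orderOf k = r)
    (hX : ∀ y ∈ 𝐂[k], ∀ n, y ^ r ^ n = 1 → y ∈ H) :
    (∀ y : G, orderOf y = r → ∃ g : G, ∃ n : ℕ, y = g * k ^ n * g⁻¹) ∧
      ∀ R : Subgroup G, IsPGroup r R → IsCyclic R := by
  haveI := Fact.mk hr
  have same : ∀ y ∈ H, orderOf y = r → zpowers y = zpowers k := fun y hy oy => le_antisymm
    ((cardSg_cyclic hc (zpowers_le.2 hy) (zpowers_le.2 hk)).1 (by rw [card_cycle, card_cycle, oy, ok]))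
    ((cardSg_cyclic hc (zpowers_le.2 hk) (zpowers_le.2 hy)).1 (by rw [card_cycle, card_cycle, oy, ok]))
  obtain ⟨P, hP, kP⟩ := Tr.exists_sylowIn_ge (Tr.isPGroup_zpowers_of_orderOf_eq ok) (le_top (a := zpowers k))
  have el := Tr.isPGroup_iff_forall_mem.1 hP.isPGroup
  have Z1 : 𝐙(P) ≠ ⊥ := fun e => by
    have := zpowers_le.1 kP
    rw [(center_nil_eq1 hP.isPGroup.isNilpotent).1 e, mem_bot] at this
    rw [this, orderOf_one] at ok
    exact hr.one_lt.ne ok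
  obtain ⟨y, hy, oy⟩ := Cauchy hr (pgroup_pdiv (hP.isPGroup.to_le (inf_le_left : 𝐙(P) ≤ P)) Z1)
  have yH : y ∈ H := hX y (cent_le_cent1 (zpowers_le.1 kP) hy.2) 1 (by
    rw [pow_one, ← oy, pow_orderOf_eq_one])
  have PH : P ≤ H := fun a ha => by
    obtain ⟨n, hn⟩ := el a ha
    refine hX a ?_ n hn
    rw [← cent_cycle, ← same y yH oy, cent_cycle]
    exact cent1C.1 (cent_le_cent1 ha hy.2)
  refine ⟨fun w ow => ?_, fun R hR => ?_⟩
  · obtain ⟨g, -, hg⟩ := hP.exists_conj_mem (mem_top w) (k := 1) (by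
      rw [pow_one, ← ow, pow_orderOf_eq_one])
    have : g * w * g⁻¹ ∈ zpowers k :=
      same _ (PH hg) (by rw [← ow]; exact (MulAut.conj g).orderOf_eq w) ▸ mem_zpowers _
    obtain ⟨n, hn⟩ := (mem_powers_iff_mem_zpowers).2 this
    exact ⟨g⁻¹, n, by rw [show k ^ n = g * w * g⁻¹ from hn]; group⟩
  · obtain ⟨g, -, hg⟩ := hP.exists_cj_le hR le_top
    exact (cyclicJ g).1 (cyclicS (hg.trans PH) hc)

theorem ry_rb2 : RB2.{u} := by
  intro G _ _ S q t c s z L H L' V h f3 _ cv cN k0 hk0 k1 g hg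
  by_contra gV
  obtain ⟨r, hr, d⟩ := Nat.exists_prime_and_dvd (fun e => k1 (orderOf_eq_one_iff.1 e))
  obtain ⟨k, kz, ok⟩ := Cauchy (H := zpowers k0) hr (by rwa [card_cycle])
  have hk : k ∈ H := zpowers_le.2 hk0 kz
  have k1' : k ≠ 1 := fun e => by rw [e, orderOf_one] at ok; exact hr.one_lt.ne ok
  have rH : r ∣ #|H| := ok ▸ order_dvdG hk
  have r2 : r ≠ 2 := fun e => Nat.not_even_iff_odd.2 h.tau.1 (even_iff_two_dvd.2 (e ▸ rH))
  have r3 : r ≠ 3 := fun e => h.tau.2.1 (e ▸ rH)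
  have r5 : 5 ≤ r := hr.five_le_of_ne_two_of_ne_three r2 r3
  obtain ⟨n9, h6, z2, x, L2, l2, xL, x3, x1, kx, iz⟩ := h.c1_first f3 hk k1' (cv k hk k1') (cN k hk k1')
    (cent_le_cent1 kz (cent_cycle k0 ▸ hg)) gV
  obtain ⟨h1, h2⟩ := ry_cyc h.lh.cyc hk hr ok fun y hy n e =>
    mem_of_pow_cop (h6 y hy) (e ▸ one_mem _) (Nat.Coprime.pow_right n (Nat.Coprime.mul_left (m := 2) (n := 3)
      ((Nat.coprime_primes Nat.prime_two hr).2 r2.symm) ((Nat.coprime_primes Nat.prime_three hr).2 r3.symm)))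
  exact n9 (h.toS83.no_fix l2 xL x3 x1 kx iz hr r5 ok h1 h2)

theorem ry_r8 : R8Stmt.{u} := r8_of83 r80 lf ih (end83_of ra rb1 rf3 rse ry_rb2)

end Cfsg.Agent.NR
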