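import Cfsg.Agent.Lib.NR.Basic
import Cfsg.Agent.Lib.GW.Ch2
import Cfsg.Agent.Lib.GW.BSW2
import Cfsg.Agent.Lib.ZStar.BS

/-! Generalized characters supported on the 2-section of an involution. -/

set_option autoImplicit false
set_option linter.unusedSectionVars false

namespace Cfsg.Agent.NR

open Subgroup Finset FT SF.GP Cfsg.Agent.Char GW
open scoped ComplexConjugate Classical

variable {G : Type*} [Group G]

/-- `Y⟨z⟩` for an involution `z` centralizing `Y` -/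
def dbl (Y : Subgroup G) (z : G) (zz : z * z = 1) (hz : ∀ y ∈ Y, z * y = y * z) : Subgroup G where
  carrier := {g | g ∈ Y ∨ z * g ∈ Y}
  one_mem' := Or.inl (one_mem _)
  mul_mem' := by
    rintro a b (ha | ha) (hb | hb)
    · exact Or.inl (mul_mem ha hb)
    · exact Or.inr (by rw [← mul_assoc, hz a ha, mul_assoc]; exact mul_mem ha hb)
    · exact Or.inr (by rw [← mul_assoc]; exact mul_mem ha hb)
    · refine Or.inl ?_
      have h1 := hz _ ha
      have : a * b = (z * a) * (z * b) := by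
        rw [← mul_assoc, ← h1, ← mul_assoc z z, zz, one_mul]
      rw [this]; exact mul_mem ha hb
  inv_mem' := by
    rintro a (ha | ha)
    · exact Or.inl (inv_mem ha)
    · refine Or.inr ?_
      have h1 := hz _ (inv_mem ha)
      have zi : z⁻¹ = z := inv_eq_of_mul_eq_one_right zz
      rw [mul_inv_rev, zi, mul_assoc, zz, mul_one] at h1
      have : z * a⁻¹ = (z * a)⁻¹ := by
        rw [mul_inv_rev, zi]
        calc z * a⁻¹ = z * (z * (a⁻¹ * z)) := by rw [h1]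
          _ = _ := by rw [← mul_assoc, zz, one_mul]
      rw [this]; exact inv_mem ha

section
variable {Y : Subgroup G} {z : G} {zz : z * z = 1} {hz : ∀ y ∈ Y, z * y = y * z}

theorem mem_dbl {g : G} : g ∈ dbl Y z zz hz ↔ g ∈ Y ∨ z * g ∈ Y := Iff.rfl
theorem le_dbl : Y ≤ dbl Y z zz hz := fun _ h => Or.inl h
theorem self_dbl : z ∈ dbl Y z zz hz := Or.inr (by rw [zz]; exact one_mem _)
theorem not_both (h : z ∉ Y) {g : G} (h1 : g ∈ Y) (h2 : z * g ∈ Y) : False :=
  h ((mul_mem_cancel_right h1).1 h2)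

theorem rel_dbl (h : z ∉ Y) : Y.relIndex (dbl Y z zz hz) = 2 := by
  refine index_eq_two_iff'.2 ⟨⟨z, self_dbl⟩, fun b => ?_⟩
  simp only [mem_subgroupOf, Subgroup.coe_mul]
  rcases b.2 with h1 | h1
  · exact Or.inr ⟨h1, fun h2 => not_both h h1 h2⟩
  · exact Or.inl ⟨h1, fun h2 => not_both h h2 h1⟩

theorem card_dbl [Finite G] (h : z ∉ Y) : #|dbl Y z zz hz| = 2 * #|Y| := by
  rw [← Solv.card_mul_relIndex (le_dbl : Y ≤ dbl Y z zz hz), rel_dbl h, mul_comm]

theorem comm_dbl {x : G} (h1 : x * z = z * x) (h2 : ∀ y ∈ Y, x * y = y * x) :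
    ∀ y ∈ dbl Y z zz hz, x * y = y * x := by
  rintro y (hy | hy)
  · exact h2 y hy
  · have := h2 _ hy
    rw [← mul_assoc, h1, mul_assoc, mul_assoc] at this
    exact mul_left_cancel this

theorem ab_dbl (h : ∀ a ∈ Y, ∀ b ∈ Y, a * b = b * a) :
    ∀ a ∈ dbl Y z zz hz, ∀ b ∈ dbl Y z zz hz, a * b = b * a := fun a ha b hb =>
  comm_dbl (comm_dbl rfl hz a ha).symm (fun y hy => (comm_dbl (hz y hy).symm (h y hy) a ha).symm) b hb

variable [Fintype G]

theorem sm_dbl (h : z ∉ Y) (f : G → ℂ) : sm (dbl Y z zz hz) f = sm Y f + sm Y fun y => f (z * y) := by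
  rw [← SS_coset zz]
  exact SS_split (p := (· ∈ dbl Y z zz hz)) (fun _ => mem_dbl) fun x h1 h2 => not_both h h1 h2

end

variable [Fintype G]

/-- the average of `θ` on `tY` over the conjugates -/
noncomputable def sec (t : G) (Y : Subgroup G) (θ : G → ℂ) (g : G) : ℂ :=
  ∑ x : G, if t * (x * g * x⁻¹) ∈ Y then θ (x * g * x⁻¹) else 0

variable {t : G} {Y : Subgroup G} {θ : G → ℂ}

theorem sec_gen {tt : t * t = 1} {ht : ∀ y ∈ Y, t * y = y * t} (h : t ∉ Y)
    (hθ : GC (dbl Y t tt ht) θ) : IsGeneralizedCharacter G fun g => (#|Y| : ℂ)⁻¹ * sec t Y θ g := by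
  have h1 := Ind.isGen_indFun _ ((gc_one.sub (ir_sg (rel_dbl (zz := tt) (hz := ht) h)).gc).mul hθ)
  convert h1 using 2 with g
  rw [Ind.indFun_apply', card_dbl h, sec, Nat.cast_mul, mul_inv, mul_comm _ (#|Y| : ℂ)⁻¹, mul_assoc]
  congr 1
  rw [mul_sum]
  refine sum_congr rfl fun x _ => ?_
  rw [Ind.ebz_apply]
  by_cases h2 : t * (x * g * x⁻¹) ∈ Y
  · have h3 : x * g * x⁻¹ ∉ Y := fun h3 => not_both h h3 h2
    rw [if_pos h2, dif_pos (mem_dbl.2 (Or.inr h2))]
    simp only [sg, if_neg h3]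
    ring
  · rw [if_neg h2]
    split_ifs with h3
    · simp [sg, h3.resolve_right h2]
    · simp

theorem sec_sum (tt : t * t = 1) {χ : G → ℂ} (hχ : IsClassFunction G χ) :
    ∑ g, sec t Y θ g * χ g = Nat.card G * sm Y fun y => θ (t * y) * χ (t * y) := by
  simp only [sec, sum_mul]
  rw [sum_comm, ← SS_coset (f := fun g => θ g * χ g) tt, Nat.card_eq_fintype_card, ← nsmul_eq_mul,
    ← card_univ, ← sum_const]
  refine sum_congr rfl fun x _ => ?_
  rw [SS, sum_filter]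
  refine Fintype.sum_equiv (MulAut.conj x).toEquiv _ _ fun g => ?_
  simp only [MulEquiv.toEquiv_eq_coe, EquivLike.coe_coe, MulAut.conj_apply, hχ g x]
  split_ifs <;> simp

theorem sec_cls : IsClassFunction G (sec t Y θ) := fun g h =>
  Fintype.sum_equiv (Equiv.mulRight h) _ _ fun x => by simp [mul_assoc]

theorem sec_inner (tt : t * t = 1) {χ : G → ℂ} (hχ : IsClassFunction G χ) :
    classInner (sec t Y θ) χ = sm Y fun y => θ (t * y) * conj (χ (t * y)) := by
  rw [classInner, sec_sum tt (Ind.cf_star hχ), inv_mul_cancel_left₀ (card_ne_zero_complex G)]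

theorem sec_one (h : t ∉ Y) : sec t Y θ 1 = 0 := sum_eq_zero fun x _ => by simp [h]

theorem sum_conj_eq (X : Subgroup G) {a x₀ : G} (hx : x₀ ∈ X) (c : ℂ) :
    ∑ x : G, (if x ∈ X ∧ x * a * x⁻¹ = x₀ * a * x₀⁻¹ then c else 0) = #|X ⊓ 𝐂[a]| * c := by
  rw [← sm_const, sm, sum_filter]
  refine (Fintype.sum_equiv (Equiv.mulLeft x₀) _ _ fun x => ?_).symm
  simp only [Equiv.coe_mulLeft, mul_mem_cancel_left hx, Subgroup.mem_inf, cent1_conj]
  refine if_congr (and_congr_right fun _ => ⟨fun e => ?_, fun e => ?_⟩) rfl rfl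
  · conv_rhs => rw [← e]
    group
  · have : x₀ * (x * a * x⁻¹) * x₀⁻¹ = x₀ * a * x₀⁻¹ := by rw [← e]; group
    simpa using this

theorem exists_lin {X : Subgroup G} (h : ∀ a ∈ X, ∀ b ∈ X, a * b = b * a) {x : G} (hx : x ∈ X)
    (h1 : x * x ≠ 1) : ∃ f : G → ℂ, f 1 = 1 ∧ (∀ a ∈ X, ∀ b ∈ X, f (a * b) = f a * f b) ∧
      f x ≠ 1 ∧ ∀ v ∈ X, v * v = 1 → f v = 1 := by
  obtain ⟨φ, hφ⟩ := ZStar.exists_hom_ne_one (A := X) (fun a b => Subtype.ext (h a a.2 b b.2))
    (a := ⟨x * x, mul_mem hx hx⟩) fun e => h1 (congrArg Subtype.val e)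
  refine ⟨fun g => if hg : g ∈ X then (φ ⟨g, hg⟩ * φ ⟨g, hg⟩ : ℂˣ) else 0, ?_, ?_, ?_, ?_⟩
  · simp only [dif_pos (one_mem X)]
    rw [show (⟨1, one_mem X⟩ : X) = 1 from rfl]; simp
  · intro a ha b hb
    simp only [dif_pos ha, dif_pos hb, dif_pos (mul_mem ha hb)]
    rw [show (⟨a * b, mul_mem ha hb⟩ : X) = ⟨a, ha⟩ * ⟨b, hb⟩ from rfl, map_mul]
    push_cast; ring
  · simp only [dif_pos hx, ← map_mul]
    exact fun e => hφ (Units.ext e)
  · intro v hv e
    simp only [dif_pos hv, ← map_mul]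
    rw [show (⟨v, hv⟩ * ⟨v, hv⟩ : X) = 1 from Subtype.ext e]; simp

theorem sm_lin {X : Subgroup G} {f : G → ℂ} (h : ∀ a ∈ X, ∀ b ∈ X, f (a * b) = f a * f b) {x : G}
    (hx : x ∈ X) (h1 : f x ≠ 1) : sm X f = 0 := by
  have h2 := sm_mul_left (f := f) hx
  rw [sm_congr (g := fun y => f x * f y) fun y hy => h x hx y hy, sm_mul] at h2
  by_contra h3
  exact h1 (mul_right_cancel₀ h3 (by rw [h2, one_mul]))

theorem sm_erase {X : Subgroup G} (f : G → ℂ) :
    sm X f = f 1 + SS (fun g => g ∈ X ∧ g ≠ 1) f := by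
  rw [show f 1 = SS (· = 1) f by simp [SS, sum_filter]]
  exact SS_split (p := (· ∈ X)) (fun x => by
    by_cases e : x = 1 <;> simp [e]) fun x e h => h.2 e

theorem SS_const {X : Subgroup G} (c : ℂ) : SS (fun g => g ∈ X ∧ g ≠ 1) (fun _ => c) = (#|X| - 1) * c := by
  have := sm_erase (X := X) fun _ => c
  rw [sm_const] at this
  linear_combination -this

theorem si_bound {ξ η : G → ℂ} (hξ : SI ξ) (hη : SI η) (h0 : classInner ξ η = 0) (g : G) {a b : ℤ}
    (ha : ξ g = a) (hb : η g = b) : a ^ 2 + b ^ 2 ≤ #|𝐂[g]| := by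
  have key : ∀ χ ψ : G → ℂ, IsIrrCharacter G χ → IsIrrCharacter G ψ → classInner χ ψ = 0 →
      ∀ a b : ℤ, χ g = a → ψ g = b → a ^ 2 + b ^ 2 ≤ #|𝐂[g]| := by
    intro χ ψ hχ hψ h0 a b ha hb
    have ne : (⟨χ, hχ⟩ : IrrCharacter G) ≠ ⟨ψ, hψ⟩ := fun e => by
      rw [show χ = ψ from congrArg Subtype.val e, inner_self_of_isIrr hψ] at h0
      exact one_ne_zero h0
    have h1 := sum_irr_mul_conj_of_isConj (IsConj.refl g)
    simp only [Complex.mul_conj] at h1
    have h2 : ∑ χ : IrrCharacter G, Complex.normSq ((χ : G → ℂ) g) = #|𝐂[g]| := by exact_mod_cast h1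
    have h3 := sum_le_sum_of_subset_of_nonneg (f := fun χ : IrrCharacter G => Complex.normSq ((χ : G → ℂ) g))
      (subset_univ {⟨χ, hχ⟩, ⟨ψ, hψ⟩}) fun _ _ _ => Complex.normSq_nonneg _
    rw [sum_pair ne, h2] at h3
    simp only [ha, hb, Complex.normSq_intCast] at h3
    exact_mod_cast (by simpa [sq] using h3 : ((a : ℝ) ^ 2 + b ^ 2 ≤ #|𝐂[g]|))
  rcases hξ with h | h <;> rcases hη with h' | h'
  · exact key _ _ h h' h0 a b ha hb
  · simpa using key _ _ h h' (by rw [Char.inner_neg_right, h0, neg_zero]) a (-b) ha (by simp [hb])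
  · simpa using key _ _ h h' (by rw [Char.inner_neg_left, h0, neg_zero]) (-a) b (by simp [ha]) hb
  · simpa using key _ _ h h' (by rw [Char.inner_neg_left, Char.inner_neg_right, h0]; simp) (-a) (-b)
      (by simp [ha]) (by simp [hb])

end Cfsg.Agent.NR
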