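import Cfsg.Agent.Lib.NR.R84a

/-! The character theoretic contradiction for a Sylow 2-subgroup of order 8. -/

set_option autoImplicit false
set_option linter.unusedSectionVars false

namespace Cfsg.Agent.NR

open Subgroup Finset FT SF.GP Cfsg.Agent.Char GW
open scoped ComplexConjugate Classical

variable {G : Type*} [Group G] [Fintype G]

structure D84 (t c s g₀ : G) (Q H Y A N : Subgroup G) (q τ f : ℕ) : Prop where
  nr : NoReal G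
  tt : t * t = 1
  t1 : t ≠ 1
  one : ∀ u, u * u = 1 → u ≠ 1 → IsConj t u
  cc : c * c = 1
  c1 : c ≠ 1
  ct : c ≠ t
  tc : t * c = c * t
  ss : s * s = 1
  st : s * t = t * s
  sc : s * c = c * s
  Qt : ∀ x ∈ Q, t * x = x * t
  Qab : ∀ a ∈ Q, ∀ b ∈ Q, a * b = b * a
  Q3 : ∀ x ∈ Q, x ^ 3 = 1
  cardQ : #|Q| = q
  Qti : ∀ x ∈ Q, x ≠ 1 → ∀ g ∈ 𝐂[t], g * x * g⁻¹ ∈ Q → g ∈ 𝐍(Q)
  Qtr : ∀ a ∈ Q, a ≠ 1 → ∀ b ∈ Q, b ≠ 1 → ∃ g ∈ 𝐂[t] ⊓ 𝐍(Q), g * a * g⁻¹ = b ∨ g * a * g⁻¹ = b⁻¹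
  cardN1 : #|𝐂[t] ⊓ 𝐍(Q)| * (q + 1) = #|𝐂[t]|
  cardC : #|𝐂[t]| = f * (q * (q ^ 2 - 1))
  cop : q.Coprime 𝐂[t].index
  Ht : ∀ h ∈ H, t * h = h * t
  Hc : ∀ h ∈ H, c * h = h * c
  Hab : ∀ a ∈ H, ∀ b ∈ H, a * b = b * a
  H6 : ∀ h ∈ H, h ^ 6 = 1 → h = 1
  cardH : #|H| = τ
  hτ : 4 * τ = q + 1
  τ1 : 1 < τ
  sH : ∀ h ∈ H, s * h * s⁻¹ = h⁻¹
  hY : ∀ g, g ∈ Y ↔ g ∈ H ∨ c * g ∈ H
  hA : ∀ g, g ∈ A ↔ g ∈ Y ∨ t * g ∈ Y
  n1 : ∀ v, v = t ∨ v = t * c → ∀ h ∈ H, h ≠ 1 → ∀ g, g * (v * h) * g⁻¹ ∈ A → g ∈ N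
  n2 : N ≤ 𝐍(H)
  n2' : N ≤ 𝐍(A)
  n3 : ∀ g ∈ N, ∀ h ∈ H, h ≠ 1 → g * h * g⁻¹ = h → g ∈ A
  n4 : #|N ⊓ 𝐂[t]| = 8 * τ * f
  g0 : g₀ ∈ N
  n5 : g₀ * t * g₀⁻¹ = t * c
  AN : A ≤ N
  sN : s ∈ N
  nbt : nb t t + q = q ^ 2

theorem cnt (X : Subgroup G) {t a b : G} (ha : a ∈ X) (hb : b ∈ X) (k : ℂ) :
    ∑ x : G, (if x ∈ X ∧ x * (a * t * a⁻¹) * x⁻¹ = b * t * b⁻¹ then k else 0) = #|X ⊓ 𝐂[t]| * k := by
  rw [← sum_conj_eq X hb]
  refine Fintype.sum_equiv (Equiv.mulRight a) _ _ fun x => ?_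
  simp [mul_mem_cancel_right ha, mul_assoc]

namespace D84

variable {t c s g₀ : G} {Q H Y A N : Subgroup G} {q τ f : ℕ} (h : D84 t c s g₀ Q H Y A N q τ f)
include h

theorem H2 {x : G} (hx : x ∈ H) (e : x * x = 1) : x = 1 :=
  h.H6 x hx (by rw [show 6 = 2 * 3 from rfl, pow_mul, sq, e, one_pow])
theorem Q2 {x : G} (hx : x ∈ Q) (e : x * x = 1) : x = 1 := by
  have := h.Q3 x hx
  rwa [pow_succ, sq, e, one_mul] at this
theorem tQ : t ∉ Q := fun e => h.t1 (h.Q2 e h.tt)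
theorem cH : c ∉ H := fun e => h.c1 (h.H2 e h.cc)
theorem Yeq : Y = dbl H c h.cc h.Hc := ext h.hY
theorem HY : H ≤ Y := fun g hg => (h.hY g).2 (Or.inl hg)
theorem YA : Y ≤ A := fun g hg => (h.hA g).2 (Or.inl hg)
theorem cY : c ∈ Y := (h.hY c).2 (Or.inr (by rw [h.cc]; exact one_mem _))
theorem tA : t ∈ A := (h.hA t).2 (Or.inr (by rw [h.tt]; exact one_mem _))
theorem Yt : ∀ y ∈ Y, t * y = y * t := h.Yeq ▸ comm_dbl h.tc h.Ht
theorem Aeq : A = dbl Y t h.tt h.Yt := ext h.hA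
theorem Aab : ∀ a ∈ A, ∀ b ∈ A, a * b = b * a := by
  have h1 : ∀ a ∈ Y, ∀ b ∈ Y, a * b = b * a := h.Yeq ▸ ab_dbl h.Hab
  exact h.Aeq ▸ ab_dbl h1
theorem Y2 {y : G} (hy : y ∈ Y) (e : y * y = 1) : y = 1 ∨ y = c := by
  refine ((h.hY y).1 hy).imp (h.H2 · e) fun h1 => ?_
  have := h.H2 h1 (by
    rw [mul_assoc, ← mul_assoc y, h.Aab y (h.YA hy) c (h.YA h.cY), mul_assoc, e, mul_one, h.cc])
  rw [eq_inv_of_mul_eq_one_right this, inv_eq_of_mul_eq_one_right h.cc]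
theorem tY : t ∉ Y := fun e => (h.Y2 e h.tt).elim h.t1 fun e => h.ct e.symm
theorem cardY : #|Y| = 2 * τ := by rw [h.Yeq, card_dbl h.cH, h.cardH]
theorem cardA : #|A| = 4 * τ := by rw [h.Aeq, card_dbl h.tY, h.cardY]; ring
theorem exH : ∃ x ∈ H, x ≠ 1 := by
  by_contra! e
  have : H = ⊥ := eq_bot_iff.2 fun x hx => e x hx
  have h1 := h.τ1
  rw [← h.cardH, this, card_bot] at h1
  omega
theorem q3 : 3 < q := by have := h.hτ; have := h.τ1; omega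
theorem exQ : ∃ x ∈ Q, x ≠ 1 := by
  by_contra! e
  have : Q = ⊥ := eq_bot_iff.2 fun x hx => e x hx
  have h1 := h.q3
  rw [← h.cardQ, this, card_bot] at h1
  omega
theorem sA {a : G} (ha : a ∈ A) : s * a * s⁻¹ = a⁻¹ := by
  have k : ∀ z, z * z = 1 → s * z = z * s → ∀ a, z * a = a * z → s * (z * a) * s⁻¹ = (z * a)⁻¹ →
      s * a * s⁻¹ = a⁻¹ := fun z zz e a e' h1 => by
    rw [← mul_assoc, e, e', mul_inv_rev, inv_eq_of_mul_eq_one_right zz, mul_assoc, mul_assoc] at h1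
    rw [mul_assoc]
    exact mul_left_cancel h1
  have h1 : ∀ y ∈ Y, s * y * s⁻¹ = y⁻¹ := fun y hy => ((h.hY y).1 hy).elim (h.sH y) fun e =>
    k c h.cc h.sc y (h.Aab _ (h.YA h.cY) _ (h.YA hy)) (h.sH _ e)
  exact ((h.hA a).1 ha).elim (h1 a) fun e => k t h.tt h.st a (h.Aab _ h.tA _ ha) (h1 _ e)
theorem sA' : s ∉ A := fun e => by
  obtain ⟨x, hx, x1⟩ := h.exH
  have := h.sH x hx
  rw [h.Aab s e x (h.YA (h.HY hx)), mul_inv_cancel_right] at this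
  exact x1 (h.H2 hx (mul_eq_one_iff_eq_inv.2 this))
theorem mem_cl' {u : G} : u ∈ cl t ↔ u * u = 1 ∧ u ≠ 1 :=
  mem_cl.trans ⟨fun e => by
    obtain ⟨g, rfl⟩ := isConj_iff.1 e
    exact ⟨Tr.conj_mul_self h.tt g, by simpa using h.t1⟩, fun h1 => h.one u h1.1 h1.2⟩
theorem inverts {u g : G} (hu : u ∈ (cl t).filter fun u => u⁻¹ * g ∈ cl t) :
    u * g * u⁻¹ = g⁻¹ := by
  rw [mem_filter, h.mem_cl', h.mem_cl'] at hu
  refine eq_inv_of_mul_eq_one_left ?_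
  have h1 := hu.2.1
  rw [inv_eq_of_mul_eq_one_right hu.1.1] at h1 ⊢
  rw [← h1, mul_assoc (u * g)]
theorem vA {v : G} (hv : v = t ∨ v = t * c) : v ∈ A ∧ v * v = 1 ∧ ∃ a ∈ N, v = a * t * a⁻¹ := by
  rcases hv with rfl | rfl
  · exact ⟨h.tA, h.tt, 1, one_mem _, by simp⟩
  · refine ⟨mul_mem h.tA (h.YA h.cY), ?_, g₀, h.g0, h.n5.symm⟩
    rw [← h.n5]; exact Tr.conj_mul_self h.tt _

theorem nbQ {x : G} (hx : x ∈ Q) (x1 : x ≠ 1) : nb t (t * x) = 0 := by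
  rw [nb, card_eq_zero, eq_empty_iff_forall_notMem]
  intro u hu
  have e : (t * x) ^ 4 = x := by
    rw [(show Commute t x from h.Qt x hx).mul_pow, show 4 = 2 * 2 from rfl, pow_mul, sq t, h.tt,
      one_pow, one_mul, show 2 * 2 = 3 + 1 from rfl, pow_succ, h.Q3 x hx, one_mul]
  refine x1 (h.nr.eq_one (n := u) 1 (by rw [pow_one, h.Q3 x hx]) ?_)
  rw [← e, ← conj_pow, h.inverts hu, inv_pow]

theorem nbH {v x : G} (hv : v = t ∨ v = t * c) (hx : x ∈ H) (x1 : x ≠ 1) : nb t (v * x) = q + 1 := by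
  obtain ⟨vA, vv, -⟩ := h.vA hv
  have xA := h.YA (h.HY hx)
  have wA := mul_mem vA xA
  have h2 := sum_ite_mem A s (1 : ℕ)
  rw [smul_eq_mul, mul_one, ← card_filter, h.cardA, h.hτ] at h2
  have si : s⁻¹ = s := inv_eq_of_mul_eq_one_right h.ss
  have out : ∀ u, s * u ∈ A → u * u = 1 ∧ u ≠ 1 := fun u hu => ⟨by
    have := h.sA hu
    rw [si, mul_inv_rev, si, ← mul_assoc, h.ss, one_mul] at this
    exact mul_eq_one_iff_eq_inv.2 (mul_right_cancel this), by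
      rintro rfl; exact h.sA' (by simpa using hu)⟩
  rw [← h2, nb]
  congr 1
  ext u
  constructor
  · intro hu
    have h5 := h.inverts hu
    have e : (v * x) ^ 2 = x * x := by
      rw [(show Commute v x from h.Aab v vA x xA).mul_pow, sq, vv, one_mul, sq]
    refine mem_filter.2 ⟨mem_univ _, h.n3 _ (mul_mem h.sN (h.n1 v hv x hx x1 u (h5 ▸ inv_mem wA)))
      (x * x) (mul_mem hx hx) (fun e' => x1 (h.H2 hx e')) ?_⟩
    rw [show s * u * (x * x) * (s * u)⁻¹ = s * (u * (x * x) * u⁻¹) * s⁻¹ by group, ← e, ← conj_pow,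
      h5, inv_pow, h.sA (inv_mem (pow_mem wA 2)), inv_inv]
  · intro hu
    have h3 := (mem_filter.1 hu).2
    rw [mem_filter, h.mem_cl', h.mem_cl', inv_eq_of_mul_eq_one_right (out u h3).1]
    exact ⟨out u h3, out _ (by rw [← mul_assoc]; exact mul_mem h3 wA)⟩

theorem f_le : 2 * f ≤ τ := by
  obtain ⟨x, hx, x1⟩ := h.exH
  have h1 : (clX (N ⊓ 𝐂[t]) x).card ≤ τ := by
    rw [← h.cardH, ← card_filter_mem]
    refine card_le_card fun u hu => mem_filter.2 ⟨mem_univ _, ?_⟩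
    obtain ⟨g, hg, rfl⟩ := mem_clX.1 hu
    exact (memJ_norm (h.n2 hg.1)).2 hx
  have h2 := Solv.card_mul_relIndex (inf_le_left : (N ⊓ 𝐂[t]) ⊓ 𝐂[x] ≤ N ⊓ 𝐂[t])
  have h3 : #|(N ⊓ 𝐂[t]) ⊓ 𝐂[x]| ≤ 4 * τ := h.cardA ▸ card_le_of_le fun g hg =>
    h.n3 g hg.1.1 x hx x1 (cent1_conj.1 hg.2)
  rw [inf_relIndex_left, ← card_clX, h.n4] at h2
  have h4 := Nat.mul_le_mul h3 h1
  have := h.τ1
  rw [h2] at h4
  nlinarith

theorem secQ_t {Λ : G → ℂ} : sec t Q Λ t = #|𝐂[t]| * Λ t := by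
  have := cnt ⊤ (t := t) (one_mem _) (one_mem _) (Λ t)
  simp only [one_mul, inv_one, mul_one, mem_top, true_and, top_inf_eq] at this
  rw [← this]
  refine sum_congr rfl fun g _ => ?_
  by_cases e : g * t * g⁻¹ = t
  · simp [e, h.tt]
  · rw [if_neg e, if_neg]
    intro hy
    have h1 := h.Qt _ hy
    have h2 := h.Q2 hy (by
      rw [← mul_assoc, ← h1, ← mul_assoc t t, h.tt, one_mul, Tr.conj_mul_self h.tt])
    exact e (by rw [eq_inv_of_mul_eq_one_right h2, inv_eq_of_mul_eq_one_right h.tt])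

theorem secQ_H {Λ : G → ℂ} {v x : G} (hv : v = t ∨ v = t * c) (hx : x ∈ H) (x1 : x ≠ 1) :
    sec t Q Λ (v * x) = 0 := sum_eq_zero fun g _ => if_neg fun hy => by
  obtain ⟨vA, vv, -⟩ := h.vA hv
  have e : g * (v * x) * g⁻¹ = t * (t * (g * (v * x) * g⁻¹)) := by rw [← mul_assoc t t, h.tt, one_mul]
  have e6 : ∀ z : G, z * z = 1 → z ^ 6 = 1 := fun z e => by
    rw [show 6 = 2 * 3 from rfl, pow_mul, sq, e, one_pow]
  have h1 : (g * (v * x) * g⁻¹) ^ 6 = 1 := by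
    rw [e, (show Commute t _ from h.Qt _ hy).mul_pow, e6 t h.tt, show 6 = 3 * 2 from rfl, pow_mul,
      h.Q3 _ hy, one_pow, one_mul]
  rw [conj_pow, conj_eq_one_iff, (show Commute v x from h.Aab v vA x (h.YA (h.HY hx))).mul_pow,
    e6 v vv, one_mul] at h1
  exact x1 (h.H6 x hx h1)

theorem secQ_Q {Λ : G → ℂ} (h1 : ∀ x ∈ Q, Λ (t * x) = Λ x) (h2 : ∀ x ∈ Q, Λ x⁻¹ = Λ x)
    (h3 : SS (fun g => g ∈ Q ∧ g ≠ 1) Λ = -2) {x : G} (hx : x ∈ Q) (x1 : x ≠ 1) :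
    sec t Q Λ (t * x) = -2 * f * q := by
  have k3 : ∀ y ∈ Q, (t * y) ^ 3 = t := fun y hy => by
    rw [(show Commute t y from h.Qt y hy).mul_pow, h.Q3 y hy, mul_one, pow_succ, sq, h.tt, one_mul]
  have e1 : sec t Q Λ (t * x) = sm (𝐂[t] ⊓ 𝐍(Q)) fun g => Λ (g * x * g⁻¹) := by
    rw [sm, sum_filter]
    refine sum_congr rfl fun g _ => ?_
    have k : g ∈ 𝐂[t] → g * (t * x) * g⁻¹ = t * (g * x * g⁻¹) := fun hg => by
      conv_rhs => rw [← cent1_conj.1 hg]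
      group
    by_cases hg : g ∈ 𝐂[t] ⊓ 𝐍(Q)
    · have := (memJ_norm hg.2).2 hx
      rw [if_pos hg, k hg.1, ← mul_assoc t t, h.tt, one_mul, if_pos this, h1 _ this]
    · rw [if_neg hg, if_neg]
      intro hy
      have h4 := k3 _ hy
      rw [← mul_assoc t t, h.tt, one_mul, conj_pow, k3 x hx] at h4
      have h5 := cent1_conj.2 h4
      rw [k h5, ← mul_assoc t t, h.tt, one_mul] at hy
      exact hg ⟨h5, h.Qti x hx x1 g h5 hy⟩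
  have e2 : ∀ y ∈ Q, y ≠ 1 → (sm (𝐂[t] ⊓ 𝐍(Q)) fun g => Λ (g * y * g⁻¹)) =
      sm (𝐂[t] ⊓ 𝐍(Q)) fun g => Λ (g * x * g⁻¹) := fun y hy y1 => by
    obtain ⟨n, hn, e⟩ := h.Qtr x hx x1 y hy y1
    rw [← sm_mul_right (f := fun g => Λ (g * x * g⁻¹)) hn]
    refine sm_congr fun g hg => ?_
    rw [show g * n * x * (g * n)⁻¹ = g * (n * x * n⁻¹) * g⁻¹ by group]
    rcases e with e | e
    · rw [e]
    · rw [e, ← conj_inv, h2 _ ((memJ_norm hg.2).2 hy)]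
  have e3 : SS (fun y => y ∈ Q ∧ y ≠ 1) (fun y => sm (𝐂[t] ⊓ 𝐍(Q)) fun g => Λ (g * y * g⁻¹)) =
      #|𝐂[t] ⊓ 𝐍(Q)| * -2 := by
    rw [← sm_const]
    simp only [SS, sm]
    rw [sum_comm]
    refine sum_congr rfl fun g hg => ?_
    have hg' := (mem_filter.1 hg).2.2
    rw [← h3]
    exact sum_bijective (MulAut.conj g) (MulAut.conj g).bijective (by simp [memJ_norm hg'])
      (by simp)
  rw [SS_congr (q := fun y => y ∈ Q ∧ y ≠ 1) (fun _ => Iff.rfl) (fun y hy => e2 y hy.1 hy.2),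
    SS_const, ← e1, h.cardQ] at e3
  have e4 := h.cardN1
  have q3 := h.q3
  rw [h.cardC] at e4
  have e5 : ((#|𝐂[t] ⊓ 𝐍(Q)| : ℂ)) * (q + 1) = f * (q * (q ^ 2 - 1)) := by
    have := congrArg (Nat.cast : ℕ → ℂ) e4
    push_cast [Nat.cast_sub (Nat.one_le_pow 2 q (by omega))] at this
    exact this
  have n1 : (q : ℂ) - 1 ≠ 0 := by
    rw [sub_ne_zero]; exact_mod_cast (by omega : q ≠ 1)
  have n2 : (q : ℂ) + 1 ≠ 0 := by exact_mod_cast (by omega : q + 1 ≠ 0)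
  refine mul_left_cancel₀ (mul_ne_zero n1 n2) ?_
  linear_combination (q + 1) * e3 - 2 * e5

end D84

end Cfsg.Agent.NR
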