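import Cfsg.Agent.Lib.NR.Psl2
import Cfsg.Agent.Lib.Fit.Fitting
import Cfsg.Agent.Lib.Transfer.ZCor

/-!
# Groups without real elements of order three: reduction to simple groups
-/

set_option autoImplicit false

namespace Cfsg.Agent.NR

open Subgroup Solv Matrix
open scoped MatrixGroups Pointwise commutatorElement

universe u

/-- The group is `PSL₂(3^(2f+1))` with `f ≥ 1`. -/
def IsL2 (G : Type*) [Group G] : Prop :=
  ∃ f, 1 ≤ f ∧ Nonempty (G ≃* PSL(2, GaloisField 3 (2 * f + 1)))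

/-- The group is a direct product of groups `PSL₂(3^(2f+1))` with `f ≥ 1`. -/
def IsProd (G : Type*) [Group G] : Prop :=
  ∃ (k : ℕ) (f : Fin k → ℕ), (∀ i, 1 ≤ f i) ∧
    Nonempty (G ≃* ((i : Fin k) → PSL(2, GaloisField 3 (2 * f i + 1))))

/-- The classification of the simple groups of order at most `n`. -/
def SimpleLe (n : ℕ) : Prop :=
  ∀ (G : Type u) [Group G] [Finite G] [IsSimpleGroup G], Nat.card G ≤ n → NoReal G →
    3 ∣ Nat.card G → ¬ IsMulCommutative G → IsL2 G

variable {G : Type*} [Group G] {F : Type*} [Field F]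

theorem comm_of_equiv {H : Type*} [Group H] (e : G ≃* H) (h : IsMulCommutative H) :
    IsMulCommutative G :=
  ⟨⟨fun x y => e.injective (by rw [map_mul, map_mul, h.1.1])⟩⟩

theorem isL2_of_equiv [Finite F] [IsSimpleGroup G] (e : G ≃* PSL(2, F)) (h : NoReal G)
    (hc : ¬ IsMulCommutative G) : IsL2 G := by
  have : IsSimpleGroup PSL(2, F) := e.symm.isSimpleGroup
  have hn := h.of_equiv e
  obtain ⟨h3, hs⟩ := char_of_noReal hn
  obtain ⟨f, hf, ⟨σ⟩⟩ := exists_galois h3 hs (exists_fourth hn fun h' => hc (comm_of_equiv e h'))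
  exact ⟨f, hf, ⟨e.trans (pslCongr σ)⟩⟩

/-- A minimal normal subgroup is simple. -/
theorem simple_of_minimal [Finite G] (h : NoReal G) (hg : Gen2 G) (hO : pPrimeCore 3 G = ⊥)
    {N : Subgroup G} [N.Normal] (h0 : N ≠ ⊥)
    (hm : ∀ K : Subgroup G, K.Normal → K ≤ N → K = ⊥ ∨ K = N) :
    IsSimpleGroup N ∧ 3 ∣ Nat.card N := by
  have : Nontrivial N := (nontrivial_iff_ne_bot N).2 h0
  have hON : pPrimeCore 3 N = ⊥ := by rw [Fit.pPrimeCore_eq_subgroupOf, hO, bot_subgroupOf]
  have hd : ∀ T : Subgroup N, T.Normal → T ≠ ⊥ → 3 ∣ Nat.card T := fun T hT hT0 => by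
    by_contra h3
    exact hT0 (Fit.eq_bot_of_pPrimeCore_eq_bot hON hT
      ((Nat.Prime.coprime_iff_not_dvd Nat.prime_three).2 h3).symm)
  refine ⟨⟨fun T hT => ?_⟩, by simpa using hd ⊤ inferInstance top_ne_bot⟩
  by_cases hT0 : T = ⊥
  · exact Or.inl hT0
  right
  set T' := T.map N.subtype with hT'
  have hTn : ∀ e ∈ N, ∀ x ∈ T', e * x * e⁻¹ ∈ T' := by
    rintro e he _ ⟨x, hx, rfl⟩
    exact ⟨_, hT.conj_mem x hx ⟨e, he⟩, rfl⟩
  obtain ⟨P, hP⟩ := exists_isSylowIn 3 N
  have hPT : IsSylowIn 3 (P ⊓ T') T' := hP.inf_of_normal (map_subtype_le T)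
    fun e he => mem_normalizer_fintype (hTn e he)
  have hle : P ⊓ T' ≤ T'.normalCore := fun x hx g => by
    obtain ⟨e, he, c, hc, rfl⟩ := frattini h hg hP g
    have := mem_centralizer_iff.1 hc x hx.1
    rw [show e * c * x * (e * c)⁻¹ = e * (c * x * c⁻¹) * e⁻¹ by group, ← this, mul_inv_cancel_right]
    exact hTn e he x hx.2
  rcases hm T'.normalCore inferInstance ((normalCore_le _).trans (map_subtype_le T)) with h1 | h1
  · exfalso
    refine hPT.not_dvd ?_
    rw [le_bot_iff.1 (hle.trans h1.le), relIndex_bot_left, hT', Fit.card_map_subtype]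
    exact hd T hT hT0
  · rw [eq_top_iff]
    intro x _
    obtain ⟨y, hy, h2⟩ := normalCore_le T' (h1.symm ▸ x.2 : x.1 ∈ T'.normalCore)
    rwa [← Subtype.ext h2]

/-- A normal `PSL₂(F)` is a direct factor. -/
theorem split [Finite G] [Finite F] (h : NoReal G) (hg : Gen2 G) (h3 : (3 : F) = 0)
    [IsSimpleGroup PSL(2, F)] (ι : PSL(2, F) →* G) (hι : Function.Injective ι) [hN : ι.range.Normal]
    (g : G) : ∃ t, ∃ c ∈ centralizer (ι.range : Set G), g = ι t * c := by
  set V := (U F).map ι with hV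
  have hP : IsSylowIn 3 V ι.range := ⟨map_le_range _ _, (isPGroup_U h3).map ι, by
    rw [hV, MonoidHom.range_eq_map, relIndex_map_map_of_injective _ _ hι, relIndex_top_right]
    exact not_dvd_index_U h3⟩
  have nrm : ∀ x, ι x ∈ normalizer (V : Set G) ↔ x ∈ normalizer (U F : Set PSL(2, F)) := fun x => by
    rw [← mem_comap, comap_normalizer_eq_of_le_range hP.le,
      comap_map_eq_self_of_injective hι]
  obtain ⟨_, ⟨e, rfl⟩, c, hc, rfl⟩ := frattini h hg hP g
  have hcN : c ∈ normalizer (V : Set G) := centralizer_le_normalizer _ hc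
  obtain ⟨t, ht⟩ := hN.conj_mem _ ⟨pr wS, rfl⟩ c
  rcases bruhat t with h1 | ⟨x, hx, b, hb, rfl⟩
  · exfalso
    refine w_not_mem ((nrm _).1 ?_)
    have := mul_mem (mul_mem (inv_mem hcN) ((nrm _).2 h1)) hcN
    rwa [ht, show c⁻¹ * (c * ι (pr wS) * c⁻¹) * c = ι (pr wS) by group] at this
  have hxV : ∀ y ∈ U F, ι y ∈ normalizer (V : Set G) := fun y hy => (nrm _).2 (le_normalizer hy)
  set d := (ι x)⁻¹ * c with hd
  have hdN : d ∈ normalizer (V : Set G) := mul_mem (inv_mem (hxV x hx)) hcN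
  have hdU : ∀ y ∈ U F, d * ι y * d⁻¹ = ι y := fun y hy => by
    have e1 := mem_centralizer_iff.1 hc _ (mem_map_of_mem ι hy)
    have e2 : ι x * ι y = ι y * ι x := by rw [← map_mul, U_comm hx hy, map_mul]
    calc d * ι y * d⁻¹ = (ι x)⁻¹ * (c * ι y * c⁻¹) * ι x := by rw [hd]; group
      _ = ι y := by rw [← e1, mul_inv_cancel_right, mul_assoc, ← e2, inv_mul_cancel_left]
  have hdw : d * ι (pr wS) * d⁻¹ = ι (pr wS) * (ι b * ι x) := by
    calc d * ι (pr wS) * d⁻¹ = (ι x)⁻¹ * (c * ι (pr wS) * c⁻¹) * ι x := by rw [hd]; group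
      _ = _ := by rw [← ht, map_mul, map_mul]; group
  have key : ∀ y, (ι y)⁻¹ * d * ι y ∈ normalizer (V : Set G) := fun y => by
    rcases bruhat y with h1 | ⟨x1, hx1, b1, hb1, rfl⟩
    · exact mul_mem (mul_mem (inv_mem ((nrm _).2 h1)) hdN) ((nrm _).2 h1)
    · have : (ι (x1 * pr wS * b1))⁻¹ * d * ι (x1 * pr wS * b1) =
          (ι b1)⁻¹ * (ι b * ι x) * d * ι b1 := by
        rw [map_mul, map_mul]
        calc (ι x1 * ι (pr wS) * ι b1)⁻¹ * d * (ι x1 * ι (pr wS) * ι b1)
            = (ι b1)⁻¹ * (ι (pr wS))⁻¹ * (ι x1)⁻¹ * (d * ι x1 * d⁻¹) * (d * ι (pr wS) * d⁻¹) * d *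
              ι b1 := by group
          _ = _ := by rw [hdU x1 hx1, hdw]; group
      rw [this]
      exact mul_mem (mul_mem (mul_mem (inv_mem ((nrm _).2 hb1))
        (mul_mem ((nrm _).2 hb) (hxV x hx))) hdN) ((nrm _).2 hb1)
  have hcore : (normalizer (U F : Set PSL(2, F))).normalCore = ⊥ :=
    (normalCore_normal _).eq_bot_or_eq_top.resolve_right fun h1 =>
      w_not_mem (normalCore_le _ (h1 ▸ mem_top _))
  refine ⟨e * x, d, ?_, by rw [map_mul, hd]; group⟩
  rw [mem_centralizer_iff]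
  rintro _ ⟨y, rfl⟩
  obtain ⟨z, hz⟩ := hN.conj_mem _ ⟨y, rfl⟩ d
  have h1 : z * y⁻¹ ∈ (normalizer (U F : Set PSL(2, F))).normalCore := fun a => by
    rw [← nrm]
    have : ι (a * (z * y⁻¹) * a⁻¹) =
        ((ι a⁻¹)⁻¹ * d * ι a⁻¹) * ((ι (a * y)⁻¹)⁻¹ * d * ι (a * y)⁻¹)⁻¹ := by
      simp only [map_mul, map_inv, hz]; group
    rw [this]
    exact mul_mem (key _) (inv_mem (key _))
  rw [hcore, mem_bot, mul_inv_eq_one] at h1
  rw [h1, eq_mul_inv_iff_mul_eq] at hz
  exact hz

/-- Prepending a factor to a product. -/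
def consEquiv {k : ℕ} (M : Fin (k + 1) → Type*) [∀ i, Group (M i)] :
    (M 0 × ((i : Fin k) → M i.succ)) ≃* ((i : Fin (k + 1)) → M i) where
  __ := Fin.consEquiv M
  map_mul' _ _ := by
    ext i
    exact Fin.cases rfl (fun _ => rfl) i

theorem exists_normal_L2 {G : Type u} [Group G] [Finite G] [Nontrivial G] (hS : SimpleLe.{u} (Nat.card G))
    (h : NoReal G) (hg : Gen2 G) (hO : pPrimeCore 3 G = ⊥) :
    ∃ T : Subgroup G, T.Normal ∧ IsSimpleGroup T ∧ ¬ IsMulCommutative T ∧ IsL2 T := by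
  set Z := pCore 3 G with hZ
  have hZp : IsPGroup 3 Z := Fit.isPGroup_pCore 3 G
  have hZc : Z ≤ center G := le_center h hg hZp
  have : Nontrivial (G ⧸ Z) := by
    rw [QuotientGroup.nontrivial_iff]
    intro h1
    refine bot_ne_top (hg.eq_top (M := ⊥) fun g k hk => ?_)
    obtain ⟨j, hj⟩ := hZp ⟨g, h1 ▸ mem_top g⟩
    have hj' : g ^ 3 ^ j = 1 := congrArg Subtype.val hj
    rw [mem_bot, ← orderOf_eq_one_iff]
    exact Nat.eq_one_of_dvd_coprimes (Nat.Coprime.pow k j (by norm_num))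
      (orderOf_dvd_of_pow_eq_one hk) (orderOf_dvd_of_pow_eq_one hj')
  have hq := QuotientGroup.mk'_surjective Z
  obtain ⟨M, hM, hM0, hm⟩ := Fit.exists_minimal_normal (G ⧸ Z)
  obtain ⟨hsim, hM3⟩ := simple_of_minimal (h.quotient Z) (hg.of_surjective _ hq)
    (Tr.pPrimeCore_quotient_central hO hZc hZp) hM0 hm
  have hMc : ¬ IsMulCommutative M := fun hc => by
    have hp : (Nat.card M).Prime := by
      open scoped IsMulCommutative in exact IsSimpleGroup.prime_card
    refine hM0 (Fit.eq_bot_of_pCore_eq_bot (Fit.pCore_quotient_pCore 3 G) hM ?_)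
    exact IsPGroup.of_card (n := 1)
      ((Nat.prime_dvd_prime_iff_eq Nat.prime_three hp).1 hM3).symm
  obtain ⟨f, hf, ⟨e⟩⟩ := hS M (((Nat.le_of_dvd Nat.card_pos (card_subgroup_dvd_card M))).trans
    (Nat.le_of_dvd Nat.card_pos (card_quotient_dvd_card Z))) ((h.quotient Z).subgroup M) hM3 hMc
  have hn := ((h.quotient Z).subgroup M).of_equiv e
  have hsp := e.symm.isSimpleGroup
  have hpc : ¬ IsMulCommutative PSL(2, GaloisField 3 (2 * f + 1)) := fun h' =>
    hMc (comm_of_equiv e h')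
  obtain ⟨h3, hs⟩ := galois_facts f
  set L := M.comap (QuotientGroup.mk' Z) with hL
  let π : L →* PSL(2, GaloisField 3 (2 * f + 1)) :=
    e.toMonoidHom.comp ((QuotientGroup.mk' Z).subgroupComap M)
  have hπ : Function.Surjective π :=
    e.surjective.comp (MonoidHom.subgroupComap_surjective_of_surjective _ _ hq)
  have hker : ∀ x ∈ π.ker, x.1 ∈ Z := fun x hx => by
    have h1 : (QuotientGroup.mk' Z).subgroupComap M x = 1 := e.injective (by rw [map_one]; exact hx)
    exact (QuotientGroup.eq_one_iff _).1 (congrArg Subtype.val h1)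
  have hk : π.ker ≤ center L := fun x hx => mem_center_iff.2 fun y =>
    Subtype.ext (mem_center_iff.1 (hZc (hker x hx)) y)
  have hp : IsPGroup 3 π.ker := fun x => by
    obtain ⟨j, hj⟩ := hZp ⟨_, hker x.1 x.2⟩
    exact ⟨j, Subtype.ext (Subtype.ext (congrArg Subtype.val hj :))⟩
  have hbij : Function.Bijective (π.comp (commutator L).subtype) := by
    refine ⟨(injective_iff_map_eq_one _).2 fun a ha => Subtype.ext
      (ker_inf_commutator h3 hs (exists_fourth hn hpc) π hπ hk hp ha a.2), ?_⟩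
    rw [← MonoidHom.range_eq_top, MonoidHom.range_comp, range_subtype, map_commutator_eq,
      MonoidHom.range_eq_top.2 hπ]
    refine (commutator_normal ⊤ ⊤).eq_bot_or_eq_top.resolve_left fun h1 => hpc ⟨⟨fun x y => ?_⟩⟩
    rw [← commutatorElement_eq_one_iff_mul_comm, ← mem_bot, ← h1]
    exact commutator_mem_commutator (mem_top x) (mem_top y)
  let e' := ((commutator L).equivMapOfInjective L.subtype L.subtype_injective).symm.trans
    (MulEquiv.ofBijective _ hbij)
  exact ⟨(commutator L).map L.subtype, inferInstance, e'.isSimpleGroup,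
    fun h' => hpc (comm_of_equiv e'.symm h'), f, hf, ⟨e'⟩⟩

theorem isProd_of_simpleLe (n : ℕ) : ∀ (G : Type u) [Group G] [Finite G], Nat.card G ≤ n →
    SimpleLe.{u} n → NoReal G → Gen2 G → pPrimeCore 3 G = ⊥ → IsProd G := by
  induction n with
  | zero => intro G _ _ hn; exact absurd hn (not_le.2 Nat.card_pos)
  | succ n ih =>
    intro G _ _ hn hS h hg hO
    rcases subsingleton_or_nontrivial G with h0 | h0
    · have := uniqueOfSubsingleton (1 : G)
      exact ⟨0, Fin.elim0, fun i => i.elim0, ⟨MulEquiv.ofUnique⟩⟩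
    obtain ⟨T, hT, hsim, hTc, f0, hf0, ⟨e⟩⟩ :=
      exists_normal_L2 (fun H _ _ _ hH => hS H (hH.trans hn)) h hg hO
    have hsp := e.symm.isSimpleGroup
    let ι := T.subtype.comp e.symm.toMonoidHom
    have hι : Function.Injective ι := T.subtype_injective.comp e.symm.injective
    have hr : ι.range = T := by
      rw [MonoidHom.range_comp, MonoidHom.range_eq_top.2 e.symm.surjective,
        ← MonoidHom.range_eq_map, range_subtype]
    have : ι.range.Normal := hr ▸ hT
    set C := centralizer (ι.range : Set G) with hC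
    have hcomm : ∀ m (c : C), Commute (ι m) (C.subtype c) := fun m c =>
      mem_centralizer_iff.1 c.2 _ ⟨m, rfl⟩
    have hcen : ∀ m, ι m ∈ C → m = 1 := fun m hm => by
      have h1 : m ∈ center _ := mem_center_iff.2 fun y => hι (by
        rw [map_mul, map_mul]; exact hcomm y ⟨_, hm⟩)
      rcases (normal_of_characteristic
        (center PSL(2, GaloisField 3 (2 * f0 + 1)))).eq_bot_or_eq_top with h2 | h2
      · exact mem_bot.1 (h2 ▸ h1)
      · exact absurd (comm_of_equiv e ⟨⟨fun x y => mem_center_iff.1 (h2 ▸ mem_top y) x⟩⟩) hTc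
    have hbij : Function.Bijective (ι.noncommCoprod C.subtype hcomm) := by
      refine ⟨(injective_iff_map_eq_one _).2 fun a ha => ?_, fun g => ?_⟩
      · have h1 : ι a.1 * a.2 = 1 := ha
        have h2 := hcen a.1 (by rw [mul_eq_one_iff_eq_inv.1 h1]; exact inv_mem a.2.2)
        rw [h2, map_one, one_mul] at h1
        exact Prod.ext h2 (Subtype.ext h1)
      · obtain ⟨t, c, hc, rfl⟩ := split h hg (galois_facts f0).1 ι hι g
        exact ⟨(t, ⟨c, hc⟩), rfl⟩
    let φ := MulEquiv.ofBijective _ hbij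
    have hCt : C ≠ ⊤ := fun h1 => by
      obtain ⟨m, hm⟩ := exists_ne (1 : PSL(2, GaloisField 3 (2 * f0 + 1)))
      exact hm (hcen m (h1 ▸ mem_top _))
    obtain ⟨k, f, hf, ⟨e2⟩⟩ := ih C (Nat.lt_succ_iff.1 ((Fit.card_lt_card_of_ne_top hCt).trans_le hn))
      (fun H _ _ _ hH => hS H (hH.trans n.le_succ)) (h.subgroup C)
      (hg.of_surjective ((MonoidHom.snd _ _).comp φ.symm.toMonoidHom)
        (Prod.snd_surjective.comp φ.symm.surjective))
      (by rw [Fit.pPrimeCore_eq_subgroupOf, hO, bot_subgroupOf])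
    refine ⟨k + 1, Fin.cons f0 f, fun i => Fin.cases hf0 hf i, ⟨φ.symm.trans ?_⟩⟩
    exact ((MulEquiv.refl _).prodCongr e2).trans
      (consEquiv fun i => PSL(2, GaloisField 3 (2 * (Fin.cons f0 f : Fin (k + 1) → ℕ) i + 1)))

theorem IsProd.noReal (h : IsProd G) : NoReal G := by
  obtain ⟨k, f, -, ⟨e⟩⟩ := h
  refine NoReal.of_equiv (fun x hx hc => ?_) e.symm
  obtain ⟨c, hc⟩ := isConj_iff.1 hc
  have h1 : x = 1 := funext fun i =>
    (noReal_psl (galois_facts (f i)).1 (galois_facts (f i)).2).eq_one (n := c i) 1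
      (congrFun (orderOf_dvd_iff_pow_eq_one.1 (by rw [hx]; rfl) : x ^ 3 ^ 1 = 1) i) (congrFun hc i)
  rw [h1, orderOf_one] at hx
  omega

theorem noReal_of_quotient [Finite G] {N : Subgroup G} [N.Normal] (hN : ¬ 3 ∣ Nat.card N)
    (h : NoReal (G ⧸ N)) : NoReal G := fun x hx hc => by
  obtain ⟨c, hc⟩ := isConj_iff.1 hc
  have h1 := h.eq_one (n := QuotientGroup.mk' N c) (y := QuotientGroup.mk' N x) 1
    (by rw [pow_one, ← map_pow, ← hx, pow_orderOf_eq_one, map_one])
    (by rw [← map_inv, ← map_inv, ← map_mul, ← map_mul, hc])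
  exact hN (hx ▸ orderOf_dvd_natCard' ((QuotientGroup.eq_one_iff x).1 h1))
where
  orderOf_dvd_natCard' {N : Subgroup G} {x : G} (hx : x ∈ N) : orderOf x ∣ Nat.card N :=
    N.orderOf_dvd_natCard hx

/-- The structure theorem for groups of order at most `n`. -/
theorem main_of_simpleLe {G : Type u} [Group G] [Finite G] (hS : SimpleLe.{u} (Nat.card G))
    (hg : Gen2 G) : NoReal G ↔ IsProd (G ⧸ pPrimeCore 3 G) :=
  ⟨fun h => isProd_of_simpleLe _ _ (Nat.le_of_dvd Nat.card_pos (card_quotient_dvd_card _)) hS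
    (h.quotient _) (hg.of_surjective _ (QuotientGroup.mk'_surjective _))
    (Fit.pPrimeCore_quotient_pPrimeCore 3 G),
   fun h => noReal_of_quotient (Fit.not_dvd_card_pPrimeCore Nat.prime_three) h.noReal⟩

/-- The subgroup generated by all 2-elements. -/
def O2 (G : Type*) [Group G] : Subgroup G := closure {g : G | ∃ k : ℕ, orderOf g = 2 ^ k}

theorem mem_O2 {g : G} {k : ℕ} (h : g ^ 2 ^ k = 1) : g ∈ O2 G := by
  obtain ⟨c, -, hc⟩ := (Nat.dvd_prime_pow Nat.prime_two).1 (orderOf_dvd_of_pow_eq_one h)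
  exact subset_closure ⟨c, hc⟩

instance O2_normal : (O2 G).Normal := by
  refine ⟨fun x hx g => ?_⟩
  induction hx using closure_induction with
  | mem x hx =>
    obtain ⟨k, hk⟩ := hx
    exact mem_O2 (k := k) (by rw [conj_pow, ← hk, pow_orderOf_eq_one]; simp)
  | one => simpa using one_mem _
  | mul x y _ _ hx hy => rw [← conj_mul]; exact mul_mem hx hy
  | inv x _ hx => rw [← conj_inv]; exact inv_mem hx

theorem gen2_O2 : Gen2 (O2 G) := by
  rw [Gen2, eq_top_iff]
  rintro ⟨x, hx⟩ -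
  induction hx using closure_induction with
  | mem x hx =>
    obtain ⟨k, hk⟩ := hx
    exact subset_closure ⟨k, by rw [← hk, ← orderOf_coe]⟩
  | one => exact one_mem _
  | mul x y _ _ hx hy => exact mul_mem hx hy
  | inv x _ hx => exact inv_mem hx

/-- Structure of an arbitrary group of order at most `n`. -/
theorem isProd_O2 {G : Type u} [Group G] [Finite G] {n : ℕ} (hS : SimpleLe.{u} n)
    (hn : Nat.card G ≤ n) (h : NoReal G) : IsProd (O2 G ⧸ pPrimeCore 3 (O2 G)) :=
  (main_of_simpleLe (fun H _ _ _ hH => hS H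
    (hH.trans ((Nat.le_of_dvd Nat.card_pos (card_subgroup_dvd_card _)).trans hn))) gen2_O2).1
    (h.subgroup _)

/-- The induction step for simple groups. -/
def StepStmt : Prop :=
  ∀ (G : Type u) [Group G] [Finite G] [IsSimpleGroup G], SimpleLe.{u} (Nat.card G - 1) → NoReal G →
    3 ∣ Nat.card G → ¬ IsMulCommutative G →
    ∃ (F : Type) (_ : Field F) (_ : Finite F), Nonempty (G ≃* PSL(2, F))

theorem simpleLe_of_step (hs : StepStmt.{u}) (n : ℕ) : SimpleLe.{u} n := by
  induction n with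
  | zero => intro G _ _ _ hn; exact absurd hn (not_le.2 Nat.card_pos)
  | succ n ih =>
    intro G _ _ _ hn h h3 hc
    obtain ⟨F, _, _, ⟨e⟩⟩ := hs G (fun H _ _ _ hH => ih H (by omega)) h h3 hc
    exact isL2_of_equiv e h hc

/-- The statement, from the induction step for simple groups. -/
theorem final_of_step (hs : StepStmt.{u}) {G : Type u} [Group G] [Finite G]
    (hgen : Subgroup.closure {g : G | ∃ k : ℕ, orderOf g = 2 ^ k} = ⊤) :
    (∀ x : G, orderOf x = 3 → ¬ IsConj x x⁻¹) ↔ ∃ (k : ℕ) (f : Fin k → ℕ), (∀ i, 1 ≤ f i) ∧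
      Nonempty (G ⧸ Cfsg.pPrimeCore 3 G ≃* ((i : Fin k) →
        Matrix.ProjectiveSpecialLinearGroup (Fin 2) (GaloisField 3 (2 * f i + 1)))) :=
  main_of_simpleLe (simpleLe_of_step hs _) hgen

end Cfsg.Agent.NR
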