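import Cfsg.Agent.Lib.NR.Red
import Cfsg.Agent.Lib.BS.Bender
import Cfsg.Agent.Lib.BS.All

/-!
# Simple groups with a strongly embedded subgroup and no real element of order three
-/

set_option autoImplicit false

namespace Cfsg.Agent.NR

open Subgroup Matrix Cfsg

universe u

section
variable {F : Type*} [Field F]

/-- a cyclic permutation matrix in the special unitary group -/
def suA (q : ℕ) : SU 3 F q :=
  ⟨⟨!![0, 1, 0; 0, 0, 1; 1, 0, 0], by simp [det_fin_three]⟩, fun u v => by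
    change hermForm 3 F q (!![0, 1, 0; 0, 0, 1; 1, 0, 0] *ᵥ u) (!![0, 1, 0; 0, 0, 1; 1, 0, 0] *ᵥ v) = _
    simp [hermForm, Fin.sum_univ_three, mulVec, dotProduct]; ring⟩

/-- a transposition matrix in the special unitary group in characteristic two -/
def suB (q : ℕ) (h2 : (-1 : F) = 1) : SU 3 F q :=
  ⟨⟨!![0, 1, 0; 1, 0, 0; 0, 0, 1], by simp [det_fin_three, h2]⟩, fun u v => by
    change hermForm 3 F q (!![0, 1, 0; 1, 0, 0; 0, 0, 1] *ᵥ u) (!![0, 1, 0; 1, 0, 0; 0, 0, 1] *ᵥ v) = _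
    simp [hermForm, Fin.sum_univ_three, mulVec, dotProduct]; ring⟩

theorem suA_pow (q : ℕ) : (suA q : SU 3 F q) ^ 3 = 1 := by
  apply Subtype.ext; apply Subtype.ext
  change (!![0, 1, 0; 0, 0, 1; 1, 0, 0] : Matrix (Fin 3) (Fin 3) F) ^ 3 = 1
  rw [pow_succ, pow_two, one_fin_three]; simp

theorem suBA (q : ℕ) (h2 : (-1 : F) = 1) : suA q * (suB q h2 * suA q) = suB q h2 := by
  apply Subtype.ext; apply Subtype.ext
  change (!![0, 1, 0; 0, 0, 1; 1, 0, 0] : Matrix (Fin 3) (Fin 3) F) *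
    (!![0, 1, 0; 1, 0, 0; 0, 0, 1] * !![0, 1, 0; 0, 0, 1; 1, 0, 0]) = !![0, 1, 0; 1, 0, 0; 0, 0, 1]
  simp

theorem suA_not (q : ℕ) (h2 : (-1 : F) = 1) : suB q h2 * suA q ≠ suA q * suB q h2 := fun e => by
  have : (!![0, 1, 0; 1, 0, 0; 0, 0, 1] * !![0, 1, 0; 0, 0, 1; 1, 0, 0] : Matrix (Fin 3) (Fin 3) F) =
    !![0, 1, 0; 0, 0, 1; 1, 0, 0] * !![0, 1, 0; 1, 0, 0; 0, 0, 1] := congrArg (fun x => x.1.1) e
  simpa using congrFun (congrFun this 0) 0

theorem not_noReal_psu (q : ℕ) (h2 : (-1 : F) = 1) : ¬ NoReal (PSU 3 F q) := fun h => by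
  have := h.eq_one (n := QuotientGroup.mk (suB q h2)) 1 (y := QuotientGroup.mk (suA q))
    (by rw [pow_one, ← QuotientGroup.mk_pow, suA_pow, QuotientGroup.mk_one])
    (by rw [mul_inv_eq_iff_eq_mul, eq_inv_mul_iff_mul_eq, ← QuotientGroup.mk_mul,
      ← QuotientGroup.mk_mul, suBA])
  exact suA_not q h2 (mem_center_iff.1 ((QuotientGroup.eq_one_iff _).1 this) _)

end

theorem not_three_dvd_suzuki (m : ℕ) :
    ¬ 3 ∣ (2 ^ (2 * m + 1)) ^ 2 * ((2 ^ (2 * m + 1)) ^ 2 + 1) * (2 ^ (2 * m + 1) - 1) := by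
  have h : 2 ^ (2 * m + 1) % 3 = 2 := by
    rw [pow_succ, pow_mul, Nat.mul_mod, Nat.pow_mod]; simp
  generalize 2 ^ (2 * m + 1) = q at h
  obtain ⟨k, rfl⟩ : ∃ k, q = 3 * k + 2 := ⟨q / 3, by omega⟩
  rw [Nat.prime_three.dvd_mul, Nat.prime_three.dvd_mul]
  rintro ((h | h) | h)
  · have := Nat.prime_three.dvd_of_dvd_pow h; omega
  · rw [show (3 * k + 2) ^ 2 + 1 = 3 * (3 * k ^ 2 + 4 * k + 1) + 2 by ring] at h; omega
  · omega

/-- A simple group without real elements of order three that has a strongly embedded subgroup has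
order prime to three. -/
theorem NoReal.not_dvd_of_se {G : Type u} [Group G] [Finite G] [IsSimpleGroup G] (h : NoReal G)
    {H : Subgroup G} (hH : IsStronglyEmbedded H) : ¬ 3 ∣ Nat.card G := by
  obtain ⟨Q, t, hQ⟩ := BS.benderAll.simple hH
  rcases BS.suzuki hQ with ⟨F, _, _, _, -, ⟨e⟩⟩ | ⟨-, m, -, e⟩ | ⟨F, _, _, q, hq, h2, -, ⟨e⟩⟩
  · have h3 := (char_of_noReal (h.of_equiv e)).1
    have h2 : (2 : F) = 0 := CharTwo.two_eq_zero
    exact absurd (show (1 : F) = 0 by linear_combination h3 - h2) one_ne_zero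
  · rw [e]; exact not_three_dvd_suzuki m
  · have hc : ringChar F = 2 := FiniteField.even_card_iff_char_two.2 (by
      rw [hq]; exact Nat.even_iff.1 (h2.pow_of_ne_zero two_ne_zero))
    have h0 : ((2 : ℕ) : F) = 0 := hc ▸ ringChar.Nat.cast_ringChar
    exact absurd (h.of_equiv e) (not_noReal_psu q (by push_cast at h0; linear_combination -h0))

theorem NoReal.not_se {G : Type u} [Group G] [Finite G] [IsSimpleGroup G] (h : NoReal G)
    (h3 : 3 ∣ Nat.card G) (H : Subgroup G) : ¬ IsStronglyEmbedded H :=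
  fun hH => h.not_dvd_of_se hH h3

end Cfsg.Agent.NR
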